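import Mathlib
import Groth.Agent.EtFLC.Site
import Groth.Agent.EtSect.Locus

/-! Sections of constant etale sheaves: values at points. -/

universe u

open CategoryTheory CategoryTheory.Limits AlgebraicGeometry Opposite

set_option backward.isDefEq.respectTransparency false

noncomputable section

namespace Groth.Agent.EtMV

/-- Restriction of sections. -/
local notation "rs" => Groth.Agent.EtFLC.res

variable {X : Scheme.{u}} {M : Type} [AddCommGroup M]

/-- The constant presheaf. -/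
abbrev cPre0 (X : Scheme.{u}) (M : Type) [AddCommGroup M] : X.Etaleᵒᵖ ⥤ AddCommGrpCat.{u + 1} :=
  (Functor.const _).obj (AddCommGrpCat.of (ULift.{u + 1} M))

/-- The constant section with value `m`. -/
def cst (W : X.Etale) (m : M) : EtCoh.sect (EtCoh.const X M) W :=
  (toSheafify X.smallEtaleTopology (cPre0 X M)).app (op W) ⟨m⟩

theorem res_cst {W W' : X.Etale} (g : W' ⟶ W) (m : M) : rs (EtCoh.const X M) g (cst W m) = cst W' m :=
  (NatTrans.naturality_apply (toSheafify X.smallEtaleTopology (cPre0 X M)) g.op ⟨m⟩).symm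

theorem exists_cst {W : X.Etale} (s : EtCoh.sect (EtCoh.const X M) W) (w : W.left) :
    ∃ (Z : X.Etale) (h : Z ⟶ W) (z : Z.left) (m : M), h.left z = w ∧ rs (EtCoh.const X M) h s = cst Z m := by
  haveI : Presheaf.IsLocallySurjective X.smallEtaleTopology (toSheafify X.smallEtaleTopology (cPre0 X M)) :=
    inferInstance
  obtain ⟨Z, h, z, ⟨⟨m⟩, hm⟩, hz⟩ := (EtFLC.mem_iff _).1
    (Presheaf.imageSieve_mem X.smallEtaleTopology (toSheafify X.smallEtaleTopology (cPre0 X M)) s) w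
  exact ⟨Z, h, z, m, hz, hm.symm⟩

theorem cst_inj {W : X.Etale} (w : W.left) {m m' : M} (h : cst W m = cst W m') : m = m' := by
  haveI : Presheaf.IsLocallyInjective X.smallEtaleTopology (toSheafify X.smallEtaleTopology (cPre0 X M)) :=
    inferInstance
  obtain ⟨Z, g, z, hg, -⟩ := (EtFLC.mem_iff _).1 (Presheaf.equalizerSieve_mem X.smallEtaleTopology
    (toSheafify X.smallEtaleTopology (cPre0 X M)) (X := op W) ⟨m⟩ ⟨m'⟩ h) w
  exact congrArg ULift.down (show (⟨m⟩ : ULift.{u + 1} M) = ⟨m'⟩ from hg)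

theorem exists_refinement {W Z₁ Z₂ : X.Etale} (h₁ : Z₁ ⟶ W) (h₂ : Z₂ ⟶ W) (z₁ : Z₁.left) (z₂ : Z₂.left)
    (e : h₁.left z₁ = h₂.left z₂) : ∃ (T : X.Etale) (a : T ⟶ Z₁) (b : T ⟶ Z₂) (t : T.left),
      a ≫ h₁ = b ≫ h₂ ∧ a.left t = z₁ := by
  haveI : Etale h₂.left := EtSect.etale_left h₂
  haveI : Etale Z₁.hom := Z₁.prop
  obtain ⟨t, ht, -⟩ := Scheme.Pullback.exists_preimage_pullback z₁ z₂ e
  haveI : Etale (pullback.fst h₁.left h₂.left) := MorphismProperty.pullback_fst _ _ inferInstance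
  let T : X.Etale := Scheme.Etale.mk (pullback.fst h₁.left h₂.left ≫ Z₁.hom)
  let a : T ⟶ Z₁ := MorphismProperty.Over.homMk (pullback.fst h₁.left h₂.left) rfl
  let b : T ⟶ Z₂ := MorphismProperty.Over.homMk (pullback.snd h₁.left h₂.left) (by
    show _ ≫ Z₂.hom = pullback.fst h₁.left h₂.left ≫ Z₁.hom
    rw [← MorphismProperty.Over.w h₁, ← MorphismProperty.Over.w h₂, ← Category.assoc, ← Category.assoc,
      pullback.condition])
  refine ⟨T, a, b, t, ?_, ht⟩
  apply MorphismProperty.Over.Hom.ext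
  exact pullback.condition

theorem cst_value_unique {W : X.Etale} (s : EtCoh.sect (EtCoh.const X M) W) {Z₁ Z₂ : X.Etale}
    (h₁ : Z₁ ⟶ W) (h₂ : Z₂ ⟶ W) (z₁ : Z₁.left) (z₂ : Z₂.left) (e : h₁.left z₁ = h₂.left z₂) {m₁ m₂ : M}
    (e₁ : rs _ h₁ s = cst Z₁ m₁) (e₂ : rs _ h₂ s = cst Z₂ m₂) : m₁ = m₂ := by
  obtain ⟨T, a, b, t, hab, -⟩ := exists_refinement h₁ h₂ z₁ z₂ e
  refine cst_inj t ?_
  rw [← res_cst a m₁, ← res_cst b m₂, ← e₁, ← e₂, EtFLC.res_res, EtFLC.res_res, hab]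

/-- The value of a section at a point. -/
def valAt {W : X.Etale} (s : EtCoh.sect (EtCoh.const X M) W) (w : W.left) : M :=
  (exists_cst s w).choose_spec.choose_spec.choose_spec.choose

theorem valAt_eq {W Z : X.Etale} {s : EtCoh.sect (EtCoh.const X M) W} {h : Z ⟶ W} (z : Z.left) {m : M}
    (e : rs _ h s = cst Z m) : valAt s (h.left z) = m :=
  cst_value_unique s _ h _ z (exists_cst s (h.left z)).choose_spec.choose_spec.choose_spec.choose_spec.1
    (exists_cst s (h.left z)).choose_spec.choose_spec.choose_spec.choose_spec.2 e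

theorem valAt_res {W W' : X.Etale} (g : W' ⟶ W) (s : EtCoh.sect (EtCoh.const X M) W) (w : W'.left) :
    valAt (rs _ g s) w = valAt s (g.left w) := by
  obtain ⟨Z, h, z, m, rfl, hm⟩ := exists_cst (rs _ g s) w
  rw [valAt_eq z hm]
  exact (valAt_eq (h := h ≫ g) z (by rw [← EtFLC.res_res]; exact hm)).symm

@[simp] theorem valAt_cst {W : X.Etale} (m : M) (w : W.left) : valAt (cst W m) w = m :=
  valAt_eq (h := 𝟙 W) w (res_cst _ m)

variable [IsIntegral X]

theorem exists_generic_specializes (W : X.Etale) (w : W.left) :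
    ∃ η : W.left, W.hom η = genericPoint X ∧ η ⤳ w := by
  let g : W.left ⟶ X := W.hom
  haveI : Etale g := W.prop
  obtain ⟨η, h1, h2⟩ := Flat.generalizingMap g (genericPoint_specializes (g w))
  exact ⟨η, h2, h1⟩

theorem ext_valAt {W : X.Etale} {s t : EtCoh.sect (EtCoh.const X M) W}
    (h : ∀ η : W.left, W.hom η = genericPoint X → valAt s η = valAt t η) : s = t := by
  refine EtFLC.sect_ext _ fun w => ?_
  obtain ⟨Z₁, h₁, z₁, m₁, hz₁, e₁⟩ := exists_cst s w
  obtain ⟨Z₂, h₂, z₂, m₂, hz₂, e₂⟩ := exists_cst t w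
  obtain ⟨T, a, b, t₀, hab, hta⟩ := exists_refinement h₁ h₂ z₁ z₂ (hz₁.trans hz₂.symm)
  have f₁ : rs _ (a ≫ h₁) s = cst T m₁ := by rw [← EtFLC.res_res, e₁, res_cst]
  have f₂ : rs _ (a ≫ h₁) t = cst T m₂ := by rw [hab, ← EtFLC.res_res, e₂, res_cst]
  refine ⟨T, a ≫ h₁, t₀, by rw [EtFLC.comp_left_apply, hta, hz₁], ?_⟩
  obtain ⟨η, hη, -⟩ := exists_generic_specializes T t₀
  have := h ((a ≫ h₁).left η) (by
    show ((a ≫ h₁).left ≫ W.hom) η = _
    rw [MorphismProperty.Over.w]; exact hη)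
  rw [valAt_eq η f₁, valAt_eq η f₂] at this
  rw [f₁, f₂, this]

end Groth.Agent.EtMV
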