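import Mathlib

/-! Change of source for `Ext` along an exact functor. -/

universe w w' w'' v v' v'' u u' u''

open CategoryTheory CategoryTheory.Limits CategoryTheory.Abelian

noncomputable section

namespace Groth.Agent.EtMV

variable {A : Type u} [Category.{v} A] [Abelian A] [HasExt.{w} A]
  {B : Type u'} [Category.{v'} B] [Abelian B] [HasExt.{w'} B]

section

variable (F : A ⥤ B) [F.Additive] [PreservesFiniteLimits F] [PreservesFiniteColimits F]

/-- `x ↦ c ≫ F x`. -/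
def T {P : A} {Q : B} (c : Q ⟶ F.obj P) (G : A) (n : ℕ) : Ext P G n →+ Ext Q (F.obj G) n :=
  AddMonoidHom.comp
    (AddMonoidHom.mk' (fun e => (Ext.mk₀ c).comp e (zero_add n)) (fun _ _ => Ext.comp_add _ _ _ _))
    (F.mapExtAddHom P G n)

theorem T_apply {P : A} {Q : B} (c : Q ⟶ F.obj P) (G : A) (n : ℕ) (x : Ext P G n) :
    T F c G n x = (Ext.mk₀ c).comp (x.mapExactFunctor F) (zero_add n) := rfl

theorem T_mk₀ {P : A} {Q : B} (c : Q ⟶ F.obj P) {G : A} (φ : P ⟶ G) :
    T F c G 0 (Ext.mk₀ φ) = Ext.mk₀ (c ≫ F.map φ) := by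
  rw [T_apply, Ext.mapExactFunctor_mk₀, Ext.mk₀_comp_mk₀]

theorem T_comp {P : A} {Q : B} (c : Q ⟶ F.obj P) {G G' : A} {a b n : ℕ} (x : Ext P G a)
    (e : Ext G G' b) (h : a + b = n) :
    T F c G' n (x.comp e h) = (T F c G a x).comp (e.mapExactFunctor F) h := by
  rw [T_apply, T_apply, Ext.mapExactFunctor_comp,
    Ext.comp_assoc (a₂₃ := n) _ _ _ (zero_add a) h (by lia)]

theorem T_comp_mk₀ {P : A} {Q : B} (c : Q ⟶ F.obj P) {G G' : A} {n : ℕ} (x : Ext P G n) (g : G ⟶ G') :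
    T F c G' n (x.comp (Ext.mk₀ g) (add_zero n)) =
      (T F c G n x).comp (Ext.mk₀ (F.map g)) (add_zero n) := by
  rw [T_comp, Ext.mapExactFunctor_mk₀]

theorem T_precomp {P P' : A} {Q : B} (c : Q ⟶ F.obj P') (b : P' ⟶ P) (G : A) (n : ℕ) (x : Ext P G n) :
    T F c G n ((Ext.mk₀ b).comp x (zero_add n)) = T F (c ≫ F.map b) G n x := by
  rw [T_apply, T_apply, Ext.mapExactFunctor_comp, Ext.mapExactFunctor_mk₀, Ext.mk₀_comp_mk₀_assoc]

theorem precomp_T {P : A} {Q Q' : B} (c : Q ⟶ F.obj P) (q : Q' ⟶ Q) (G : A) (n : ℕ) (x : Ext P G n) :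
    (Ext.mk₀ q).comp (T F c G n x) (zero_add n) = T F (q ≫ c) G n x := by
  rw [T_apply, T_apply, Ext.mk₀_comp_mk₀_assoc]

theorem T_bijective [EnoughInjectives A] [F.PreservesInjectiveObjects] {P : A} {Q : B}
    (c : Q ⟶ F.obj P) (h : ∀ G, Function.Bijective (fun φ : P ⟶ G => c ≫ F.map φ)) (n : ℕ) :
    ∀ G : A, Function.Bijective (T F c G n) := by
  induction n with
  | zero =>
    intro G
    refine ⟨fun a b hab => ?_, fun y => ?_⟩
    · obtain ⟨φ, rfl⟩ := (Ext.mk₀_bijective P G).2 a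
      obtain ⟨φ', rfl⟩ := (Ext.mk₀_bijective P G).2 b
      rw [T_mk₀, T_mk₀] at hab
      exact congrArg _ ((h G).1 ((Ext.mk₀_bijective _ _).1 hab))
    · obtain ⟨ψ, rfl⟩ := (Ext.mk₀_bijective _ _).2 y
      obtain ⟨φ, rfl⟩ := (h G).2 ψ
      exact ⟨Ext.mk₀ φ, T_mk₀ F c φ⟩
  | succ n ih =>
    intro G
    let S : ShortComplex A := ShortComplex.mk (Injective.ι G) (cokernel.π (Injective.ι G))
      (cokernel.condition _)
    have hS : S.ShortExact :=
      { exact := ShortComplex.exact_of_g_is_cokernel _ (cokernelIsCokernel S.f)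
        mono_f := inferInstanceAs (Mono (Injective.ι G))
        epi_g := inferInstanceAs (Epi (cokernel.π _)) }
    have hI : Injective S.X₂ := inferInstanceAs (Injective (Injective.under G))
    have hFI : Injective ((S.map F).X₂) := inferInstanceAs (Injective (F.obj (Injective.under G)))
    have he := Ext.mapExactFunctor_extClass F hS
    refine ⟨(injective_iff_map_eq_zero _).2 fun x hx => ?_, fun y => ?_⟩
    · obtain ⟨w, rfl⟩ := Ext.covariant_sequence_exact₁ P hS x (Ext.eq_zero_of_injective _) rfl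
      rw [T_comp, he] at hx
      obtain ⟨v, hv⟩ := Ext.covariant_sequence_exact₃ Q (hS.map_of_exact F) _ rfl hx
      obtain ⟨v', rfl⟩ := (ih S.X₂).2 v
      have : v'.comp (Ext.mk₀ S.g) (add_zero n) = w := (ih S.X₃).1 ((T_comp_mk₀ F c v' S.g).trans hv)
      rw [← this, Ext.comp_assoc (a₂₃ := 1) _ _ _ (add_zero n) (zero_add 1) (by lia),
        hS.comp_extClass, Ext.comp_zero]
    · obtain ⟨z, hz⟩ := Ext.covariant_sequence_exact₁ Q (hS.map_of_exact F) y
        (Ext.eq_zero_of_injective (I := (S.map F).X₂) _) rfl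
      obtain ⟨w, rfl⟩ := (ih S.X₃).2 z
      exact ⟨w.comp hS.extClass rfl, by rw [T_comp, he]; exact hz⟩

end

variable {C : Type u''} [Category.{v''} C] [Abelian C] [HasExt.{w''} C]

theorem T_T [EnoughInjectives A]
    (F₁ : A ⥤ B) [F₁.Additive] [PreservesFiniteLimits F₁] [PreservesFiniteColimits F₁]
    (F₂ : B ⥤ C) [F₂.Additive] [PreservesFiniteLimits F₂] [PreservesFiniteColimits F₂]
    (F₃ : A ⥤ C) [F₃.Additive] [PreservesFiniteLimits F₃] [PreservesFiniteColimits F₃]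
    (ψ : F₁ ⋙ F₂ ≅ F₃) {P : A} {Q : B} {R : C} (c₁ : Q ⟶ F₁.obj P) (c₂ : R ⟶ F₂.obj Q)
    (c₃ : R ⟶ F₃.obj P) (h : c₂ ≫ F₂.map c₁ ≫ ψ.hom.app P = c₃) (n : ℕ) :
    ∀ (G : A) (x : Ext P G n),
      (T F₂ c₂ (F₁.obj G) n (T F₁ c₁ G n x)).comp (Ext.mk₀ (ψ.hom.app G)) (add_zero n) =
        T F₃ c₃ G n x := by
  induction n with
  | zero =>
    intro G x
    obtain ⟨φ, rfl⟩ := (Ext.mk₀_bijective P G).2 x
    rw [T_mk₀, T_mk₀, T_mk₀, Ext.mk₀_comp_mk₀, ← h]
    congr 1
    have := ψ.hom.naturality φ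
    simp only [Functor.comp_map] at this
    simp only [Functor.map_comp, Category.assoc, this]
  | succ n ih =>
    intro G x
    let S : ShortComplex A := ShortComplex.mk (Injective.ι G) (cokernel.π (Injective.ι G))
      (cokernel.condition _)
    have hS : S.ShortExact :=
      { exact := ShortComplex.exact_of_g_is_cokernel _ (cokernelIsCokernel S.f)
        mono_f := inferInstanceAs (Mono (Injective.ι G))
        epi_g := inferInstanceAs (Epi (cokernel.π _)) }
    have hI : Injective S.X₂ := inferInstanceAs (Injective (Injective.under G))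
    obtain ⟨w, rfl⟩ := Ext.covariant_sequence_exact₁ P hS x (Ext.eq_zero_of_injective _) rfl
    let f : (S.map F₁).map F₂ ⟶ S.map F₃ :=
      { τ₁ := ψ.hom.app _, τ₂ := ψ.hom.app _, τ₃ := ψ.hom.app _
        comm₁₂ := (ψ.hom.naturality _).symm
        comm₂₃ := (ψ.hom.naturality _).symm }
    have hn := ShortComplex.ShortExact.extClass_naturality
      ((hS.map_of_exact F₁).map_of_exact F₂) (hS.map_of_exact F₃) f
    rw [T_comp, T_comp, T_comp, Ext.mapExactFunctor_extClass]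
    erw [Ext.mapExactFunctor_extClass F₂ (hS.map_of_exact F₁), Ext.mapExactFunctor_extClass F₃ hS]
    rw [← ih]
    erw [Ext.comp_assoc (a₂₃ := 1) _ _ _ rfl (add_zero 1) (by lia), hn]
    exact (Ext.comp_assoc (a₁₂ := n) _ _ _ (add_zero n) (zero_add 1) (by lia)).symm

end Groth.Agent.EtMV
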