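import Mathlib
import Groth.Agent.EtMV.Ext
import Groth.Agent.RDerLib.LES

/-! `Ext` and right adjoints: acyclic objects. -/

universe w w' v v' u u'

open CategoryTheory CategoryTheory.Limits CategoryTheory.Abelian

set_option backward.isDefEq.respectTransparency false

noncomputable section

namespace Groth.Agent.EtMV

variable {A : Type u} [Category.{v} A] [Abelian A]

/-- An embedding into an injective object with its cokernel. -/
def injSeq [EnoughInjectives A] (G : A) : ShortComplex A :=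
  ShortComplex.mk (Injective.ι G) (cokernel.π (Injective.ι G)) (cokernel.condition _)

theorem injSeq_shortExact [EnoughInjectives A] (G : A) : (injSeq G).ShortExact :=
  { exact := ShortComplex.exact_of_g_is_cokernel _ (cokernelIsCokernel (Injective.ι G))
    mono_f := inferInstanceAs (Mono (Injective.ι G))
    epi_g := inferInstanceAs (Epi (cokernel.π _)) }

instance [EnoughInjectives A] (G : A) : Injective (injSeq G).X₂ :=
  inferInstanceAs (Injective (Injective.under G))

variable {B : Type u'} [Category.{v'} B] [Abelian B] [EnoughInjectives A] {L : B ⥤ A} {R : A ⥤ B}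
  [R.Additive] (adj : L ⊣ R)

include adj in
theorem shortExact_map {S : ShortComplex A} (hS : S.ShortExact)
    (h : IsZero ((R.rightDerived 1).obj S.X₁)) : (S.map R).ShortExact := by
  haveI : R.IsRightAdjoint := adj.isRightAdjoint
  haveI : PreservesFiniteLimits R := inferInstance
  have he := (Groth.Agent.RDerLib.derivedLES R).exact₃ S hS 0 1 rfl
  have h3 : Epi ((R.rightDerived 0).map S.g) := he.epi_f (h.eq_of_tgt _ _)
  haveI : Epi (R.map S.g) := by
    have e : R.map S.g = R.rightDerivedZeroIsoSelf.inv.app S.X₂ ≫ (R.rightDerived 0).map S.g ≫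
        R.rightDerivedZeroIsoSelf.hom.app S.X₃ := by
      rw [NatTrans.naturality, Iso.inv_hom_id_app_assoc]
    rw [e]
    exact epi_comp _ _
  haveI := hS.mono_f
  refine ShortComplex.ShortExact.mk' ?_ (inferInstanceAs (Mono (R.map S.f))) ‹_›
  exact ShortComplex.exact_of_f_is_kernel _ (KernelFork.mapIsLimit _ hS.fIsKernel R)

theorem isZero_rightDerived_X₃ {S : ShortComplex A} (hS : S.ShortExact) [Injective S.X₂]
    (q : ℕ) (h : IsZero ((R.rightDerived (q + 1 + 1)).obj S.X₁)) :
    IsZero ((R.rightDerived (q + 1)).obj S.X₃) := by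
  have he := (Groth.Agent.RDerLib.derivedLES R).exact₃ S hS (q + 1) (q + 1 + 1) rfl
  exact he.isZero_X₂ ((R.isZero_rightDerived_obj_injective_succ q S.X₂).eq_of_src _ _) (h.eq_of_tgt _ _)

variable [HasExt.{w} A] [HasExt.{w'} B] [L.Additive] [PreservesFiniteLimits L] [PreservesFiniteColimits L]

/-- `Ext^n(P, R G) → Ext^n(Q, G)`. -/
def U {P : B} {Q : A} (c : Q ⟶ L.obj P) (G : A) (n : ℕ) : Ext P (R.obj G) n →+ Ext Q G n :=
  AddMonoidHom.mk' (fun x => (T L c (R.obj G) n x).comp (Ext.mk₀ (adj.counit.app G)) (add_zero n))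
    (fun x y => by simp [Ext.add_comp])

theorem U_apply {P : B} {Q : A} (c : Q ⟶ L.obj P) (G : A) (n : ℕ) (x : Ext P (R.obj G) n) :
    U adj c G n x = (T L c (R.obj G) n x).comp (Ext.mk₀ (adj.counit.app G)) (add_zero n) := rfl

theorem U_comp_mk₀ {P : B} {Q : A} (c : Q ⟶ L.obj P) {G G' : A} (n : ℕ) (x : Ext P (R.obj G) n) (g : G ⟶ G') :
    U adj c G' n (x.comp (Ext.mk₀ (R.map g)) (add_zero n)) =
      (U adj c G n x).comp (Ext.mk₀ g) (add_zero n) := by
  rw [U_apply, U_apply, T_comp_mk₀, Ext.comp_assoc_of_second_deg_zero, Ext.mk₀_comp_mk₀,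
    Ext.comp_assoc_of_second_deg_zero, Ext.mk₀_comp_mk₀]
  congr 2
  exact adj.counit.naturality g

theorem U_comp_extClass {P : B} {Q : A} (c : Q ⟶ L.obj P) {S : ShortComplex A} (hS : S.ShortExact)
    (hR : (S.map R).ShortExact) {n m : ℕ} (h : n + 1 = m) (x : Ext P (R.obj S.X₃) n) :
    U adj c S.X₁ m (x.comp hR.extClass h) = (U adj c S.X₃ n x).comp hS.extClass h := by
  rw [U_apply, U_apply, T_comp, Ext.mapExactFunctor_extClass L hR]
  let φ : (S.map R).map L ⟶ S :=
    { τ₁ := adj.counit.app S.X₁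
      τ₂ := adj.counit.app S.X₂
      τ₃ := adj.counit.app S.X₃
      comm₁₂ := (adj.counit.naturality S.f).symm
      comm₂₃ := (adj.counit.naturality S.g).symm }
  have hn := ShortComplex.ShortExact.extClass_naturality (hR.map_of_exact L) hS φ
  rw [Ext.comp_assoc (a₂₃ := 1) _ _ _ h (add_zero 1) (by lia),
    Ext.comp_assoc (a₂₃ := 1) _ _ _ (add_zero n) (zero_add 1) (by lia)]
  exact congrArg (fun t => (T L c (R.obj S.X₃) n x).comp t h) hn

theorem U_bijective [R.PreservesInjectiveObjects] {P : B} {Q : A} (c : Q ⟶ L.obj P) [IsIso c] (n : ℕ) :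
    ∀ G : A, (∀ q : ℕ, IsZero ((R.rightDerived (q + 1)).obj G)) → Function.Bijective (U adj c G n) := by
  induction n with
  | zero =>
    intro G _
    have key : ∀ φ : P ⟶ R.obj G, U adj c G 0 (Ext.mk₀ φ) = Ext.mk₀ (c ≫ (adj.homEquiv _ _).symm φ) := fun φ => by
      rw [U_apply, T_mk₀, Ext.mk₀_comp_mk₀, Category.assoc, Adjunction.homEquiv_counit]
    refine ⟨fun a b hab => ?_, fun y => ?_⟩
    · obtain ⟨φ, rfl⟩ := (Ext.mk₀_bijective _ _).2 a
      obtain ⟨φ', rfl⟩ := (Ext.mk₀_bijective _ _).2 b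
      rw [key, key] at hab
      exact congrArg _ ((adj.homEquiv _ _).symm.injective ((cancel_epi c).1 ((Ext.mk₀_bijective _ _).1 hab)))
    · obtain ⟨ψ, rfl⟩ := (Ext.mk₀_bijective _ _).2 y
      refine ⟨Ext.mk₀ (adj.homEquiv _ _ (inv c ≫ ψ)), ?_⟩
      rw [key, Equiv.symm_apply_apply, IsIso.hom_inv_id_assoc]
  | succ n ih =>
    intro G hG
    have hS := injSeq_shortExact G
    have hR := shortExact_map adj hS (hG 0)
    have hIacyc : ∀ q : ℕ, IsZero ((R.rightDerived (q + 1)).obj (injSeq G).X₂) := fun q =>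
      R.isZero_rightDerived_obj_injective_succ q _
    have hQacyc : ∀ q : ℕ, IsZero ((R.rightDerived (q + 1)).obj (injSeq G).X₃) := fun q =>
      isZero_rightDerived_X₃ hS q (hG (q + 1))
    haveI : Injective ((injSeq G).map R).X₂ := R.injective_obj _
    refine ⟨(injective_iff_map_eq_zero _).2 fun x hx => ?_, fun y => ?_⟩
    · obtain ⟨z, rfl⟩ := Ext.covariant_sequence_exact₁ P hR x (Ext.eq_zero_of_injective _) rfl
      have hx' : (U adj c (injSeq G).X₃ n z).comp hS.extClass rfl = 0 :=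
        (U_comp_extClass adj c hS hR rfl z).symm.trans hx
      obtain ⟨v, hv⟩ := Ext.covariant_sequence_exact₃ Q hS _ rfl hx'
      obtain ⟨v', rfl⟩ := (ih (injSeq G).X₂ hIacyc).2 v
      rw [← U_comp_mk₀] at hv
      rw [← (ih _ hQacyc).1 hv]
      exact Ext.comp_assoc_of_second_deg_zero _ _ _ _ |>.trans
        ((congrArg (fun t => v'.comp t rfl) (hR.comp_extClass)).trans (Ext.comp_zero _ _ _ _ _))
    · obtain ⟨z, hz⟩ := Ext.covariant_sequence_exact₁ Q hS y (Ext.eq_zero_of_injective _) rfl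
      obtain ⟨z', rfl⟩ := (ih _ hQacyc).2 z
      exact ⟨z'.comp hR.extClass rfl, (U_comp_extClass adj c hS hR rfl z').trans hz⟩

end Groth.Agent.EtMV
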