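import Mathlib
import Groth.Prelude.Def_EtBase

/-! Canonical instance terms, syntactically those used inside `EtCoh.H`. -/

universe u

open CategoryTheory AlgebraicGeometry

set_option linter.auxLemma false

noncomputable section

namespace Groth.Agent.EtMV

attribute [local instance 100000] EtCoh.H._proof_1

/-- The `HasExt` instance used by `EtCoh.H`. -/
theorem hext (X : Scheme.{u}) : HasExt.{u + 1} (Sheaf X.smallEtaleTopology AddCommGrpCat.{u + 1}) :=
  EtCoh.H._proof_4 X

/-- The same instance, keyed on `EtCoh.Ab X`: avoids expensive kernel comparisons of `HasExt` types. -/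
theorem hextAb (X : Scheme.{u}) : HasExt.{u + 1} (EtCoh.Ab X) := hext X

end Groth.Agent.EtMV
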