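import Mathlib
import Groth.Prelude.Def_EtBase
import Groth.Agent.EtInvariance.SchemePush
import Groth.Agent.EtMV.Inst

/-! Free abelian sheaves on objects of the small etale site. -/

universe u

open CategoryTheory CategoryTheory.Limits AlgebraicGeometry Opposite

set_option backward.isDefEq.respectTransparency false

noncomputable section

namespace Groth.Agent.EtMV

set_option linter.auxLemma false
attribute [local instance 100000] EtCoh.H._proof_1 hext
attribute [local instance 200000] hextAb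

variable {X : Scheme.{u}}

/-- The free abelian presheaf on an object. -/
def freePre (X : Scheme.{u}) : X.Etale ⥤ X.Etaleᵒᵖ ⥤ AddCommGrpCat.{u + 1} :=
  uliftYoneda.{u + 1} ⋙ (Functor.whiskeringRight _ _ _).obj AddCommGrpCat.free

/-- The free abelian sheaf on an object. -/
def P (X : Scheme.{u}) : X.Etale ⥤ EtCoh.Ab X :=
  freePre X ⋙ presheafToSheaf X.smallEtaleTopology AddCommGrpCat.{u + 1}

/-- Yoneda for free abelian sheaves. -/
def σ {o : X.Etale} {G : EtCoh.Ab X} : ((P X).obj o ⟶ G) ≃ EtCoh.sect G o :=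
  ((sheafificationAdjunction X.smallEtaleTopology AddCommGrpCat.{u + 1}).homEquiv _ G).trans
    (((AddCommGrpCat.adj.whiskerRight X.Etaleᵒᵖ).homEquiv _ G.obj).trans uliftYonedaEquiv.{u + 1})

theorem σ_comp {o : X.Etale} {G G' : EtCoh.Ab X} (φ : (P X).obj o ⟶ G) (ψ : G ⟶ G') :
    σ (φ ≫ ψ) = ψ.hom.app (op o) (σ φ) := by
  simp only [σ, Equiv.trans_apply]
  erw [Adjunction.homEquiv_naturality_right]
  erw [Adjunction.homEquiv_naturality_right, uliftYonedaEquiv_comp]

theorem σ_map {o o' : X.Etale} (f : o' ⟶ o) {G : EtCoh.Ab X} (φ : (P X).obj o ⟶ G) :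
    σ ((P X).map f ≫ φ) = G.obj.map f.op (σ φ) := by
  simp only [σ, Equiv.trans_apply, P, freePre, Functor.comp_map]
  erw [Adjunction.homEquiv_naturality_left]
  erw [Adjunction.homEquiv_naturality_left]
  exact (uliftYonedaEquiv_naturality _ f.op).symm

theorem σ_add {o : X.Etale} {G : EtCoh.Ab X} (φ ψ : (P X).obj o ⟶ G) : σ (φ + ψ) = σ φ + σ ψ := by
  rw [show φ + ψ = biprod.lift φ ψ ≫ (biprod.fst + biprod.snd) by simp, σ_comp]
  simp [← σ_comp]

/-- The universal section. -/
def uel (o : X.Etale) : EtCoh.sect ((P X).obj o) o := σ (𝟙 _)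

theorem σ_eq {o : X.Etale} {G : EtCoh.Ab X} (φ : (P X).obj o ⟶ G) :
    σ φ = φ.hom.app (op o) (uel o) := by
  rw [uel, ← σ_comp, Category.id_comp]

theorem mono_P_map {o o' : X.Etale} (f : o' ⟶ o) [Mono f] : Mono ((P X).map f) := by
  have : Mono ((freePre X).map f) := by
    rw [NatTrans.mono_iff_mono_app]
    intro T
    have : Mono (((uliftYoneda.{u + 1}).map f).app T) := by
      rw [mono_iff_injective]
      rintro ⟨a⟩ ⟨b⟩ h
      exact ULift.ext _ _ ((cancel_mono f).1 (ULift.up_injective h))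
    exact inferInstanceAs (Mono (AddCommGrpCat.free.map _))
  exact inferInstanceAs (Mono ((presheafToSheaf _ _).map ((freePre X).map f)))

/-- The object of the small etale site given by an open subscheme. -/
def oo (U : X.Opens) : X.Etale := Scheme.Etale.mk U.ι

theorem hom_oo_ext {T : X.Etale} {U : X.Opens} (a b : T ⟶ oo U) : a = b := by
  apply (Scheme.Etale.forget X).map_injective
  ext : 1
  have ha := MorphismProperty.Over.w a
  have hb := MorphismProperty.Over.w b
  exact (cancel_mono U.ι).1 (ha.trans hb.symm)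

/-- Inclusion of opens. -/
def res {U V : X.Opens} (h : U ≤ V) : oo U ⟶ oo V :=
  MorphismProperty.Over.homMk (X.homOfLE h) (X.homOfLE_ι h)

instance {U V : X.Opens} (h : U ≤ V) : Mono (res h) :=
  ⟨fun a b _ => hom_oo_ext a b⟩

def toTop (o : X.Etale) : o ⟶ EtCoh.top X :=
  MorphismProperty.Over.homMk o.hom (Category.comp_id _)

theorem hom_top_ext {T : X.Etale} (a b : T ⟶ EtCoh.top X) : a = b := by
  apply (Scheme.Etale.forget X).map_injective
  exact Over.mkIdTerminal.hom_ext _ _

theorem exists_lift {T : X.Etale} {U : X.Opens} (h : Set.range T.hom ⊆ (U : Set X)) : Nonempty (T ⟶ oo U) :=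
  ⟨MorphismProperty.Over.homMk (IsOpenImmersion.lift U.ι T.hom (h.trans_eq U.range_ι.symm))
    (IsOpenImmersion.lift_fac _ _ _)⟩

theorem range_subset {T : X.Etale} {U : X.Opens} (a : T ⟶ oo U) : Set.range T.hom ⊆ (U : Set X) := by
  rintro _ ⟨t, rfl⟩
  rw [← MorphismProperty.Over.w a, Scheme.Hom.comp_apply]
  exact (a.left t).2

theorem glue {U V : X.Opens} (hUV : U ⊔ V = ⊤) (G : EtCoh.Ab X) (s : EtCoh.sect G (oo U))
    (t : EtCoh.sect G (oo V))
    (h : G.obj.map (res (inf_le_left : U ⊓ V ≤ U)).op s = G.obj.map (res (inf_le_right : U ⊓ V ≤ V)).op t) :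
    ∃! x : EtCoh.sect G (EtCoh.top X),
      G.obj.map (toTop (oo U)).op x = s ∧ G.obj.map (toTop (oo V)).op x = t := by
  let o : Bool → X.Etale := fun b => cond b (oo U) (oo V)
  let π : ∀ b, o b ⟶ EtCoh.top X := fun b => toTop (o b)
  have hsh : Presieve.IsSheafFor (G.obj ⋙ forget AddCommGrpCat.{u + 1}) (Presieve.ofArrows o π) := by
    refine ((isSheaf_iff_isSheaf_of_type _ _).1
      ((sheafCompose X.smallEtaleTopology (forget AddCommGrpCat.{u + 1})).obj G).property).isSheafFor _ ?_
    refine EtInvariance.SchemePush.mem_of_surjective fun (x : X) => ?_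
    have hx : x ∈ U ⊔ V := hUV ▸ trivial
    rcases hx with hx | hx
    · exact ⟨o true, π true, ⟨_, 𝟙 _, π true, Presieve.ofArrows.mk (f := π) true, Category.id_comp _⟩, ⟨⟨x, hx⟩, rfl⟩⟩
    · exact ⟨o false, π false, ⟨_, 𝟙 _, π false, Presieve.ofArrows.mk (f := π) false, Category.id_comp _⟩, ⟨⟨x, hx⟩, rfl⟩⟩
  let z : ∀ b, EtCoh.sect G (o b) := fun b => match b with
    | true => s
    | false => t
  have key : ∀ {Z : X.Etale} (a : Z ⟶ oo U) (b : Z ⟶ oo V), G.obj.map a.op s = G.obj.map b.op t := by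
    intro Z a b
    obtain ⟨c⟩ := exists_lift (U := U ⊓ V) (T := Z) (Set.subset_inter (range_subset a) (range_subset b))
    have hh := congrArg (G.obj.map c.op) h
    rw [← ConcreteCategory.comp_apply, ← ConcreteCategory.comp_apply, ← G.obj.map_comp,
      ← G.obj.map_comp, ← op_comp, ← op_comp] at hh
    rw [hom_oo_ext a (c ≫ res inf_le_left), hom_oo_ext b (c ≫ res inf_le_right)]
    exact hh
  have hc : Presieve.Arrows.Compatible (G.obj ⋙ forget AddCommGrpCat.{u + 1}) π z := by
    intro i j Z gi gj _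
    cases i <;> cases j
    · rw [hom_oo_ext (U := V) gi gj]
    · exact (key gj gi).symm
    · exact key gi gj
    · rw [hom_oo_ext (U := U) gi gj]
  obtain ⟨x, hx, hu⟩ := Presieve.isSheafFor_arrows_iff _ _ |>.1 hsh z hc
  exact ⟨x, ⟨hx true, hx false⟩, fun y hy => hu y fun b => by cases b <;> [exact hy.2; exact hy.1]⟩

/-- The Mayer-Vietoris short complex of free sheaves. -/
def sc (U V : X.Opens) : ShortComplex (EtCoh.Ab X) :=
  ShortComplex.mk
    (biprod.lift ((P X).map (res (inf_le_left : U ⊓ V ≤ U))) (-(P X).map (res (inf_le_right : U ⊓ V ≤ V))))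
    (biprod.desc ((P X).map (toTop (oo U))) ((P X).map (toTop (oo V))))
    (by
      rw [biprod.lift_desc, Preadditive.neg_comp, ← Functor.map_comp, ← Functor.map_comp,
        hom_top_ext (res inf_le_left ≫ toTop (oo U)) (res inf_le_right ≫ toTop (oo V)), add_neg_cancel])

theorem sc_shortExact {U V : X.Opens} (hUV : U ⊔ V = ⊤) : (sc U V).ShortExact := by
  have hmono : Mono (sc U V).f := by
    have := mono_P_map (res (inf_le_left : U ⊓ V ≤ U))
    exact mono_of_mono_fac (biprod.lift_fst ((P X).map (res (inf_le_left : U ⊓ V ≤ U)))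
      (-(P X).map (res (inf_le_right : U ⊓ V ≤ V))))
  have hepi : Epi (sc U V).g := by
    constructor
    intro G a b hab
    apply σ.injective
    have h1 : σ ((P X).map (toTop (oo U)) ≫ a) = σ ((P X).map (toTop (oo U)) ≫ b) := by
      have := congrArg (biprod.inl ≫ ·) hab
      simpa [sc] using congrArg σ this
    have h2 : σ ((P X).map (toTop (oo V)) ≫ a) = σ ((P X).map (toTop (oo V)) ≫ b) := by
      have := congrArg (biprod.inr ≫ ·) hab
      simpa [sc] using congrArg σ this
    rw [σ_map, σ_map] at h1 h2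
    refine (glue hUV G _ _ ?_).unique ⟨rfl, rfl⟩ ⟨h1.symm, h2.symm⟩
    rw [← ConcreteCategory.comp_apply, ← ConcreteCategory.comp_apply, ← G.obj.map_comp,
      ← G.obj.map_comp, ← op_comp, ← op_comp,
      hom_top_ext (res inf_le_left ≫ toTop (oo U)) (res inf_le_right ≫ toTop (oo V))]
  refine ShortComplex.ShortExact.mk' ?_ hmono hepi
  refine ShortComplex.exact_of_g_is_cokernel _ ?_
  have hdesc : ∀ {G : EtCoh.Ab X} (k : (sc U V).X₂ ⟶ G), (sc U V).f ≫ k = 0 →
      ∃ l : (sc U V).X₃ ⟶ G, (sc U V).g ≫ l = k := by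
    intro G k hk
    obtain ⟨x, ⟨hx1, hx2⟩, -⟩ := glue hUV G (σ (biprod.inl ≫ k)) (σ (biprod.inr ≫ k)) (by
      rw [← σ_map, ← σ_map]
      congr 1
      rw [← sub_eq_zero, ← hk]
      simp [sc, biprod.lift_eq]
      abel)
    refine ⟨σ.symm x, ?_⟩
    apply biprod.hom_ext'
    · simp only [sc, biprod.inl_desc_assoc]
      apply σ.injective; rw [σ_map, Equiv.apply_symm_apply, hx1]
    · simp only [sc, biprod.inr_desc_assoc]
      apply σ.injective; rw [σ_map, Equiv.apply_symm_apply, hx2]
  choose l hl using @hdesc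
  exact CokernelCofork.IsColimit.ofπ _ _ (fun k hk => l k hk) (fun k hk => hl k hk)
    (fun k hk m hm => by rw [← cancel_epi (sc U V).g, hm, hl k hk])

end Groth.Agent.EtMV
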