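import Mathlib
import Groth.Prelude.Def_EtCore
import Groth.Prelude.Def_EtShriek2
import Groth.Agent.EtPushStalk.OpenImm
import Groth.Agent.EtMV.Free
import Groth.Agent.EtMV.Inst

/-! Pulling back sections of etale sheaves. -/

universe u

open CategoryTheory CategoryTheory.Limits AlgebraicGeometry Opposite

set_option backward.isDefEq.respectTransparency false

noncomputable section

namespace Groth.Agent.EtMV

set_option linter.auxLemma false
attribute [local instance 100000] EtCoh.H._proof_1 hext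
attribute [local instance 200000] hextAb

variable {W Y X : Scheme.{u}}

/-- Sections of the constant sheaf `ℤ`. -/
def one (X : Scheme.{u}) : EtCoh.sect (EtCoh.const X ℤ) (EtCoh.top X) :=
  ((EtCore.constAdj X).unit.app (AddCommGrpCat.of (ULift.{u + 1} ℤ))) ⟨1⟩

/-- Evaluation at `1`. -/
def κ {G : EtCoh.Ab X} (φ : EtCoh.const X ℤ ⟶ G) : EtCoh.sect G (EtCoh.top X) :=
  φ.hom.app (op (EtCoh.top X)) (one X)

theorem κ_comp {G G' : EtCoh.Ab X} (φ : EtCoh.const X ℤ ⟶ G) (ψ : G ⟶ G') :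
    κ (φ ≫ ψ) = ψ.hom.app _ (κ φ) := rfl

theorem κ_bijective (G : EtCoh.Ab X) :
    Function.Bijective (κ : (EtCoh.const X ℤ ⟶ G) → EtCoh.sect G (EtCoh.top X)) := by
  let e := (EtCore.constAdj X).homEquiv (AddCommGrpCat.of (ULift.{u + 1} ℤ)) G
  have he : ∀ φ, κ φ = e φ ⟨1⟩ := fun φ => by rw [show e φ = _ from Adjunction.homEquiv_unit ..]; rfl
  refine ⟨fun a b h => e.injective ?_, fun s => ?_⟩
  · rw [he, he] at h
    ext ⟨n⟩
    have hn : (⟨n⟩ : ULift.{u + 1} ℤ) = n • ⟨1⟩ := ULift.ext _ _ (by simp)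
    rw [hn, map_zsmul, map_zsmul, h]
  · refine ⟨e.symm (AddCommGrpCat.ofHom ((zmultiplesHom (EtCoh.sect G (EtCoh.top X)) s).comp
      AddEquiv.ulift.toAddMonoidHom)), ?_⟩
    rw [he, Equiv.apply_symm_apply]
    exact one_zsmul s

/-- An object with at most one map into it. -/
def Thin (o : X.Etale) : Prop := ∀ (T : X.Etale) (a b : T ⟶ o), a = b

theorem thin_oo (U : X.Opens) : Thin (oo U) := fun _ => hom_oo_ext

theorem thin_top : Thin (EtCoh.top X) := fun _ => hom_top_ext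

theorem thin_bc (f : Y ⟶ X) {o : X.Etale} (h : Thin o) : Thin ((EtCoh.bc f).obj o) := by
  have : Mono (toTop o) := ⟨fun a b _ => h _ a b⟩
  intro T a b
  exact (cancel_mono ((EtCoh.bc f).map (toTop o))).1 ((EtCore.bcTopIsTerminal f).hom_ext _ _)

/-- Pullback of sections. -/
def r (f : Y ⟶ X) {o : X.Etale} {o' : Y.Etale} (δ : o' ⟶ (EtCoh.bc f).obj o) (G : EtCoh.Ab X)
    (s : EtCoh.sect G o) : EtCoh.sect ((EtCoh.pull f).obj G) o' :=
  ((EtCoh.pull f).obj G).obj.map δ.op (((EtCoh.pullPushAdj f).unit.app G).hom.app (op o) s)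

theorem r_natural (f : Y ⟶ X) {o : X.Etale} {o' : Y.Etale} (δ : o' ⟶ (EtCoh.bc f).obj o)
    {G G' : EtCoh.Ab X} (φ : G ⟶ G') (s : EtCoh.sect G o) :
    ((EtCoh.pull f).map φ).hom.app (op o') (r f δ G s) = r f δ G' (φ.hom.app (op o) s) := by
  have h := ConcreteCategory.congr_hom
    (congr_app (congrArg (fun z => z.hom) ((EtCoh.pullPushAdj f).unit.naturality φ)) (op o)) s
  erw [NatTrans.naturality_apply]
  exact congrArg _ h.symm

theorem r_res (f : Y ⟶ X) {o o₁ : X.Etale} {o' : Y.Etale} (δ : o' ⟶ (EtCoh.bc f).obj o)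
    (δ₁ : o' ⟶ (EtCoh.bc f).obj o₁) (g : o₁ ⟶ o) (h : Thin o) (G : EtCoh.Ab X) (s : EtCoh.sect G o) :
    r f δ₁ G (G.obj.map g.op s) = r f δ G s := by
  rw [r, r]
  erw [NatTrans.naturality_apply]
  let H := ((EtCoh.pull f).obj G).obj
  let z := ((EtCoh.pullPushAdj f).unit.app G).hom.app (op o) s
  show H.map δ₁.op (H.map ((EtCoh.bc f).map g).op z) = H.map δ.op z
  rw [← ConcreteCategory.comp_apply, ← H.map_comp, ← op_comp,
    show δ = δ₁ ≫ (EtCoh.bc f).map g from thin_bc f h _ _ _]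

/-- The comparison of iterated inverse images. -/
def ψ (ι : W ⟶ Y) (f : Y ⟶ X) (k : W ⟶ X) (w : ι ≫ f = k) :
    EtCoh.pull f ⋙ EtCoh.pull ι ≅ EtCoh.pull k :=
  (EtCore.pullComp ι f).symm ≪≫ EtCore.pullCongr w

theorem r_comp (ι : W ⟶ Y) (f : Y ⟶ X) (k : W ⟶ X) (w : ι ≫ f = k) {o : X.Etale} (ho : Thin o)
    {o' : Y.Etale} {o'' : W.Etale}
    (δ₁ : o' ⟶ (EtCoh.bc f).obj o) (δ₂ : o'' ⟶ (EtCoh.bc ι).obj o')
    (δ₃ : o'' ⟶ (EtCoh.bc k).obj o) (G : EtCoh.Ab X) (s : EtCoh.sect G o) :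
    ((ψ ι f k w).hom.app G).hom.app (op o'') (r ι δ₂ _ (r f δ₁ G s)) = r k δ₃ G s := by
  subst w
  simp only [ψ, EtCore.pullCongr, eqToIso_refl, Iso.trans_hom, Iso.refl_hom, Iso.symm_hom,
    Category.comp_id]
  let A := EtCoh.pullPushAdj (ι ≫ f)
  let B := ((EtCoh.pullPushAdj f).comp (EtCoh.pullPushAdj ι)).ofNatIsoRight (EtCoh.pushComp f ι)
  have hB : B.unit.app G ≫ (EtCoh.push (ι ≫ f)).map ((EtCore.pullComp ι f).inv.app G) = A.unit.app G := by
    rw [EtCore.pullComp, ← Adjunction.unit_leftAdjointUniq_hom_app A B G, Category.assoc,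
      ← Functor.map_comp, Iso.hom_inv_id_app]
    erw [CategoryTheory.Functor.map_id, Category.comp_id]
  have hB' : B.unit.app G = (EtCoh.pullPushAdj f).unit.app G ≫
      (EtCoh.push f).map ((EtCoh.pullPushAdj ι).unit.app _) ≫ (EtCoh.pushComp f ι).hom.app _ := by
    have h1 := Adjunction.homEquiv_ofNatIsoRight_apply
      ((EtCoh.pullPushAdj f).comp (EtCoh.pullPushAdj ι)) (EtCoh.pushComp f ι)
      (𝟙 ((EtCoh.pull f ⋙ EtCoh.pull ι).obj G))
    rw [Adjunction.homEquiv_id, Adjunction.homEquiv_id] at h1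
    rw [show B.unit.app G = _ from h1, Adjunction.comp_unit_app, Category.assoc]
    rfl
  conv_rhs => rw [r, show (EtCoh.pullPushAdj (ι ≫ f)).unit.app G = _ from hB.symm, hB']
  rw [r, r]
  erw [NatTrans.naturality_apply ((EtCoh.pullPushAdj ι).unit.app _).hom]
  let H := ((EtCoh.pull f ⋙ EtCoh.pull ι).obj G).obj
  let p := ((EtCore.pullComp ι f).inv.app G).hom
  let z : H.obj (op ((EtCoh.bc ι).obj ((EtCoh.bc f).obj o))) :=
    ((EtCoh.pullPushAdj ι).unit.app _).hom.app (op ((EtCoh.bc f).obj o))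
      (((EtCoh.pullPushAdj f).unit.app G).hom.app (op o) s)
  let c : (EtCoh.bc (ι ≫ f)).obj o ⟶ (EtCoh.bc ι).obj ((EtCoh.bc f).obj o) :=
    (MorphismProperty.Over.pullbackComp (P := EtCoh.etaleMP) (Q := ⊤) ι f).hom.app o
  show p.app _ (H.map δ₂.op (H.map ((EtCoh.bc ι).map δ₁).op z)) =
    ((EtCoh.pull (ι ≫ f)).obj G).obj.map δ₃.op (p.app _ (H.map c.op z))
  rw [← NatTrans.naturality_apply p δ₃.op]
  congr 1
  rw [← ConcreteCategory.comp_apply, ← ConcreteCategory.comp_apply, ← H.map_comp, ← H.map_comp,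
    ← op_comp, ← op_comp, show δ₂ ≫ (EtCoh.bc ι).map δ₁ = δ₃ ≫ c from thin_bc ι (thin_bc f ho) _ _ _]

theorem κ_pullConst (f : Y ⟶ X) (δ : EtCoh.top Y ⟶ (EtCoh.bc f).obj (EtCoh.top X)) :
    κ (EtCore.pullConst f ℤ).inv = r f δ _ (one X) := by
  let M := AddCommGrpCat.of (ULift.{u + 1} ℤ)
  let A := ((EtCore.constAdj X).comp (EtCoh.pullPushAdj f)).ofNatIsoRight (EtCore.pushGsecIso f)
  let B := EtCore.constAdj Y
  have h : B.unit.app M ≫ (EtCore.gsec Y).map ((EtCore.pullConstIso f).inv.app M) = A.unit.app M := by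
    rw [EtCore.pullConstIso, ← Adjunction.unit_leftAdjointUniq_hom_app A B M, Category.assoc,
      ← Functor.map_comp, Iso.hom_inv_id_app]
    erw [CategoryTheory.Functor.map_id, Category.comp_id]
  have hA : A.unit.app M = (EtCore.constAdj X).unit.app M ≫
      (EtCore.gsec X).map ((EtCoh.pullPushAdj f).unit.app _) ≫ (EtCore.pushGsecIso f).hom.app _ := by
    have h1 := Adjunction.homEquiv_ofNatIsoRight_apply
      ((EtCore.constAdj X).comp (EtCoh.pullPushAdj f)) (EtCore.pushGsecIso f)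
      (𝟙 ((constantSheaf X.smallEtaleTopology AddCommGrpCat.{u + 1} ⋙ EtCoh.pull f).obj M))
    rw [Adjunction.homEquiv_id, Adjunction.homEquiv_id] at h1
    rw [show A.unit.app M = _ from h1, Adjunction.comp_unit_app, Category.assoc]
    rfl
  have h' := ConcreteCategory.congr_hom (h.trans hA) (⟨1⟩ : ULift.{u + 1} ℤ)
  refine h'.trans ?_
  rw [r, show δ = (EtCore.bcTopIso f).inv from thin_bc f thin_top _ _ _]
  rfl

/-- The section of an open subscheme over itself. -/
def δoo (U : X.Opens) : EtCoh.top (U : Scheme.{u}) ⟶ (EtCoh.bc U.ι).obj (oo U) :=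
  MorphismProperty.Over.homMk (pullback.lift (𝟙 _) (𝟙 _) (by simp; rfl)) (pullback.lift_snd _ _ _)

theorem r_bijective (U : X.Opens) (G : EtCoh.Ab X) :
    Function.Bijective (r U.ι (δoo U) G) := by
  have : Etale U.ι := inferInstance
  let A := EtPushStalk.restrPushAdj U.ι
  let B := EtCoh.pullPushAdj U.ι
  let i := EtPushStalk.restrPullIso U.ι
  have hu : B.unit.app G = A.unit.app G ≫ (EtCoh.push U.ι).map (i.hom.app G) :=
    (Adjunction.unit_leftAdjointUniq_hom_app A B G).symm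
  have hA : (A.unit.app G).hom.app (op (oo U)) =
      G.obj.map ((EtPushStalk.compBcAdj U.ι).counit.app (oo U)).op := by
    have := congr_app (Adjunction.map_restrictFullyFaithful_unit_app
      ((EtPushStalk.compBcAdj U.ι).op.whiskerLeft AddCommGrpCat.{u + 1})
      (fullyFaithfulSheafToPresheaf X.smallEtaleTopology AddCommGrpCat.{u + 1})
      (fullyFaithfulSheafToPresheaf _ _)
      (L := EtShriek.restrAlong U.ι) (R := EtCoh.push U.ι) (Iso.refl _) (Iso.refl _) G) (op (oo U))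
    simp at this
    exact this
  let g := (EtShriek.compEtale U.ι).map (δoo U) ≫ (EtPushStalk.compBcAdj U.ι).counit.app (oo U)
  have hg : IsIso g := by
    refine ⟨MorphismProperty.Over.homMk (𝟙 _) (by simp [oo]; rfl), ?_, hom_oo_ext _ _⟩
    haveI : Mono ((EtShriek.compEtale U.ι).obj (EtCoh.top (U : Scheme.{u}))).hom := by
      change Mono (𝟙 _ ≫ U.ι); infer_instance
    apply (Scheme.Etale.forget X).map_injective
    ext : 1
    exact (cancel_mono ((EtShriek.compEtale U.ι).obj (EtCoh.top (U : Scheme.{u}))).hom).1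
      ((MorphismProperty.Over.w _).trans (MorphismProperty.Over.w _).symm)
  have hr : r U.ι (δoo U) G = (i.hom.app G).hom.app (op (EtCoh.top _)) ∘ G.obj.map g.op := by
    funext s
    rw [r, show (EtCoh.pullPushAdj U.ι).unit.app G = _ from hu]
    show ((EtCoh.pull U.ι).obj G).obj.map (δoo U).op
      ((i.hom.app G).hom.app (op ((EtCoh.bc U.ι).obj (oo U))) ((A.unit.app G).hom.app (op (oo U)) s)) = _
    refine (NatTrans.naturality_apply (i.hom.app G).hom (δoo U).op _).symm.trans (congrArg _ ?_)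
    rw [hA]
    show G.obj.map ((EtShriek.compEtale U.ι).map (δoo U)).op
      (G.obj.map ((EtPushStalk.compBcAdj U.ι).counit.app (oo U)).op s) = G.obj.map g.op s
    erw [← ConcreteCategory.comp_apply, ← G.obj.map_comp]
    rfl
  rw [hr]
  exact (ConcreteCategory.bijective_of_isIso ((i.hom.app G).hom.app _)).comp
    (ConcreteCategory.bijective_of_isIso (G.obj.map g.op))

end Groth.Agent.EtMV
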