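import Mathlib
import Groth.Agent.EtPullExact.Basic
import Groth.Agent.EtShriekStalk.Basic
import Groth.Agent.EtMV.Sect
import Groth.Agent.EtMV.Ext
import Groth.Agent.EtMV.Inst

/-! The Mayer-Vietoris sequence in etale cohomology. -/

universe u

open CategoryTheory CategoryTheory.Limits CategoryTheory.Abelian AlgebraicGeometry Opposite

set_option backward.isDefEq.respectTransparency false

noncomputable section

namespace Groth.Agent.EtMV

set_option linter.auxLemma false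
attribute [local instance 100000] EtCoh.H._proof_1 hext
attribute [local instance 200000] hextAb

variable {W Y X : Scheme.{u}}

/-- The morphism `ℤ ⟶ f^* P(o)` given by the pulled-back universal section. -/
def cc (f : Y ⟶ X) {o : X.Etale} (δ : EtCoh.top Y ⟶ (EtCoh.bc f).obj o) :
    EtCoh.const Y ℤ ⟶ (EtCoh.pull f).obj ((P X).obj o) :=
  (Equiv.ofBijective _ (κ_bijective _)).symm (r f δ _ (uel o))

theorem κ_cc (f : Y ⟶ X) {o : X.Etale} (δ : EtCoh.top Y ⟶ (EtCoh.bc f).obj o) :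
    κ (cc f δ) = r f δ _ (uel o) :=
  (Equiv.ofBijective _ (κ_bijective _)).apply_symm_apply _

theorem κ_cc_map (f : Y ⟶ X) {o : X.Etale} (δ : EtCoh.top Y ⟶ (EtCoh.bc f).obj o) {G : EtCoh.Ab X}
    (φ : (P X).obj o ⟶ G) : κ (cc f δ ≫ (EtCoh.pull f).map φ) = r f δ G (σ φ) := by
  rw [κ_comp, κ_cc, r_natural, ← σ_eq]

theorem cc_hom_bijective (f : Y ⟶ X) {o : X.Etale} (δ : EtCoh.top Y ⟶ (EtCoh.bc f).obj o)
    {G : EtCoh.Ab X} (h : Function.Bijective (r f δ G)) :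
    Function.Bijective (fun φ : (P X).obj o ⟶ G => cc f δ ≫ (EtCoh.pull f).map φ) := by
  have e : κ ∘ (fun φ : (P X).obj o ⟶ G => cc f δ ≫ (EtCoh.pull f).map φ) = r f δ G ∘ σ :=
    funext fun φ => κ_cc_map f δ φ
  exact (Function.Bijective.of_comp_iff' (κ_bijective _) _).1 (e ▸ h.comp σ.bijective)

/-- `ℤ ≅ P(top)`. -/
def θ (X : Scheme.{u}) : EtCoh.const X ℤ ≅ (P X).obj (EtCoh.top X) where
  hom := (Equiv.ofBijective _ (κ_bijective _)).symm (uel _)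
  inv := σ.symm (one X)
  hom_inv_id := by
    apply (κ_bijective _).1
    rw [κ_comp, show κ _ = uel _ from (Equiv.ofBijective _ (κ_bijective _)).apply_symm_apply _, ← σ_eq,
      Equiv.apply_symm_apply]
    rfl
  inv_hom_id := by
    apply σ.injective
    rw [σ_comp, Equiv.apply_symm_apply]
    exact (Equiv.ofBijective _ (κ_bijective _)).apply_symm_apply _

/-- The canonical `top`-section map. -/
def δtop (f : Y ⟶ X) : EtCoh.top Y ⟶ (EtCoh.bc f).obj (EtCoh.top X) := (EtCore.bcTopIso f).inv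

theorem Hpull_eq (f : Y ⟶ X) [PreservesFiniteLimits (EtCoh.pull f)] (G : EtCoh.Ab X) (n : ℕ)
    (x : EtCoh.H X G n) :
    EtCore.Hpull f G n x =
      T (EtCoh.pull f) (cc f (δtop f)) G n ((Ext.mk₀ (θ X).inv).comp x (zero_add n)) := by
  rw [T_precomp]
  have : cc f (δtop f) ≫ (EtCoh.pull f).map (θ X).inv = (EtCore.pullConst f ℤ).inv := by
    apply (κ_bijective _).1
    rw [κ_cc_map, κ_pullConst f (δtop f), θ, Equiv.apply_symm_apply]
  rw [this]
  rfl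

theorem pull_preservesInjective (U : X.Opens) : (EtCoh.pull U.ι).PreservesInjectiveObjects := by
  haveI := Groth.Agent.EtShriekStalk.preservesFiniteLimits U.ι
  haveI : (EtShriek.extZero U.ι).PreservesMonomorphisms := inferInstance
  refine ⟨fun {I} hI => ?_⟩
  have : Injective ((EtShriek.restrAlong U.ι).obj I) :=
    Injective.injective_of_adjoint (EtShriek.extZeroAdj U.ι) I
  exact Injective.of_iso ((EtPushStalk.restrPullIso U.ι).app I) this

theorem Tcc_bijective (U : X.Opens) [PreservesFiniteLimits (EtCoh.pull U.ι)] (G : EtCoh.Ab X) (n : ℕ) :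
    Function.Bijective (T (EtCoh.pull U.ι) (cc U.ι (δoo U)) G n) := by
  haveI := pull_preservesInjective U
  exact T_bijective _ _ (fun G => cc_hom_bijective _ _ (r_bijective U G)) n G

/-- Cohomology of an open subscheme as `Ext` out of the free sheaf. -/
def Φ (U : X.Opens) [PreservesFiniteLimits (EtCoh.pull U.ι)] (G : EtCoh.Ab X) (n : ℕ) :
    Ext ((P X).obj (oo U)) G n ≃+ EtCoh.H (U : Scheme.{u}) ((EtCoh.pull U.ι).obj G) n :=
  AddEquiv.ofBijective (T (EtCoh.pull U.ι) (cc U.ι (δoo U)) G n) (Tcc_bijective U G n)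

theorem Φ_apply (U : X.Opens) [PreservesFiniteLimits (EtCoh.pull U.ι)] (G : EtCoh.Ab X) (n : ℕ)
    (x : Ext ((P X).obj (oo U)) G n) :
    Φ U G n x = T (EtCoh.pull U.ι) (cc U.ι (δoo U)) G n x :=
  AddEquiv.ofBijective_apply _ _ x

theorem Φ_res (U : X.Opens) [PreservesFiniteLimits (EtCoh.pull U.ι)] (G : EtCoh.Ab X) (n : ℕ)
    (x : Ext ((P X).obj (EtCoh.top X)) G n) :
    Φ U G n ((Ext.mk₀ ((P X).map (toTop (oo U)))).comp x (zero_add n)) =
      T (EtCoh.pull U.ι) (cc U.ι (δtop U.ι)) G n x := by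
  rw [Φ_apply, T_precomp]
  congr 2
  apply (κ_bijective _).1
  rw [κ_cc_map, κ_cc, ← Category.comp_id ((P X).map _), σ_map]
  exact r_res U.ι (δtop U.ι) (δoo U) (toTop (oo U)) thin_top _ (uel _)

theorem HF_map_Hpull {Z : Scheme.{u}} (f : W ⟶ Y) (t : Y ⟶ Z) (f₀ : W ⟶ Z)
    [PreservesFiniteLimits (EtCoh.pull f)] (α : EtCoh.pull t ⋙ EtCoh.pull f ≅ EtCoh.pull f₀)
    (G : EtCoh.Ab Z) (n : ℕ) (y : EtCoh.H Y ((EtCoh.pull t).obj G) n) :
    (((EtCoh.HF W n).map (α.app G).hom).hom.comp (EtCore.Hpull f ((EtCoh.pull t).obj G) n)) y =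
      (T (EtCoh.pull f) (EtCore.pullConst f ℤ).inv _ n y).comp (Ext.mk₀ (α.hom.app G)) (add_zero n) := rfl

theorem HpullVia_apply {Z : Scheme.{u}} (f : W ⟶ Y) (t : Y ⟶ Z) (f₀ : W ⟶ Z) (w : f ≫ t = f₀)
    [PreservesFiniteLimits (EtCoh.pull f)] (G : EtCoh.Ab Z) (n : ℕ)
    (y : EtCoh.H Y ((EtCoh.pull t).obj G) n) :
    EtCore.HpullVia f t f₀ w G n y =
      (T (EtCoh.pull f) (EtCore.pullConst f ℤ).inv _ n y).comp
        (Ext.mk₀ ((ψ f t f₀ w).hom.app G)) (add_zero n) :=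
  HF_map_Hpull f t f₀ (ψ f t f₀ w) G n y

theorem T_T_pull {Z : Scheme.{u}} (f : W ⟶ Y) (t : Y ⟶ Z) (f₀ : W ⟶ Z)
    [PreservesFiniteLimits (EtCoh.pull f)] [PreservesFiniteLimits (EtCoh.pull t)]
    [PreservesFiniteLimits (EtCoh.pull f₀)] (α : EtCoh.pull t ⋙ EtCoh.pull f ≅ EtCoh.pull f₀)
    {P : EtCoh.Ab Z} (c₁ : EtCoh.const Y ℤ ⟶ (EtCoh.pull t).obj P)
    (c₂ : EtCoh.const W ℤ ⟶ (EtCoh.pull f).obj (EtCoh.const Y ℤ))
    (c₃ : EtCoh.const W ℤ ⟶ (EtCoh.pull f₀).obj P)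
    (h : c₂ ≫ (EtCoh.pull f).map c₁ ≫ α.hom.app P = c₃) (n : ℕ) (G : EtCoh.Ab Z) (e : Ext P G n) :
    (T (EtCoh.pull f) c₂ _ n (T (EtCoh.pull t) c₁ G n e)).comp (Ext.mk₀ (α.hom.app G)) (add_zero n) =
      T (EtCoh.pull f₀) c₃ G n e :=
  T_T _ _ _ α _ _ _ h n G e

theorem key_res {U V : X.Opens} (h : V ≤ U) :
    (EtCore.pullConst (X.homOfLE h) ℤ).inv ≫ (EtCoh.pull (X.homOfLE h)).map (cc U.ι (δoo U)) ≫
      (ψ (X.homOfLE h) U.ι V.ι (X.homOfLE_ι h)).hom.app ((P X).obj (oo U)) =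
    cc V.ι (δoo V) ≫ (EtCoh.pull V.ι).map ((P X).map (res h)) := by
  apply (κ_bijective _).1
  rw [← Category.assoc, κ_cc_map, ← Category.comp_id ((P X).map _), σ_map, κ_comp, κ_comp,
    κ_pullConst _ (δtop (X.homOfLE h)), r_natural]
  rw [show (cc U.ι (δoo U)).hom.app (op (EtCoh.top _)) (one _) = r U.ι (δoo U) _ (uel _) from κ_cc _ _]
  refine (r_comp (X.homOfLE h) U.ι V.ι (X.homOfLE_ι h) (thin_oo U) (δoo U) (δtop _)
    (δoo V ≫ (EtCoh.bc V.ι).map (res h)) _ _).trans ?_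
  exact (r_res V.ι _ (δoo V) (res h) (thin_oo U) _ _).symm

theorem HpullVia_Φ {U V : X.Opens} (h : V ≤ U) [PreservesFiniteLimits (EtCoh.pull U.ι)]
    [PreservesFiniteLimits (EtCoh.pull V.ι)] [PreservesFiniteLimits (EtCoh.pull (X.homOfLE h))]
    (G : EtCoh.Ab X) (n : ℕ) (e : Ext ((P X).obj (oo U)) G n) :
    EtCore.HpullVia (X.homOfLE h) U.ι V.ι (X.homOfLE_ι h) G n (Φ U G n e) =
      Φ V G n ((Ext.mk₀ ((P X).map (res h))).comp e (zero_add n)) := by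
  rw [Φ_apply, Φ_apply, T_precomp, HpullVia_apply]
  exact T_T_pull _ _ _ (ψ _ _ _ (X.homOfLE_ι h)) _ _ _ (key_res h) n G e

end Groth.Agent.EtMV
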