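import Mathlib
import Groth.Agent.EtPullExact.Basic
import Groth.Agent.EtShriekStalk.Basic
import Groth.Agent.EtMV.Base
import Groth.Agent.EtMV.Inst

/-! Cohomology of an étale `X`-scheme as `Ext` out of the free sheaf. -/

universe u

open CategoryTheory CategoryTheory.Limits CategoryTheory.Abelian AlgebraicGeometry Opposite

set_option backward.isDefEq.respectTransparency false

noncomputable section

namespace Groth.Agent.EtMV

set_option linter.auxLemma false
attribute [local instance 100000] EtCoh.H._proof_1 hext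
attribute [local instance 200000] hextAb

variable {X : Scheme.{u}}

/-- Composition with an étale morphism is continuous. -/
theorem jcont_etale {U : Scheme.{u}} (j : U ⟶ X) [hj : Etale j] : EtShriek.JCont j := by
  refine Functor.isContinuous_of_coverPreserving ⟨?_⟩ (EtShriek.coverPreserving_compEtale j)
  intro ℱ Z T x hx Y₁ Y₂ W f₁ f₂ g₁ g₂ hg₁ hg₂ he
  let V := (EtShriek.compEtaleLift j f₁).1
  let e : (EtShriek.compEtale j).obj V ≅ W := (EtShriek.compEtaleLift j f₁).2
  have hl : f₁.left ≫ g₁.left = f₂.left ≫ g₂.left :=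
    congrArg (fun k => k.left) he
  have w₁ : f₁.left ≫ Y₁.hom = V.hom := rfl
  have w₂ : f₂.left ≫ Y₂.hom = V.hom := by
    rw [← MorphismProperty.Over.w g₂, ← Category.assoc, ← hl, Category.assoc, MorphismProperty.Over.w g₁]
    rfl
  let a₁ : V ⟶ Y₁ := MorphismProperty.Over.homMk f₁.left w₁
  let a₂ : V ⟶ Y₂ := MorphismProperty.Over.homMk f₂.left w₂
  have h₁ : (EtShriek.compEtale j).map a₁ = e.hom ≫ f₁ := by
    apply MorphismProperty.Over.Hom.ext
    exact (Category.id_comp _).symm
  have h₂ : (EtShriek.compEtale j).map a₂ = e.hom ≫ f₂ := by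
    apply MorphismProperty.Over.Hom.ext
    exact (Category.id_comp _).symm
  have ha : a₁ ≫ g₁ = a₂ ≫ g₂ := by
    apply MorphismProperty.Over.Hom.ext
    exact hl
  apply (ℱ.1.mapIso e.op).toEquiv.injective
  have h := hx a₁ a₂ hg₁ hg₂ ha
  simp only [Functor.comp_map, Functor.op_map, Quiver.Hom.unop_op] at h
  rw [h₁, h₂, op_comp, op_comp, Functor.map_comp, Functor.map_comp] at h
  exact h

theorem pull_etale_preservesInjective {U : Scheme.{u}} (j : U ⟶ X) [Etale j] :
    (EtCoh.pull j).PreservesInjectiveObjects := by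
  haveI := jcont_etale j
  haveI := Groth.Agent.EtShriekStalk.preservesFiniteLimits j
  haveI : (EtShriek.extZero j).PreservesMonomorphisms := inferInstance
  refine ⟨fun {I} hI => ?_⟩
  have : Injective ((EtShriek.restrAlong j).obj I) :=
    Injective.injective_of_adjoint (EtShriek.extZeroAdj j) I
  exact Injective.of_iso ((EtPushStalk.restrPullIso j).app I) this

/-- The diagonal section of an étale scheme over itself. -/
def δd {Y : Scheme.{u}} (h : Y ⟶ X) [Etale h] : EtCoh.top Y ⟶ (EtCoh.bc h).obj (Scheme.Etale.mk h) :=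
  MorphismProperty.Over.homMk (pullback.lift (𝟙 _) (𝟙 _) (by simp)) (pullback.lift_snd _ _ _)

theorem r_bijective_etale {Y : Scheme.{u}} (h : Y ⟶ X) [Etale h] [EtShriek.JCont h] (G : EtCoh.Ab X) :
    Function.Bijective (r h (δd h) G) := by
  let A := EtPushStalk.restrPushAdj h
  let B := EtCoh.pullPushAdj h
  let i := EtPushStalk.restrPullIso h
  have hu : B.unit.app G = A.unit.app G ≫ (EtCoh.push h).map (i.hom.app G) :=
    (Adjunction.unit_leftAdjointUniq_hom_app A B G).symm
  have hA : (A.unit.app G).hom.app (op (Scheme.Etale.mk h)) =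
      G.obj.map ((EtPushStalk.compBcAdj h).counit.app (Scheme.Etale.mk h)).op := by
    have := congr_app (Adjunction.map_restrictFullyFaithful_unit_app
      ((EtPushStalk.compBcAdj h).op.whiskerLeft AddCommGrpCat.{u + 1})
      (fullyFaithfulSheafToPresheaf X.smallEtaleTopology AddCommGrpCat.{u + 1})
      (fullyFaithfulSheafToPresheaf _ _)
      (L := EtShriek.restrAlong h) (R := EtCoh.push h) (Iso.refl _) (Iso.refl _) G) (op (Scheme.Etale.mk h))
    simp at this
    exact this
  let g := (EtShriek.compEtale h).map (δd h) ≫ (EtPushStalk.compBcAdj h).counit.app (Scheme.Etale.mk h)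
  have hgl : g.left = 𝟙 _ := by
    show (pullback.lift (𝟙 Y) (𝟙 Y) _) ≫ _ = _
    simp [EtPushStalk.compBcAdj, MorphismProperty.Over.mapPullbackAdj]
    rfl
  have hg : IsIso g := by
    refine ⟨MorphismProperty.Over.homMk (𝟙 _) (by simp; rfl), ?_, ?_⟩
    · apply MorphismProperty.Over.Hom.ext
      show g.left ≫ 𝟙 _ = 𝟙 _
      rw [hgl]; exact Category.comp_id _
    · apply MorphismProperty.Over.Hom.ext
      show 𝟙 _ ≫ g.left = 𝟙 _
      rw [hgl]; exact Category.comp_id _
  have hr : r h (δd h) G = (i.hom.app G).hom.app (op (EtCoh.top _)) ∘ G.obj.map g.op := by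
    funext s
    rw [r, show (EtCoh.pullPushAdj h).unit.app G = _ from hu]
    show ((EtCoh.pull h).obj G).obj.map (δd h).op
      ((i.hom.app G).hom.app (op ((EtCoh.bc h).obj (Scheme.Etale.mk h))) ((A.unit.app G).hom.app (op (Scheme.Etale.mk h)) s)) = _
    refine (NatTrans.naturality_apply (i.hom.app G).hom (δd h).op _).symm.trans (congrArg _ ?_)
    rw [hA]
    show G.obj.map ((EtShriek.compEtale h).map (δd h)).op
      (G.obj.map ((EtPushStalk.compBcAdj h).counit.app (Scheme.Etale.mk h)).op s) = G.obj.map g.op s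
    erw [← ConcreteCategory.comp_apply, ← G.obj.map_comp]
    rfl
  rw [hr]
  exact (ConcreteCategory.bijective_of_isIso ((i.hom.app G).hom.app _)).comp
    (ConcreteCategory.bijective_of_isIso (G.obj.map g.op))

theorem Tcc_etale_bijective {Y : Scheme.{u}} (h : Y ⟶ X) [Etale h] [PreservesFiniteLimits (EtCoh.pull h)] (G : EtCoh.Ab X) (n : ℕ) :
    Function.Bijective (T (EtCoh.pull h) (cc h (δd h)) G n) := by
  haveI := pull_etale_preservesInjective h
  haveI := jcont_etale h
  exact T_bijective _ _ (fun G => cc_hom_bijective _ _ (r_bijective_etale h G)) n G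

/-- `Ext` out of the constant sheaf is cohomology. -/
def toH (Y : Scheme.{u}) (G : EtCoh.Ab Y) (n : ℕ) : Ext (EtCoh.const Y ℤ) G n ≃+ EtCoh.H Y G n :=
  AddEquiv.refl _

/-- Cohomology of an étale `X`-scheme as `Ext` out of the free sheaf. -/
def Φe {Y : Scheme.{u}} (h : Y ⟶ X) [Etale h] [PreservesFiniteLimits (EtCoh.pull h)] (G : EtCoh.Ab X) (n : ℕ) :
    Ext ((P X).obj (Scheme.Etale.mk h)) G n ≃+ EtCoh.H Y ((EtCoh.pull h).obj G) n :=
  (AddEquiv.ofBijective (T (EtCoh.pull h) (cc h (δd h)) G n) (Tcc_etale_bijective h G n)).trans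
    (toH Y ((EtCoh.pull h).obj G) n)

/-- `H^q(Y, G|Y) = 0` iff the corresponding `Ext` group is zero. -/
theorem subsingleton_H_iff_of_etale {Y : Scheme.{u}} (h : Y ⟶ X) [Etale h] (G : EtCoh.Ab X) (n : ℕ) :
    Subsingleton (EtCoh.H Y ((EtCoh.pull h).obj G) n) ↔
      Subsingleton (Ext ((P X).obj (Scheme.Etale.mk h)) G n) := by
  haveI := Groth.Agent.EtPullExact.pull_preservesFiniteLimits h
  exact ((Φe h G n).toEquiv.subsingleton_congr).symm

/-- `H^q(W, G|W) = 0` iff the corresponding `Ext` group is zero. -/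
theorem subsingleton_H_iff (W : X.Etale) (G : EtCoh.Ab X) (n : ℕ) :
    Subsingleton (EtCoh.H W.left ((EtCoh.pull W.hom).obj G) n) ↔ Subsingleton (Ext ((P X).obj W) G n) := by
  exact subsingleton_H_iff_of_etale W.hom G n

end Groth.Agent.EtMV
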