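import Mathlib
import Groth.Agent.EtPullExact.Basic
import Groth.Agent.EtMV.Etale
import Groth.Agent.EtMV.AdjExt

/-! Flasque sheaves on the small étale site. -/

universe u

open CategoryTheory CategoryTheory.Limits CategoryTheory.Abelian AlgebraicGeometry Opposite

set_option backward.isDefEq.respectTransparency false

noncomputable section

namespace Groth.Agent.EtMV

set_option linter.auxLemma false
attribute [local instance 100000] EtCoh.H._proof_1 hext
attribute [local instance 200000] hextAb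

variable {X Y : Scheme.{u}}

/-- Vanishing of higher cohomology on all étale schemes, as `Ext`. -/
def Flq (F : EtCoh.Ab X) : Prop :=
  ∀ (W : X.Etale) (q : ℕ), 0 < q → Subsingleton (Ext ((P X).obj W) F q)

theorem flq_of_H (F : EtCoh.Ab X)
    (hF : ∀ (W : X.Etale) (q : ℕ), 0 < q → Subsingleton (EtCoh.H W.left ((EtCoh.pull W.hom).obj F) q)) :
    Flq F := fun W q hq => (subsingleton_H_iff W F q).1 (hF W q hq)

theorem flq_of_injective (I : EtCoh.Ab X) [Injective I] : Flq I := fun W q hq => by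
  obtain ⟨n, rfl⟩ := Nat.exists_eq_succ_of_ne_zero hq.ne'
  exact subsingleton_of_forall_eq 0 Ext.eq_zero_of_injective

theorem flq_X₃ {F : EtCoh.Ab X} (hF : Flq F) : Flq (injSeq F).X₃ := fun W q hq => by
  obtain ⟨n, rfl⟩ := Nat.exists_eq_succ_of_ne_zero hq.ne'
  refine subsingleton_of_forall_eq 0 fun x => ?_
  obtain ⟨y, rfl⟩ := Ext.covariant_sequence_exact₃ ((P X).obj W) (injSeq_shortExact F) x (rfl)
    ((hF W (n + 1 + 1) (Nat.succ_pos _)).elim _ _)
  rw [Ext.eq_zero_of_injective y, Ext.zero_comp]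

theorem surjective_g {S : ShortComplex (EtCoh.Ab X)} (hS : S.ShortExact) (W : X.Etale)
    (h : Subsingleton (Ext ((P X).obj W) S.X₁ 1)) : Function.Surjective (S.g.hom.app (op W)) := fun s => by
  obtain ⟨y, hy⟩ := Ext.covariant_sequence_exact₃ ((P X).obj W) hS (Ext.mk₀ (σ.symm s)) (zero_add 1)
    (h.elim _ _)
  obtain ⟨φ, rfl⟩ := (Ext.mk₀_bijective _ _).2 y
  rw [Ext.mk₀_comp_mk₀] at hy
  refine ⟨σ φ, ?_⟩
  rw [← σ_comp, (Ext.mk₀_bijective _ _).1 hy, Equiv.apply_symm_apply]

theorem push_shortExact (f : X ⟶ Y) {F : EtCoh.Ab X} (hF : Flq F) :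
    ((injSeq F).map (EtCoh.push f)).ShortExact := by
  have hS := injSeq_shortExact F
  haveI := hS.mono_f
  haveI : (EtCoh.push f).IsRightAdjoint := (EtCoh.pullPushAdj f).isRightAdjoint
  have : Epi ((EtCoh.push f).map (injSeq F).g) := by
    have : Epi ((sheafToPresheaf _ _).map ((EtCoh.push f).map (injSeq F).g)) := by
      rw [NatTrans.epi_iff_epi_app]
      rintro ⟨V⟩
      rw [AddCommGrpCat.epi_iff_surjective]
      exact surjective_g hS ((EtCoh.bc f).obj V) (hF _ 1 one_pos)
    exact (sheafToPresheaf _ _).epi_of_epi_map this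
  refine ShortComplex.ShortExact.mk' ?_ (inferInstanceAs (Mono ((EtCoh.push f).map (injSeq F).f))) this
  exact ShortComplex.exact_of_f_is_kernel _ (KernelFork.mapIsLimit _ hS.fIsKernel (EtCoh.push f))

theorem injective_push (f : X ⟶ Y) (I : EtCoh.Ab X) [Injective I] : Injective ((EtCoh.push f).obj I) := by
  haveI := Groth.Agent.EtPullExact.pull_preservesFiniteLimits f
  haveI : (EtCoh.pull f).PreservesMonomorphisms := inferInstance
  exact Injective.injective_of_adjoint (EtCoh.pullPushAdj f) I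

theorem flq_push_aux (f : X ⟶ Y) (q : ℕ) : ∀ (F : EtCoh.Ab X), Flq F → ∀ V : Y.Etale,
    Subsingleton (Ext ((P Y).obj V) ((EtCoh.push f).obj F) (q + 1)) := by
  induction q with
  | zero =>
    intro F hF V
    have hR := push_shortExact f hF
    haveI : Injective ((injSeq F).map (EtCoh.push f)).X₂ := injective_push f (injSeq F).X₂
    refine subsingleton_of_forall_eq 0 fun x => ?_
    obtain ⟨y, rfl⟩ := Ext.covariant_sequence_exact₁ ((P Y).obj V) hR x (Ext.eq_zero_of_injective _) rfl
    obtain ⟨φ, rfl⟩ := (Ext.mk₀_bijective _ _).2 y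
    let s : EtCoh.sect ((injSeq F).map (EtCoh.push f)).X₃ V := σ φ
    obtain ⟨t, ht⟩ := surjective_g (injSeq_shortExact F) ((EtCoh.bc f).obj V) (hF _ 1 one_pos) s
    let t' : EtCoh.sect ((injSeq F).map (EtCoh.push f)).X₂ V := t
    have hφ : φ = σ.symm t' ≫ ((injSeq F).map (EtCoh.push f)).g := by
      apply σ.injective
      rw [σ_comp, Equiv.apply_symm_apply]
      exact ht.symm
    rw [hφ, ← Ext.mk₀_comp_mk₀, Ext.comp_assoc_of_second_deg_zero, hR.comp_extClass, Ext.comp_zero]
  | succ q ih =>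
    intro F hF V
    have hR := push_shortExact f hF
    haveI : Injective ((injSeq F).map (EtCoh.push f)).X₂ := injective_push f (injSeq F).X₂
    refine subsingleton_of_forall_eq 0 fun x => ?_
    obtain ⟨y, rfl⟩ := Ext.covariant_sequence_exact₁ ((P Y).obj V) hR x (Ext.eq_zero_of_injective _) rfl
    rw [(ih _ (flq_X₃ hF) V).elim y 0, Ext.zero_comp]

theorem flq_push (f : X ⟶ Y) {F : EtCoh.Ab X} (hF : Flq F) : Flq ((EtCoh.push f).obj F) := fun V q hq => by
  obtain ⟨n, rfl⟩ := Nat.exists_eq_succ_of_ne_zero hq.ne'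
  exact flq_push_aux f n F hF V

theorem H_push_subsingleton (f : X ⟶ Y) {F : EtCoh.Ab X} (hF : Flq F) (V : Y.Etale) (q : ℕ) (hq : 0 < q) :
    Subsingleton (EtCoh.H V.left ((EtCoh.pull V.hom).obj ((EtCoh.push f).obj F)) q) :=
  (subsingleton_H_iff V _ q).2 (flq_push f hF V q hq)

end Groth.Agent.EtMV
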