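import Mathlib
import Groth.Agent.EtMV.Flasque

/-! Restriction maps of flasque sheaves along open immersions, via doubling. -/

universe u

open CategoryTheory CategoryTheory.Limits CategoryTheory.Abelian AlgebraicGeometry Opposite

set_option backward.isDefEq.respectTransparency false

noncomputable section

namespace Groth.Agent.EtMV

set_option linter.auxLemma false
attribute [local instance 100000] EtCoh.H._proof_1 hext
attribute [local instance 200000] hextAb

variable {X : Scheme.{u}} {U V : X.Etale} (g : V ⟶ U) [IsOpenImmersion g.left]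

/-- The structure map of the doubling. -/
def dblHom : pushout g.left g.left ⟶ X := pushout.desc U.hom U.hom rfl

theorem etale_dblHom : Etale (dblHom g) := by
  haveI := U.prop
  haveI := V.prop
  apply IsZariskiLocalAtSource.of_openCover (P := @Etale)
    (Scheme.IsLocallyDirected.openCover (span g.left g.left))
  intro i
  show Etale (colimit.ι (span g.left g.left) i ≫ dblHom g)
  match i with
  | none =>
    rw [← colimit.w (span g.left g.left) WalkingSpan.Hom.fst, Category.assoc]
    show Etale (g.left ≫ pushout.inl g.left g.left ≫ dblHom g)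
    rw [dblHom, pushout.inl_desc]
    exact (MorphismProperty.Over.w g).symm ▸ V.prop
  | some WalkingPair.left =>
    show Etale (pushout.inl g.left g.left ≫ dblHom g)
    rw [dblHom, pushout.inl_desc]; exact U.prop
  | some WalkingPair.right =>
    show Etale (pushout.inr g.left g.left ≫ dblHom g)
    rw [dblHom, pushout.inr_desc]; exact U.prop

/-- The doubling of `U` along `V`. -/
def dblEt : X.Etale :=
  haveI := etale_dblHom g
  Scheme.Etale.mk (dblHom g)

/-- The two copies. -/
def copy : Bool → (U ⟶ dblEt g)
  | true => MorphismProperty.Over.homMk (pushout.inl g.left g.left) (pushout.inl_desc _ _ _)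
  | false => MorphismProperty.Over.homMk (pushout.inr g.left g.left) (pushout.inr_desc _ _ _)

theorem comp_copy : g ≫ copy g true = g ≫ copy g false := by
  apply MorphismProperty.Over.Hom.ext
  exact pushout.condition

theorem copy_left_fold (b : Bool) : (copy g b).left ≫ pushout.desc (𝟙 U.left) (𝟙 U.left) rfl = 𝟙 U.left := by
  cases b
  · exact pushout.inr_desc _ _ _
  · exact pushout.inl_desc _ _ _

theorem copy_cover (t : (dblEt g).left) : ∃ b, t ∈ Set.range (copy g b).left := by
  obtain ⟨i, s, hs⟩ := Scheme.IsLocallyDirected.ι_jointly_surjective (span g.left g.left) t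
  match i, s, hs with
  | none, s, hs =>
    refine ⟨true, g.left s, ?_⟩
    rw [← hs, ← colimit.w (span g.left g.left) WalkingSpan.Hom.fst]
    rfl
  | some WalkingPair.left, s, hs => exact ⟨true, s, hs⟩
  | some WalkingPair.right, s, hs => exact ⟨false, s, hs⟩

theorem copy_meet {s s' : U.left} (h : (copy g true).left s = (copy g false).left s') :
    s ∈ Set.range g.left := by
  obtain ⟨k, fi, fj, y, hy, hy'⟩ := (Scheme.IsLocallyDirected.ι_eq_ι_iff (span g.left g.left)
    (i := WalkingSpan.left) (j := WalkingSpan.right)).1 h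
  rcases k with _ | (_ | _)
  · obtain rfl : fi = WalkingSpan.Hom.fst := Subsingleton.elim _ _
    exact ⟨y, hy⟩
  · exact nomatch fj
  · exact nomatch fi

theorem glue_copy (G : EtCoh.Ab X) (s t : EtCoh.sect G U) (h : G.obj.map g.op s = G.obj.map g.op t) :
    ∃ x : EtCoh.sect G (dblEt g), G.obj.map (copy g true).op x = s ∧ G.obj.map (copy g false).op x = t := by
  have hsh : Presieve.IsSheafFor (G.obj ⋙ forget AddCommGrpCat.{u + 1})
      (Presieve.ofArrows (fun _ : Bool => U) (copy g)) := by
    refine ((isSheaf_iff_isSheaf_of_type _ _).1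
      ((sheafCompose X.smallEtaleTopology (forget AddCommGrpCat.{u + 1})).obj G).property).isSheafFor _ ?_
    refine EtInvariance.SchemePush.mem_of_surjective fun x => ?_
    obtain ⟨b, hb⟩ := copy_cover g x
    exact ⟨U, copy g b, ⟨_, 𝟙 _, copy g b, Presieve.ofArrows.mk (f := copy g) b, Category.id_comp _⟩, hb⟩
  let z : Bool → EtCoh.sect G U := fun b => cond b s t
  have same : ∀ {Z : X.Etale} (i j : Bool) (p q : Z ⟶ U), p ≫ copy g i = q ≫ copy g j → p = q := by
    intro Z i j p q e
    apply MorphismProperty.Over.Hom.ext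
    have e' : p.left ≫ (copy g i).left = q.left ≫ (copy g j).left := congrArg (fun k => k.left) e
    have := congrArg (· ≫ pushout.desc (𝟙 U.left) (𝟙 U.left) rfl) e'
    simpa [Category.assoc, copy_left_fold] using this
  have key : ∀ {Z : X.Etale} (p : Z ⟶ U), p ≫ copy g true = p ≫ copy g false →
      G.obj.map p.op s = G.obj.map p.op t := by
    intro Z p e
    have hr : Set.range p.left ⊆ Set.range g.left := by
      rintro _ ⟨x, rfl⟩
      refine copy_meet g (s' := p.left x) ?_
      exact congrArg (fun k => k.left x) e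
    let k : Z ⟶ V := MorphismProperty.Over.homMk (IsOpenImmersion.lift g.left p.left hr) (by
      rw [← MorphismProperty.Over.w g, ← Category.assoc, IsOpenImmersion.lift_fac,
        MorphismProperty.Over.w p])
    have hk : k ≫ g = p := by
      apply MorphismProperty.Over.Hom.ext
      exact IsOpenImmersion.lift_fac g.left p.left hr
    have hh := congrArg (G.obj.map k.op) h
    rw [← ConcreteCategory.comp_apply, ← ConcreteCategory.comp_apply, ← G.obj.map_comp, ← op_comp, hk] at hh
    exact hh
  have hc : Presieve.Arrows.Compatible (G.obj ⋙ forget AddCommGrpCat.{u + 1}) (copy g) z := by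
    intro i j Z gi gj e
    obtain rfl := same i j gi gj e
    cases i <;> cases j
    · rfl
    · exact (key gi e.symm).symm
    · exact key gi e
    · rfl
  obtain ⟨x, hx, -⟩ := Presieve.isSheafFor_arrows_iff _ _ |>.1 hsh z hc
  exact ⟨x, hx true, hx false⟩

theorem mono_of_left : Mono g := by
  refine ⟨fun a b e => ?_⟩
  apply MorphismProperty.Over.Hom.ext
  exact (cancel_mono g.left).1 (congrArg (fun k => k.left) e)

theorem exists_preimage_sect {S : ShortComplex (EtCoh.Ab X)} (hS : S.ShortExact) (W : X.Etale)
    (e : EtCoh.sect S.X₂ W) (he : S.g.hom.app (op W) e = 0) : ∃ c, S.f.hom.app (op W) c = e := by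
  have h0 : σ (σ.symm e ≫ S.g) = σ (0 : (P X).obj W ⟶ S.X₃) := by
    rw [σ_comp, Equiv.apply_symm_apply, he]
    have hz : σ ((0 : (P X).obj W ⟶ S.X₃) + 0) = σ (0 : (P X).obj W ⟶ S.X₃) + σ (0 : (P X).obj W ⟶ S.X₃) := σ_add 0 0
    rw [add_zero] at hz
    exact (left_eq_add.1 hz).symm
  haveI := hS.mono_f
  obtain ⟨l, hl⟩ := KernelFork.IsLimit.lift' hS.fIsKernel (σ.symm e) (σ.injective h0)
  refine ⟨σ l, ?_⟩
  rw [← σ_comp]
  exact (congrArg σ hl).trans (Equiv.apply_symm_apply σ e)

theorem injective_f_sect {S : ShortComplex (EtCoh.Ab X)} (hS : S.ShortExact) (W : X.Etale) :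
    Function.Injective (S.f.hom.app (op W)) := fun a b h => by
  haveI := hS.mono_f
  have : σ.symm a ≫ S.f = σ.symm b ≫ S.f := by
    apply σ.injective
    rw [σ_comp, σ_comp, Equiv.apply_symm_apply, Equiv.apply_symm_apply, h]
  simpa using congrArg σ ((cancel_mono S.f).1 this)

theorem restriction_surjective {F : EtCoh.Ab X} (hF : Flq F) : Function.Surjective (F.obj.map g.op) := by
  intro s
  haveI := mono_of_left g
  haveI := mono_P_map g
  have hS := injSeq_shortExact F
  let S := injSeq F
  haveI : Injective S.X₂ := inferInstanceAs (Injective (injSeq F).X₂)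
  let i : EtCoh.sect S.X₂ U := σ (Injective.factorThru (σ.symm (S.f.hom.app (op V) s)) ((P X).map g))
  have hi : S.X₂.obj.map g.op i = S.f.hom.app (op V) s := by
    rw [← σ_map, Injective.comp_factorThru, Equiv.apply_symm_apply]
  let q : EtCoh.sect S.X₃ U := S.g.hom.app (op U) i
  have hq : S.X₃.obj.map g.op q = 0 := by
    show S.X₃.obj.map g.op (S.g.hom.app (op U) i) = 0
    rw [← NatTrans.naturality_apply, hi]
    exact ConcreteCategory.congr_hom (congr_app (congrArg (fun k => k.hom) S.zero) (op V)) s
  obtain ⟨x, hx1, hx2⟩ := glue_copy g S.X₃ q 0 (by rw [hq, map_zero])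
  obtain ⟨w, hw⟩ := surjective_g hS (dblEt g) (hF _ 1 one_pos) x
  let e : EtCoh.sect S.X₂ U := i - S.X₂.obj.map (copy g true).op w + S.X₂.obj.map (copy g false).op w
  have he : S.g.hom.app (op U) e = 0 := by
    show S.g.hom.app (op U) (i - S.X₂.obj.map (copy g true).op w + S.X₂.obj.map (copy g false).op w) = 0
    rw [map_add, map_sub, NatTrans.naturality_apply, NatTrans.naturality_apply, hw, hx1, hx2]
    simp [q]
  obtain ⟨c, hc⟩ := exists_preimage_sect hS U e he
  refine ⟨c, injective_f_sect hS V ?_⟩
  refine (NatTrans.naturality_apply S.f.hom g.op c).trans ?_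
  rw [hc, ← hi]
  show S.X₂.obj.map g.op (i - S.X₂.obj.map (copy g true).op w + S.X₂.obj.map (copy g false).op w) = _
  rw [map_add, map_sub, ← ConcreteCategory.comp_apply, ← ConcreteCategory.comp_apply, ← Functor.map_comp,
    ← Functor.map_comp, ← op_comp, ← op_comp, comp_copy, sub_add_cancel]

end Groth.Agent.EtMV
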