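import Mathlib
import Groth.Agent.EtFLC.Site
import Groth.Agent.EtSect.Locus
import Groth.Agent.EtaleSections.Basic
import Groth.Agent.EtMV.Double
import Groth.Agent.RDerLib.LES

/-! Schemes over which all étale maps are local isomorphisms: Zariski flasque sheaves are acyclic. -/

universe u

open CategoryTheory CategoryTheory.Limits AlgebraicGeometry Opposite

set_option backward.isDefEq.respectTransparency false

noncomputable section

namespace Groth.Agent.EtMV

/-- Restriction of sections. -/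
local notation "rs" => Groth.Agent.EtFLC.res

variable {X Y : Scheme.{u}}

/-- Every étale `X`-scheme is Zariski locally an open of `X`. -/
def LocIso (X : Scheme.{u}) : Prop :=
  ∀ (W : X.Etale) (w : W.left), ∃ O : W.left.Opens, w ∈ O ∧ IsOpenImmersion (O.ι ≫ W.hom)

/-- All restrictions along open immersions are surjective. -/
def ZFlq (F : EtCoh.Ab X) : Prop :=
  ∀ {U V : X.Etale} (g : V ⟶ U), IsOpenImmersion g.left → Function.Surjective (F.obj.map g.op)

/-- An open of an étale `X`-scheme. -/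
def sub (W : X.Etale) (P : W.left.Opens) : X.Etale :=
  haveI : Etale W.hom := W.prop
  Scheme.Etale.mk (P.ι ≫ W.hom)

def subι (W : X.Etale) (P : W.left.Opens) : sub W P ⟶ W := MorphismProperty.Over.homMk P.ι rfl

def subLe (W : X.Etale) {P Q : W.left.Opens} (h : P ≤ Q) : sub W P ⟶ sub W Q :=
  MorphismProperty.Over.homMk (W.left.homOfLE h) (by
    show W.left.homOfLE h ≫ Q.ι ≫ W.hom = P.ι ≫ W.hom
    rw [← Category.assoc, Scheme.homOfLE_ι])

theorem hom_sub_ext {W T : X.Etale} {P : W.left.Opens} (a b : T ⟶ sub W P)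
    (h : a ≫ subι W P = b ≫ subι W P) : a = b := by
  apply MorphismProperty.Over.Hom.ext
  exact (cancel_mono P.ι).1 (congrArg (fun k => k.left) h)

theorem subLe_ι (W : X.Etale) {P Q : W.left.Opens} (h : P ≤ Q) : subLe W h ≫ subι W Q = subι W P := by
  apply MorphismProperty.Over.Hom.ext
  exact Scheme.homOfLE_ι W.left h

@[simp] theorem subLe_comp (W : X.Etale) {P Q R : W.left.Opens} (h : P ≤ Q) (h' : Q ≤ R) :
    subLe W h ≫ subLe W h' = subLe W (h.trans h') :=
  hom_sub_ext _ _ (by rw [Category.assoc, subLe_ι, subLe_ι, subLe_ι])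

theorem isOpenImmersion_subLe (W : X.Etale) {P Q : W.left.Opens} (h : P ≤ Q) : IsOpenImmersion (subLe W h).left :=
  inferInstanceAs (IsOpenImmersion (W.left.homOfLE h))

theorem glue_opens (G : EtCoh.Ab X) (W : X.Etale) {ι : Type*} (P : ι → W.left.Opens) (Q : W.left.Opens)
    (hPQ : ∀ i, P i ≤ Q) (hQ : ∀ x ∈ Q, ∃ i, x ∈ P i) (y : ∀ i, EtCoh.sect G (sub W (P i)))
    (h : ∀ i j, rs G (subLe W (inf_le_left : P i ⊓ P j ≤ P i)) (y i) =
      rs G (subLe W (inf_le_right : P i ⊓ P j ≤ P j)) (y j)) :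
    ∃ z : EtCoh.sect G (sub W Q), ∀ i, rs G (subLe W (hPQ i)) z = y i := by
  let o : ι → X.Etale := fun i => sub W (P i)
  let π : ∀ i, o i ⟶ sub W Q := fun i => subLe W (hPQ i)
  have hsh : Presieve.IsSheafFor (G.obj ⋙ forget AddCommGrpCat.{u + 1}) (Presieve.ofArrows o π) := by
    refine ((isSheaf_iff_isSheaf_of_type _ _).1
      ((sheafCompose X.smallEtaleTopology (forget AddCommGrpCat.{u + 1})).obj G).property).isSheafFor _ ?_
    refine EtInvariance.SchemePush.mem_of_surjective fun (x : Q.toScheme) => ?_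
    obtain ⟨i, hi⟩ := hQ x.1 x.2
    refine ⟨o i, π i, ⟨_, 𝟙 _, π i, Presieve.ofArrows.mk (f := π) i, Category.id_comp _⟩,
      ⟨(⟨x.1, hi⟩ : (P i).toScheme), ?_⟩⟩
    apply Q.ι.isOpenEmbedding.injective
    show (W.left.homOfLE (hPQ i) ≫ Q.ι) (⟨x.1, hi⟩ : (P i).toScheme) = Q.ι x
    rw [Scheme.homOfLE_ι]
    rfl
  have hc : Presieve.Arrows.Compatible (G.obj ⋙ forget AddCommGrpCat.{u + 1}) π y := by
    intro i j Z gi gj e
    have e' : gi ≫ subι W (P i) = gj ≫ subι W (P j) := by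
      rw [← subLe_ι W (hPQ i), ← subLe_ι W (hPQ j), ← Category.assoc, ← Category.assoc]
      exact congrArg (fun k => k ≫ subι W Q) e
    have hr : Set.range (gi ≫ subι W (P i)).left ⊆ Set.range (P i ⊓ P j).ι := by
      rw [Scheme.Opens.range_ι]
      rintro _ ⟨z, rfl⟩
      refine ⟨(gi.left z).2, ?_⟩
      show (gi ≫ subι W (P i)).left z ∈ P j
      rw [e']
      exact (gj.left z).2
    let k : Z ⟶ sub W (P i ⊓ P j) :=
      MorphismProperty.Over.homMk (IsOpenImmersion.lift (P i ⊓ P j).ι (gi ≫ subι W (P i)).left hr) (by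
        show _ ≫ (P i ⊓ P j).ι ≫ W.hom = Z.hom
        rw [← Category.assoc, IsOpenImmersion.lift_fac]
        exact MorphismProperty.Over.w (gi ≫ subι W (P i)))
    have hk : k ≫ subι W (P i ⊓ P j) = gi ≫ subι W (P i) := by
      apply MorphismProperty.Over.Hom.ext
      exact IsOpenImmersion.lift_fac _ _ hr
    have h1 : gi = k ≫ subLe W inf_le_left := hom_sub_ext _ _ (by rw [Category.assoc, subLe_ι, hk])
    have h2 : gj = k ≫ subLe W inf_le_right := hom_sub_ext _ _ (by rw [Category.assoc, subLe_ι, hk, e'])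
    have := congrArg (rs G k) (h i j)
    rw [EtFLC.res_res, EtFLC.res_res, ← h1, ← h2] at this
    exact this
  obtain ⟨x, hx, -⟩ := Presieve.isSheafFor_arrows_iff _ _ |>.1 hsh y hc
  exact ⟨x, hx⟩

theorem sect_eq_of_sub (G : EtCoh.Ab X) (W : X.Etale) (P : W.left.Opens) (h : ∀ x, x ∈ P)
    (s t : EtCoh.sect G W) (he : rs G (subι W P) s = rs G (subι W P) t) : s = t :=
  EtFLC.sect_ext G fun v => ⟨sub W P, subι W P, (⟨v, h v⟩ : P.toScheme), rfl, he⟩

theorem exists_zariski_lift (hX : LocIso X) {F G : EtCoh.Ab X} (φ : F ⟶ G) [Epi φ] {W : X.Etale}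
    (t : EtCoh.sect G W) (w : W.left) :
    ∃ (O : W.left.Opens), w ∈ O ∧ ∃ y, φ.hom.app (op (sub W O)) y = rs G (subι W O) t := by
  obtain ⟨Z, g, z, y, hz, hy⟩ := EtFLC.exists_lift_of_epi φ t w
  obtain ⟨O, hzO, hO⟩ := hX Z z
  let j : sub Z O ⟶ W := subι Z O ≫ g
  haveI : Etale j.left := EtSect.etale_left j
  have hjw : j.left ≫ W.hom = O.ι ≫ Z.hom := MorphismProperty.Over.w j
  haveI : Mono (j.left ≫ W.hom) := by rw [hjw]; infer_instance
  haveI : Mono j.left := mono_of_mono j.left W.hom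
  haveI : UniversallyInjective j.left := inferInstance
  haveI : IsOpenImmersion j.left := EtaleSections.isOpenImmersion_of_etale_universallyInjective j.left
  let P : W.left.Opens := j.left.opensRange
  have hr : Set.range (subι W P).left ⊆ Set.range j.left := by
    show Set.range P.ι ⊆ _
    rw [Scheme.Opens.range_ι]
    rfl
  let k : sub W P ⟶ sub Z O := MorphismProperty.Over.homMk (IsOpenImmersion.lift j.left P.ι hr) (by
    rw [← MorphismProperty.Over.w j, ← Category.assoc, IsOpenImmersion.lift_fac]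
    rfl)
  have hk : k ≫ j = subι W P := by
    apply MorphismProperty.Over.Hom.ext
    exact IsOpenImmersion.lift_fac _ _ hr
  refine ⟨P, ⟨(⟨z, hzO⟩ : O.toScheme), hz⟩, rs F (k ≫ subι Z O) y, ?_⟩
  rw [EtFLC.app_res]
  erw [hy]
  rw [EtFLC.res_res, Category.assoc, hk]

theorem surjective_g_of_zflq (hX : LocIso X) {S : ShortComplex (EtCoh.Ab X)} (hS : S.ShortExact)
    (hF : ZFlq S.X₁) (W : X.Etale) : Function.Surjective (S.g.hom.app (op W)) := by
  classical
  haveI := hS.epi_g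
  intro t
  let α := {p : Σ P : W.left.Opens, EtCoh.sect S.X₂ (sub W P) //
    S.g.hom.app (op (sub W p.1)) p.2 = rs S.X₃ (subι W p.1) t}
  let r : α → α → Prop := fun a b => ∃ h : a.1.1 ≤ b.1.1, rs S.X₂ (subLe W h) b.1.2 = a.1.2
  have rtrans : ∀ {a b c : α}, r a b → r b c → r a c := fun {a b c} ⟨h, e⟩ ⟨h', e'⟩ => ⟨h.trans h', by
    rw [← e, ← e', EtFLC.res_res, subLe_comp]⟩
  have rrefl : ∀ a : α, r a a := fun a => ⟨le_rfl, by
    have : subLe W (le_refl a.1.1) = 𝟙 _ := hom_sub_ext _ _ (by rw [subLe_ι, Category.id_comp])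
    rw [this]; exact EtFLC.res_id _ _⟩
  have bot : ∃ a : α, True := by
    obtain ⟨y, hy⟩ := glue_opens S.X₂ W (fun e : PEmpty.{1} => e.elim) ⊥ (fun e => e.elim)
      (fun x hx => hx.elim) (fun e => e.elim) (fun e => e.elim)
    exact ⟨⟨⟨⊥, y⟩, EtFLC.sect_ext S.X₃ fun v => v.2.elim⟩, trivial⟩
  obtain ⟨a₀, -⟩ := bot
  obtain ⟨m, hm⟩ : ∃ m, ∀ a, r m a → r a m := by
    refine exists_maximal_of_chains_bounded (fun c hc => ?_) rtrans
    rcases c.eq_empty_or_nonempty with rfl | hne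
    · exact ⟨a₀, fun a ha => ha.elim⟩
    let P : c → W.left.Opens := fun a => a.1.1.1
    let Q : W.left.Opens := ⨆ a : c, P a
    have hcomp : ∀ i j : c, rs S.X₂ (subLe W (inf_le_left : P i ⊓ P j ≤ P i)) i.1.1.2 =
        rs S.X₂ (subLe W (inf_le_right : P i ⊓ P j ≤ P j)) j.1.1.2 := by
      intro i j
      have hij : r i.1 j.1 ∨ r j.1 i.1 := by
        rcases eq_or_ne i.1 j.1 with e | e
        · exact Or.inl (e ▸ rrefl i.1)
        · exact hc i.2 j.2 e
      rcases hij with ⟨h, e⟩ | ⟨h, e⟩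
      · rw [← e, EtFLC.res_res, subLe_comp]
      · conv_rhs => rw [← e, EtFLC.res_res, subLe_comp]
    obtain ⟨z, hz⟩ := glue_opens S.X₂ W P Q (fun a => le_iSup P a)
      (fun x hx => TopologicalSpace.Opens.mem_iSup.1 hx) (fun a => a.1.1.2) hcomp
    refine ⟨⟨⟨Q, z⟩, ?_⟩, fun a ha => ⟨le_iSup P ⟨a, ha⟩, hz ⟨a, ha⟩⟩⟩
    refine EtFLC.sect_ext S.X₃ fun v => ?_
    obtain ⟨a, ha⟩ := TopologicalSpace.Opens.mem_iSup.1 v.2
    refine ⟨sub W (P a), subLe W (le_iSup P a), (⟨v.1, ha⟩ : (P a).toScheme), ?_, ?_⟩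
    · apply Q.ι.isOpenEmbedding.injective
      show (W.left.homOfLE (le_iSup P a) ≫ Q.ι) (⟨v.1, ha⟩ : (P a).toScheme) = Q.ι v
      rw [Scheme.homOfLE_ι]; rfl
    · rw [← EtFLC.app_res]
      erw [hz a, a.1.2]
      rw [EtFLC.res_res, subLe_ι]
  obtain ⟨⟨P, y⟩, hy⟩ := m
  have hall : ∀ w : W.left, w ∈ P := by
    intro w
    obtain ⟨O, hwO, y', hy'⟩ := exists_zariski_lift hX S.g t w
    let l := rs S.X₂ (subLe W (inf_le_left : P ⊓ O ≤ P)) y
    let l' := rs S.X₂ (subLe W (inf_le_right : P ⊓ O ≤ O)) y'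
    obtain ⟨d, hd⟩ := exists_preimage_sect hS (sub W (P ⊓ O)) (l - l') (by
      simp only [l, l', map_sub]
      erw [EtFLC.app_res, EtFLC.app_res, hy, hy']
      rw [EtFLC.res_res, EtFLC.res_res, subLe_ι, subLe_ι, sub_self])
    obtain ⟨e, he⟩ := hF (subLe W (inf_le_right : P ⊓ O ≤ O)) (isOpenImmersion_subLe _ _) d
    let yO : EtCoh.sect S.X₂ (sub W O) := y' + S.f.hom.app _ e
    have hyO : S.g.hom.app _ yO = rs S.X₃ (subι W O) t := by
      simp only [yO, map_add]
      have h0 : S.g.hom.app (op (sub W O)) (S.f.hom.app (op (sub W O)) e) = 0 :=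
        ConcreteCategory.congr_hom (congr_app (congrArg (fun k => k.hom) S.zero) (op (sub W O))) e
      rw [h0, add_zero]
      exact hy'
    have hagree : l = rs S.X₂ (subLe W (inf_le_right : P ⊓ O ≤ O)) yO := by
      simp only [yO, map_add]
      rw [← EtFLC.app_res]
      erw [he, hd]
      simp [l', l]
    let B : Bool → W.left.Opens := fun b => cond b P O
    let yB : ∀ b, EtCoh.sect S.X₂ (sub W (B b)) := fun b => match b with
      | true => y
      | false => yO
    obtain ⟨z, hz⟩ := glue_opens S.X₂ W B (P ⊔ O)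
      (fun b => match b with
        | true => le_sup_left
        | false => le_sup_right)
      (fun x hx => hx.elim (fun h => ⟨true, h⟩) (fun h => ⟨false, h⟩)) yB (fun i j => by
        cases i <;> cases j
        · rfl
        · have h := congrArg (rs S.X₂ (subLe W (le_of_eq (inf_comm O P) : O ⊓ P ≤ P ⊓ O))) hagree
          simp only [l, EtFLC.res_res] at h
          simp only [subLe_comp] at h
          exact h.symm
        · exact hagree
        · rfl)
    have hz' : S.g.hom.app _ z = rs S.X₃ (subι W (P ⊔ O)) t := by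
      refine EtFLC.sect_ext S.X₃ fun v => ?_
      rcases v.2 with hv | hv
      · refine ⟨sub W (B true), subLe W (le_sup_left : P ≤ P ⊔ O), (⟨v.1, hv⟩ : P.toScheme), ?_, ?_⟩
        · apply (P ⊔ O).ι.isOpenEmbedding.injective
          show (W.left.homOfLE (le_sup_left : P ≤ P ⊔ O) ≫ (P ⊔ O).ι) (⟨v.1, hv⟩ : P.toScheme) = (P ⊔ O).ι v
          rw [Scheme.homOfLE_ι]; rfl
        · rw [← EtFLC.app_res]
          erw [hz true, hy]
          rw [EtFLC.res_res, subLe_ι]
          rfl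
      · refine ⟨sub W (B false), subLe W (le_sup_right : O ≤ P ⊔ O), (⟨v.1, hv⟩ : O.toScheme), ?_, ?_⟩
        · apply (P ⊔ O).ι.isOpenEmbedding.injective
          show (W.left.homOfLE (le_sup_right : O ≤ P ⊔ O) ≫ (P ⊔ O).ι) (⟨v.1, hv⟩ : O.toScheme) = (P ⊔ O).ι v
          rw [Scheme.homOfLE_ι]; rfl
        · rw [← EtFLC.app_res]
          erw [hz false, hyO]
          rw [EtFLC.res_res, subLe_ι]
          rfl
    obtain ⟨h, -⟩ := hm ⟨⟨P ⊔ O, z⟩, hz'⟩ ⟨le_sup_left, hz true⟩
    exact h (Or.inr hwO)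
  let k : W ⟶ sub W P := MorphismProperty.Over.homMk
    (IsOpenImmersion.lift P.ι (𝟙 W.left) (fun x _ => ⟨⟨x, hall x⟩, rfl⟩))
    ((Category.assoc _ P.ι W.hom).symm.trans
      ((congrArg (fun j => j ≫ W.hom) (IsOpenImmersion.lift_fac P.ι (𝟙 W.left) _)).trans (Category.id_comp _)))
  have hk : k ≫ subι W P = 𝟙 W := by
    apply MorphismProperty.Over.Hom.ext
    exact IsOpenImmersion.lift_fac _ _ _
  refine ⟨rs S.X₂ k y, ?_⟩
  rw [EtFLC.app_res]
  erw [hy]
  rw [EtFLC.res_res, hk, EtFLC.res_id]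

theorem zflq_injective (I : EtCoh.Ab X) [Injective I] : ZFlq I := fun {U V} g hg s => by
  haveI := hg
  haveI := mono_of_left g
  haveI := mono_P_map g
  exact ⟨σ (Injective.factorThru (σ.symm s) ((P X).map g)), by
    rw [← σ_map, Injective.comp_factorThru, Equiv.apply_symm_apply]⟩

theorem zflq_X₃ (hX : LocIso X) {F : EtCoh.Ab X} (hF : ZFlq F) : ZFlq (injSeq F).X₃ := fun {U V} g hg s => by
  obtain ⟨t, rfl⟩ := surjective_g_of_zflq hX (injSeq_shortExact F) hF V s
  obtain ⟨t', rfl⟩ := zflq_injective (injSeq F).X₂ g hg t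
  exact ⟨(injSeq F).g.hom.app _ t', (NatTrans.naturality_apply (injSeq F).g.hom g.op t').symm⟩

theorem isZero_Rpush_of_zflq (hX : LocIso X) (f : X ⟶ Y) (q : ℕ) : ∀ (F : EtCoh.Ab X), ZFlq F →
    IsZero ((EtCoh.Rpush f (q + 1)).obj F) := by
  let R := EtCoh.push f
  haveI : R.IsRightAdjoint := (EtCoh.pullPushAdj f).isRightAdjoint
  haveI : PreservesFiniteLimits R := inferInstance
  induction q with
  | zero =>
    intro F hF
    have hS := injSeq_shortExact F
    have he := (Groth.Agent.RDerLib.derivedLES R).exact₁ (injSeq F) hS 0 1 rfl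
    have h2 := (Groth.Agent.RDerLib.derivedLES R).comp_δ (injSeq F) hS 0 1 rfl
    haveI : Epi (R.map (injSeq F).g) := by
      have : Epi ((sheafToPresheaf _ _).map (R.map (injSeq F).g)) := by
        rw [NatTrans.epi_iff_epi_app]
        rintro ⟨V⟩
        rw [AddCommGrpCat.epi_iff_surjective]
        exact surjective_g_of_zflq hX hS hF ((EtCoh.bc f).obj V)
      exact (sheafToPresheaf _ _).epi_of_epi_map this
    haveI : Epi ((R.rightDerived 0).map (injSeq F).g) := by
      rw [show (R.rightDerived 0).map (injSeq F).g = R.rightDerivedZeroIsoSelf.hom.app _ ≫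
        R.map (injSeq F).g ≫ R.rightDerivedZeroIsoSelf.inv.app _ by
          rw [← NatTrans.naturality_assoc, Iso.hom_inv_id_app, Category.comp_id]]
      infer_instance
    exact he.isZero_X₂ (zero_of_epi_comp ((R.rightDerived 0).map (injSeq F).g) h2)
      ((R.isZero_rightDerived_obj_injective_succ 0 (injSeq F).X₂).eq_of_tgt _ _)
  | succ q ih =>
    intro F hF
    have hS := injSeq_shortExact F
    have he := (Groth.Agent.RDerLib.derivedLES R).exact₁ (injSeq F) hS (q + 1) (q + 1 + 1) rfl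
    exact he.isZero_X₂ ((ih _ (zflq_X₃ hX hF)).eq_of_src _ _)
      ((R.isZero_rightDerived_obj_injective_succ (q + 1) (injSeq F).X₂).eq_of_tgt _ _)

end Groth.Agent.EtMV
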