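import Groth.Agent.EtMV.ConstUnit
import Groth.Agent.FpqcDescent.Immersion
import Mathlib

/-! Constant sheaves and dense quasi-compact opens with local rings domains. -/

universe u

open CategoryTheory CategoryTheory.Limits AlgebraicGeometry Opposite

set_option backward.isDefEq.respectTransparency false
set_option backward.isDefEq.respectTransparency.types false
set_option linter.style.haveILetI false

noncomputable section

namespace Groth.Agent.EtMV

/-- Restriction of sections. -/
local notation "rs" => Groth.Agent.EtFLC.res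

section Topology

variable {V W : Scheme.{u}} {M : Type*}

theorem eq_of_specializes_of_isLocallyConstant {f : V → M} (hf : IsLocallyConstant f) {a b : V} (h : a ⤳ b) :
    f a = f b :=
  h.mem_open (hf.isOpen_fiber (f b)) rfl

theorem exists_extension (j : V ⟶ W) [IsOpenImmersion j] [QuasiCompact j] (hd : Dense (Set.range j))
    (hdom : ∀ w, IsDomain (W.presheaf.stalk w)) (φ : V → M) (hφ : IsLocallyConstant φ) :
    ∃ f : W → M, IsLocallyConstant f ∧ ∀ v, f (j v) = φ v := by
  classical
  let gen : W → W := fun w =>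
    haveI := hdom w
    W.fromSpecStalk w (genericPoint (Spec (W.presheaf.stalk w)))
  have hgenw : ∀ w, gen w ⤳ w := fun w => by
    have h : gen w ∈ Set.range (W.fromSpecStalk w) := ⟨_, rfl⟩
    rwa [Scheme.range_fromSpecStalk] at h
  have hgen : ∀ w a, a ⤳ w → gen w ⤳ a := fun w a ha => by
    haveI := hdom w
    obtain ⟨a', rfl⟩ : a ∈ Set.range (W.fromSpecStalk w) := by rw [Scheme.range_fromSpecStalk]; exact ha
    exact (genericPoint_specializes a').map (W.fromSpecStalk w).continuous
  have hmem : ∀ w, gen w ∈ Set.range j := fun w => by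
    obtain ⟨u, hu⟩ := FpqcDescent.exists_specializes_of_mem_closure j (x := w) (hd.closure_eq ▸ Set.mem_univ w)
    exact (hgen w (j u) hu).mem_open j.isOpenEmbedding.isOpen_range ⟨u, rfl⟩
  choose g hg using hmem
  have hconst : ∀ v w, j v ⤳ w → φ (g w) = φ v := fun v w h =>
    eq_of_specializes_of_isLocallyConstant hφ
      (j.isOpenEmbedding.toIsEmbedding.toIsInducing.specializes_iff.1 (by rw [hg]; exact hgen w _ h))
  refine ⟨fun w => φ (g w), (IsLocallyConstant.iff_exists_open _).2 fun w => ?_, fun v => hconst v _ specializes_rfl⟩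
  let m := φ (g w)
  let B : V.Opens := ⟨{v | φ v ≠ m}, hφ {x | x ≠ m}⟩
  haveI : IsClosedImmersion B.ι := by
    refine IsClosedImmersion.of_isPreimmersion _ ?_
    rw [Scheme.Opens.range_ι]
    exact ((hφ.isClopen_fiber m).compl).1
  haveI : QuasiCompact (B.ι ≫ j) := inferInstance
  refine ⟨(closure (Set.range (B.ι ≫ j)))ᶜ, isClosed_closure.isOpen_compl, fun hw => ?_, fun w' hw' => ?_⟩
  · obtain ⟨b, hb⟩ := FpqcDescent.exists_specializes_of_mem_closure (B.ι ≫ j) hw
    exact b.2 (hconst b.1 w hb).symm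
  · by_contra hne
    let p : B.toScheme := ⟨g w', hne⟩
    have hp : gen w' ∈ Set.range (B.ι ≫ j) := ⟨p, hg w'⟩
    exact hw' (closure_mono (Set.singleton_subset_iff.2 hp) ((hgenw w').mem_closure))

end Topology

section Const

variable {X Y : Scheme.{u}} {M : Type} [AddCommGroup M]

theorem ext_valAt_all {W : X.Etale} {s t : EtCoh.sect (EtCoh.const X M) W}
    (h : ∀ η : W.left, valAt s η = valAt t η) : s = t := by
  refine EtFLC.sect_ext _ fun w => ?_
  obtain ⟨Z₁, h₁, z₁, m₁, hz₁, e₁⟩ := exists_cst s w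
  obtain ⟨Z₂, h₂, z₂, m₂, hz₂, e₂⟩ := exists_cst t w
  obtain ⟨T, a, b, t₀, hab, hta⟩ := exists_refinement h₁ h₂ z₁ z₂ (hz₁.trans hz₂.symm)
  have f₁ : rs _ (a ≫ h₁) s = cst T m₁ := by rw [← EtFLC.res_res, e₁, res_cst]
  have f₂ : rs _ (a ≫ h₁) t = cst T m₂ := by rw [hab, ← EtFLC.res_res, e₂, res_cst]
  refine ⟨T, a ≫ h₁, t₀, by rw [EtFLC.comp_left_apply, hta, hz₁], ?_⟩
  have := h ((a ≫ h₁).left t₀)
  rw [valAt_eq t₀ f₁, valAt_eq t₀ f₂] at this
  rw [f₁, f₂, this]

theorem isLocallyConstant_valAt {W : X.Etale} (s : EtCoh.sect (EtCoh.const X M) W) :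
    IsLocallyConstant (valAt s) := by
  refine (IsLocallyConstant.iff_exists_open _).2 fun w => ?_
  obtain ⟨Z, h, z, m, hz, e⟩ := exists_cst s w
  haveI : Etale h.left := EtSect.etale_left h
  refine ⟨Set.range h.left, h.left.isOpenMap.isOpen_range, ⟨z, hz⟩, ?_⟩
  rintro _ ⟨z', rfl⟩
  rw [valAt_eq z' e, ← hz, valAt_eq z e]

theorem exists_of_isLocallyConstant (W : X.Etale) (f : W.left → M) (hf : IsLocallyConstant f) :
    ∃ s : EtCoh.sect (EtCoh.const X M) W, ∀ w, valAt s w = f w := by
  let O : W.left → W.left.Opens := fun w => ⟨f ⁻¹' {f w}, hf.isOpen_fiber _⟩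
  let y : ∀ w, EtCoh.sect (EtCoh.const X M) (sub W (O w)) := fun w => cst _ (f w)
  obtain ⟨z, hz⟩ := glue_opens (EtCoh.const X M) W O ⊤ (fun _ => le_top) (fun x _ => ⟨x, rfl⟩) y
    (fun i j => by
      rw [res_cst, res_cst]
      refine ext_valAt_all fun η => ?_
      rw [valAt_cst, valAt_cst]
      exact (η.2.1 : f _ = f i).symm.trans (η.2.2 : f _ = f j))
  let k : W ⟶ sub W ⊤ := MorphismProperty.Over.homMk
    (IsOpenImmersion.lift (⊤ : W.left.Opens).ι (𝟙 W.left) (fun x _ => ⟨⟨x, trivial⟩, rfl⟩))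
    ((Category.assoc _ (⊤ : W.left.Opens).ι W.hom).symm.trans
      ((congrArg (fun j => j ≫ W.hom) (IsOpenImmersion.lift_fac (⊤ : W.left.Opens).ι (𝟙 W.left) _)).trans
        (Category.id_comp _)))
  have hk : k ≫ subι W ⊤ = 𝟙 W := by
    apply MorphismProperty.Over.Hom.ext
    exact IsOpenImmersion.lift_fac _ _ _
  refine ⟨rs _ k z, fun η => ?_⟩
  let p : (sub W (O η)).left := (⟨η, rfl⟩ : (O η).toScheme)
  have hp : k.left η = (subLe W (le_top : O η ≤ ⊤)).left p := by
    apply (⊤ : W.left.Opens).ι.isOpenEmbedding.injective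
    show (k ≫ subι W ⊤).left η = (subLe W (le_top : O η ≤ ⊤) ≫ subι W ⊤).left p
    rw [hk, subLe_ι]; rfl
  rw [valAt_res, hp, ← valAt_res]
  erw [hz η]
  rw [show y η = cst _ (f η) from rfl, valAt_cst]

theorem valAt_cUnit_all (f : Y ⟶ X) [Mono f] {W : X.Etale} (s : EtCoh.sect (EtCoh.const X M) W)
    (η' : (pullback W.hom f : Scheme.{u})) :
    valAt (W := (EtCoh.bc f).obj W) ((cUnit f M).hom.app (op W) s) η' = valAt s (pullback.fst W.hom f η') := by
  obtain ⟨Z, h, z, m, hz, e⟩ := exists_cst s (pullback.fst W.hom f η')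
  rw [← hz, valAt_eq z e]
  have hzX : Z.hom z = f (pullback.snd W.hom f η') := by
    rw [← MorphismProperty.Over.w h]
    show W.hom (h.left z) = _
    rw [hz, ← Scheme.Hom.comp_apply, ← Scheme.Hom.comp_apply, pullback.condition]
    rfl
  obtain ⟨z', hz', -⟩ := Scheme.Pullback.exists_preimage_pullback z (pullback.snd W.hom f η') hzX
  let bh := (EtCoh.bc f).map h
  have he : rs (EtCoh.const Y M) bh ((cUnit f M).hom.app (op W) s) = cst ((EtCoh.bc f).obj Z) m := by
    refine (EtFLC.app_res (cUnit f M) h s).symm.trans ?_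
    rw [e]
    exact cUnit_cst f Z m
  have hp : bh.left z' = η' := by
    haveI : Mono (pullback.fst W.hom f) := inferInstance
    refine (pullback.fst W.hom f).injective ?_
    show (bh.left ≫ pullback.fst W.hom f) z' = _
    rw [show bh.left ≫ pullback.fst W.hom f = pullback.fst Z.hom f ≫ h.left from pullback.lift_fst _ _ _,
      Scheme.Hom.comp_apply]
    exact (congrArg h.left hz').trans hz
  have := valAt_eq z' he
  rwa [hp] at this

theorem cUnit_bijective_open (j : Y ⟶ X) [IsOpenImmersion j] [QuasiCompact j] (hd : Dense (Set.range j))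
    (W : X.Etale) (hdom : ∀ w : W.left, IsDomain (W.left.presheaf.stalk w)) :
    Function.Bijective ((cUnit j M).hom.app (op W)) := by
  let j' : (pullback W.hom j : Scheme.{u}) ⟶ W.left := pullback.fst W.hom j
  haveI : QuasiCompact j' := MorphismProperty.pullback_fst (P := @QuasiCompact) W.hom j ‹_›
  haveI : Etale W.hom := W.prop
  have hd' : Dense (Set.range j') := by
    rw [show Set.range j' = W.hom ⁻¹' Set.range j from IsOpenImmersion.range_pullbackFst _ _]
    exact hd.preimage W.hom.isOpenMap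
  refine ⟨fun s t h => ext_valAt_all fun w => ?_, fun s => ?_⟩
  · classical
    have hcl : IsClosed {w : W.left | valAt s w = valAt t w} := by
      convert (((isLocallyConstant_valAt s).comp₂ (isLocallyConstant_valAt t)
        (fun a b => a - b)).isClopen_fiber (0 : M)).1 using 1
      ext w
      simp [sub_eq_zero]
    refine hcl.closure_subset_iff.2 ?_ (hd'.closure_eq ▸ Set.mem_univ w)
    rintro _ ⟨v, rfl⟩
    show valAt s (j' v) = valAt t (j' v)
    exact (valAt_cUnit_all j s v).symm.trans ((congrArg (fun z => valAt (W := (EtCoh.bc j).obj W) z v) h).trans (valAt_cUnit_all j t v))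
  · obtain ⟨F, hF, hF'⟩ := exists_extension j' hd' hdom _ (isLocallyConstant_valAt (W := (EtCoh.bc j).obj W) s)
    obtain ⟨t, ht⟩ := exists_of_isLocallyConstant W F hF
    exact ⟨t, ext_valAt_all fun v => (valAt_cUnit_all j t v).trans ((ht _).trans (hF' v))⟩

theorem isIso_unit_const_open (j : Y ⟶ X) [IsOpenImmersion j] [QuasiCompact j] (hd : Dense (Set.range j))
    (hdom : ∀ (W : X.Etale) (w : W.left), IsDomain (W.left.presheaf.stalk w)) :
    IsIso ((EtCoh.pullPushAdj j).unit.app (EtCoh.const X M)) := by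
  haveI : IsIso ((sheafToPresheaf _ _).map (cUnit j M)) := by
    rw [NatTrans.isIso_iff_isIso_app]
    rintro ⟨W⟩
    exact (ConcreteCategory.isIso_iff_bijective _).2 (cUnit_bijective_open j hd W (hdom W))
  haveI : IsIso (cUnit j M) := isIso_of_reflects_iso _ (sheafToPresheaf _ _)
  rw [show (EtCoh.pullPushAdj j).unit.app (EtCoh.const X M) =
      cUnit j M ≫ (EtCoh.push j).map (EtCore.pullConst j M).inv by
    rw [cUnit, Category.assoc, ← Functor.map_comp, Iso.hom_inv_id]
    erw [CategoryTheory.Functor.map_id, Category.comp_id]]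
  infer_instance

end Const

end Groth.Agent.EtMV
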