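import Mathlib
import Groth.Agent.EtFLC.Site
import Groth.Agent.EtMV.Free
import Groth.Agent.EtMV.AdjExt
import Groth.Agent.EtMV.Inst

/-! Classes of positive degree die on etale neighbourhoods. -/

universe u

open CategoryTheory CategoryTheory.Limits CategoryTheory.Abelian AlgebraicGeometry Opposite

set_option backward.isDefEq.respectTransparency false

noncomputable section

namespace Groth.Agent.EtMV

set_option linter.auxLemma false
attribute [local instance 100000] EtCoh.H._proof_1 hext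
attribute [local instance 200000] hextAb

variable {X : Scheme.{u}}

theorem exists_kill (n : ℕ) : ∀ (o₀ : X.Etale) (G : EtCoh.Ab X) (c : Ext ((P X).obj o₀) G (n + 1)) (w₀ : o₀.left),
    ∃ (o : X.Etale) (h : o ⟶ o₀) (w : o.left), h.left w = w₀ ∧
      (Ext.mk₀ ((P X).map h)).comp c (zero_add (n + 1)) = 0 := by
  induction n with
  | zero =>
    intro o₀ G c w₀
    have hS := injSeq_shortExact G
    haveI := hS.epi_g
    obtain ⟨d, rfl⟩ := Ext.covariant_sequence_exact₁ _ hS c (Ext.eq_zero_of_injective _) rfl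
    obtain ⟨φ, rfl⟩ := (Ext.mk₀_bijective _ _).2 d
    obtain ⟨o, h, w, t, hw, ht⟩ := EtFLC.exists_lift_of_epi (injSeq G).g (σ φ) w₀
    refine ⟨o, h, w, hw, ?_⟩
    have hφ : (P X).map h ≫ φ = σ.symm t ≫ (injSeq G).g := σ.injective (by
      rw [σ_map, σ_comp, Equiv.apply_symm_apply]
      exact ht.symm)
    rw [Ext.mk₀_comp_mk₀_assoc, hφ, ← Ext.mk₀_comp_mk₀_assoc, hS.comp_extClass, Ext.comp_zero]
  | succ n ih =>
    intro o₀ G c w₀
    have hS := injSeq_shortExact G
    obtain ⟨d, rfl⟩ := Ext.covariant_sequence_exact₁ _ hS c (Ext.eq_zero_of_injective _) rfl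
    obtain ⟨o, h, w, hw, hd⟩ := ih o₀ _ d w₀
    refine ⟨o, h, w, hw, ?_⟩
    rw [← Ext.comp_assoc (a₁₂ := n + 1) _ _ _ (zero_add (n + 1)) rfl (by lia), hd, Ext.zero_comp]

end Groth.Agent.EtMV
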