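import Mathlib
import Groth.Agent.EtMV.Free
import Groth.Agent.EtMV.Inst

/-! The Mayer-Vietoris short exact sequence of free sheaves on two opens. -/

universe u

open CategoryTheory CategoryTheory.Limits CategoryTheory.Abelian AlgebraicGeometry Opposite

set_option backward.isDefEq.respectTransparency false

noncomputable section

namespace Groth.Agent.EtMV

variable {X : Scheme.{u}}

theorem glue' {U V W : X.Opens} (hU : U ≤ W) (hV : V ≤ W) (hUV : W ≤ U ⊔ V) (G : EtCoh.Ab X) (s : EtCoh.sect G (oo U))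
    (t : EtCoh.sect G (oo V))
    (h : G.obj.map (res (inf_le_left : U ⊓ V ≤ U)).op s = G.obj.map (res (inf_le_right : U ⊓ V ≤ V)).op t) :
    ∃! x : EtCoh.sect G (oo W),
      G.obj.map (res hU).op x = s ∧ G.obj.map (res hV).op x = t := by
  let o : Bool → X.Etale := fun b => cond b (oo U) (oo V)
  let π : ∀ b, o b ⟶ oo W := fun b => match b with
    | true => res hU
    | false => res hV
  have hsh : Presieve.IsSheafFor (G.obj ⋙ forget AddCommGrpCat.{u + 1}) (Presieve.ofArrows o π) := by
    refine ((isSheaf_iff_isSheaf_of_type _ _).1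
      ((sheafCompose X.smallEtaleTopology (forget AddCommGrpCat.{u + 1})).obj G).property).isSheafFor _ ?_
    refine EtInvariance.SchemePush.mem_of_surjective fun (x' : (W : Scheme.{u})) => ?_
    obtain ⟨x, hxW⟩ := x'
    have hx : x ∈ U ⊔ V := hUV hxW
    rcases hx with hx | hx
    · exact ⟨o true, π true, ⟨_, 𝟙 _, π true, Presieve.ofArrows.mk (f := π) true, Category.id_comp _⟩, ⟨⟨x, hx⟩, W.ι.isOpenEmbedding.injective (congrArg (fun k => k (⟨x, hx⟩ : (U : Scheme.{u}))) (X.homOfLE_ι hU))⟩⟩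
    · exact ⟨o false, π false, ⟨_, 𝟙 _, π false, Presieve.ofArrows.mk (f := π) false, Category.id_comp _⟩, ⟨⟨x, hx⟩, W.ι.isOpenEmbedding.injective (congrArg (fun k => k (⟨x, hx⟩ : (V : Scheme.{u}))) (X.homOfLE_ι hV))⟩⟩
  let z : ∀ b, EtCoh.sect G (o b) := fun b => match b with
    | true => s
    | false => t
  have key : ∀ {Z : X.Etale} (a : Z ⟶ oo U) (b : Z ⟶ oo V), G.obj.map a.op s = G.obj.map b.op t := by
    intro Z a b
    obtain ⟨c⟩ := exists_lift (U := U ⊓ V) (T := Z) (Set.subset_inter (range_subset a) (range_subset b))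
    have hh := congrArg (G.obj.map c.op) h
    rw [← ConcreteCategory.comp_apply, ← ConcreteCategory.comp_apply, ← G.obj.map_comp,
      ← G.obj.map_comp, ← op_comp, ← op_comp] at hh
    rw [hom_oo_ext a (c ≫ res inf_le_left), hom_oo_ext b (c ≫ res inf_le_right)]
    exact hh
  have hc : Presieve.Arrows.Compatible (G.obj ⋙ forget AddCommGrpCat.{u + 1}) π z := by
    intro i j Z gi gj _
    cases i <;> cases j
    · rw [hom_oo_ext (U := V) gi gj]
    · exact (key gj gi).symm
    · exact key gi gj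
    · rw [hom_oo_ext (U := U) gi gj]
  obtain ⟨x, hx, hu⟩ := Presieve.isSheafFor_arrows_iff _ _ |>.1 hsh z hc
  exact ⟨x, ⟨hx true, hx false⟩, fun y hy => hu y fun b => by cases b <;> [exact hy.2; exact hy.1]⟩

/-- The Mayer-Vietoris short complex of free sheaves. -/
def sc' {U V W : X.Opens} (hU : U ≤ W) (hV : V ≤ W) : ShortComplex (EtCoh.Ab X) :=
  ShortComplex.mk
    (biprod.lift ((P X).map (res (inf_le_left : U ⊓ V ≤ U))) (-(P X).map (res (inf_le_right : U ⊓ V ≤ V))))
    (biprod.desc ((P X).map (res hU)) ((P X).map (res hV)))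
    (by
      rw [biprod.lift_desc, Preadditive.neg_comp, ← Functor.map_comp, ← Functor.map_comp,
        hom_oo_ext (res inf_le_left ≫ res hU) (res inf_le_right ≫ res hV), add_neg_cancel])

theorem sc'_shortExact {U V W : X.Opens} (hU : U ≤ W) (hV : V ≤ W) (hUV : W ≤ U ⊔ V) : (sc' hU hV).ShortExact := by
  have hmono : Mono (sc' hU hV).f := by
    have := mono_P_map (res (inf_le_left : U ⊓ V ≤ U))
    exact mono_of_mono_fac (biprod.lift_fst ((P X).map (res (inf_le_left : U ⊓ V ≤ U)))
      (-(P X).map (res (inf_le_right : U ⊓ V ≤ V))))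
  have hepi : Epi (sc' hU hV).g := by
    constructor
    intro G a b hab
    apply σ.injective
    have h1 : σ ((P X).map (res hU) ≫ a) = σ ((P X).map (res hU) ≫ b) := by
      have := congrArg (biprod.inl ≫ ·) hab
      simpa [sc'] using congrArg σ this
    have h2 : σ ((P X).map (res hV) ≫ a) = σ ((P X).map (res hV) ≫ b) := by
      have := congrArg (biprod.inr ≫ ·) hab
      simpa [sc'] using congrArg σ this
    rw [σ_map, σ_map] at h1 h2
    refine (glue' hU hV hUV G _ _ ?_).unique ⟨rfl, rfl⟩ ⟨h1.symm, h2.symm⟩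
    rw [← ConcreteCategory.comp_apply, ← ConcreteCategory.comp_apply, ← G.obj.map_comp,
      ← G.obj.map_comp, ← op_comp, ← op_comp,
      hom_oo_ext (res inf_le_left ≫ res hU) (res inf_le_right ≫ res hV)]
  refine ShortComplex.ShortExact.mk' ?_ hmono hepi
  refine ShortComplex.exact_of_g_is_cokernel _ ?_
  have hdesc : ∀ {G : EtCoh.Ab X} (k : (sc' hU hV).X₂ ⟶ G), (sc' hU hV).f ≫ k = 0 →
      ∃ l : (sc' hU hV).X₃ ⟶ G, (sc' hU hV).g ≫ l = k := by
    intro G k hk
    obtain ⟨x, ⟨hx1, hx2⟩, -⟩ := glue' hU hV hUV G (σ (biprod.inl ≫ k)) (σ (biprod.inr ≫ k)) (by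
      rw [← σ_map, ← σ_map]
      congr 1
      rw [← sub_eq_zero, ← hk]
      simp [sc', biprod.lift_eq]
      abel)
    refine ⟨σ.symm x, ?_⟩
    apply biprod.hom_ext'
    · simp only [sc', biprod.inl_desc_assoc]
      apply σ.injective; rw [σ_map, Equiv.apply_symm_apply, hx1]
    · simp only [sc', biprod.inr_desc_assoc]
      apply σ.injective; rw [σ_map, Equiv.apply_symm_apply, hx2]
  choose l hl using @hdesc
  exact CokernelCofork.IsColimit.ofπ _ _ (fun k hk => l k hk) (fun k hk => hl k hk)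
    (fun k hk m hm => by rw [← cancel_epi (sc' hU hV).g, hm, hl k hk])

end Groth.Agent.EtMV
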