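import Mathlib
import Groth.Agent.EtMV.MVOpens
import Groth.Agent.EtMV.KillClass
import Groth.Agent.EtMV.LocIsoFlasque
import Groth.Agent.EtFLC.Site

/-! A criterion for vanishing of cohomology on affine schemes whose etale maps are local isomorphisms. -/

universe u

open CategoryTheory CategoryTheory.Limits CategoryTheory.Abelian AlgebraicGeometry Opposite

set_option backward.isDefEq.respectTransparency false

noncomputable section

namespace Groth.Agent.EtMV

set_option linter.auxLemma false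
attribute [local instance 100000] EtCoh.H._proof_1 hext
attribute [local instance 200000] hextAb

variable {X : Scheme.{u}} {F : EtCoh.Ab X} {n : ℕ}

/-- Restriction of classes. -/
def R {U V : X.Opens} (h : U ≤ V) (x : Ext ((P X).obj (oo V)) F n) : Ext ((P X).obj (oo U)) F n :=
  (Ext.mk₀ ((P X).map (res h))).comp x (zero_add n)

theorem R_R {U V W : X.Opens} (h : U ≤ V) (h' : V ≤ W) (x : Ext ((P X).obj (oo W)) F n) :
    R h (R h' x) = R (h.trans h') x := by
  rw [R, R, R, Ext.mk₀_comp_mk₀_assoc, ← Functor.map_comp, hom_oo_ext (res h ≫ res h') (res (h.trans h'))]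

theorem R_refl {U : X.Opens} (h : U ≤ U) (x : Ext ((P X).obj (oo U)) F n) : R h x = x := by
  rw [R, hom_oo_ext (res h) (𝟙 _), CategoryTheory.Functor.map_id, Ext.mk₀_id_comp]

theorem R_zero {U V : X.Opens} (h : U ≤ V) : R h (0 : Ext ((P X).obj (oo V)) F n) = 0 := Ext.comp_zero _ _ _ _ _

theorem isZero_P_empty (o : X.Etale) (h : IsEmpty o.left) : IsZero ((P X).obj o) := by
  rw [IsZero.iff_id_eq_zero]
  exact σ.injective (EtFLC.sect_ext _ fun v => h.elim v)

theorem eq_zero_of_empty {U : X.Opens} (h : U = ⊥) (x : Ext ((P X).obj (oo U)) F n) : x = 0 := by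
  have he : IsEmpty (oo U).left := by subst h; exact ⟨fun v => v.2.elim⟩
  rw [← Ext.mk₀_id_comp x, (IsZero.iff_id_eq_zero _).1 (isZero_P_empty (oo U) he), Ext.mk₀_zero, Ext.zero_comp]

/-- Classes glue uniquely on two opens when classes one degree down die on the intersection. -/
theorem eq_zero_of_mv {U V W : X.Opens} (hU : U ≤ W) (hV : V ≤ W) (hUV : W ≤ U ⊔ V)
    (hz : ∀ y : Ext ((P X).obj (oo (U ⊓ V))) F n, y = 0) (x : Ext ((P X).obj (oo W)) F (n + 1))
    (h1 : R hU x = 0) (h2 : R hV x = 0) : x = 0 := by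
  have hS := sc'_shortExact hU hV hUV
  have h0 : (Ext.mk₀ (sc' hU hV).g).comp x (zero_add _) = 0 := by
    apply Ext.biprodAddEquiv.injective
    rw [map_zero]
    refine Prod.ext ?_ ?_
    · show (Ext.mk₀ biprod.inl).comp ((Ext.mk₀ (sc' hU hV).g).comp x (zero_add _)) (zero_add _) = 0
      rw [Ext.mk₀_comp_mk₀_assoc]
      simpa [sc', R] using h1
    · show (Ext.mk₀ biprod.inr).comp ((Ext.mk₀ (sc' hU hV).g).comp x (zero_add _)) (zero_add _) = 0
      rw [Ext.mk₀_comp_mk₀_assoc]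
      simpa [sc', R] using h2
  obtain ⟨y, hy⟩ := Ext.contravariant_sequence_exact₃ hS F x h0 (n₀ := n) (add_comm 1 n)
  rw [← hy, hz y, Ext.comp_zero]

theorem exists_nhd_R_zero (hX : LocIso X) {U : X.Opens} (x : Ext ((P X).obj (oo U)) F (n + 1)) {p : X} (hp : p ∈ U) :
    ∃ (V : X.Opens) (h : V ≤ U), p ∈ V ∧ R h x = 0 := by
  obtain ⟨o, h, w, hw, hk⟩ := exists_kill n (oo U) F x (⟨p, hp⟩ : (U : Scheme.{u}))
  obtain ⟨O, hwO, hO⟩ := hX o w
  haveI := hO
  let j : (O : Scheme.{u}) ⟶ X := O.ι ≫ o.hom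
  have hj : j.opensRange ≤ U := by
    rintro _ ⟨t, rfl⟩
    exact range_subset h ⟨_, rfl⟩
  let k : oo j.opensRange ⟶ o := MorphismProperty.Over.homMk (j.isoOpensRange.inv ≫ O.ι)
    ((Category.assoc _ _ _).trans j.isoOpensRange_inv_comp)
  refine ⟨j.opensRange, hj, ⟨⟨w, hwO⟩, ?_⟩, ?_⟩
  · show o.hom w = p
    rw [← MorphismProperty.Over.w h]
    exact congrArg Subtype.val hw
  · rw [R, hom_oo_ext (res hj) (k ≫ h), Functor.map_comp, ← Ext.mk₀_comp_mk₀_assoc, hk, Ext.comp_zero]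

theorem basicOpen_add_le (a b : Γ(X, ⊤)) : X.basicOpen (a + b) ≤ X.basicOpen a ⊔ X.basicOpen b := by
  intro p hp
  rw [Scheme.mem_basicOpen_top] at hp
  rw [map_add] at hp
  rcases IsLocalRing.isUnit_or_isUnit_of_isUnit_add hp with h | h
  · exact Or.inl ((Scheme.mem_basicOpen_top _ _ _).2 h)
  · exact Or.inr ((Scheme.mem_basicOpen_top _ _ _).2 h)

theorem gabber_step (hX : LocIso X) (hA : IsAffineOpen (⊤ : X.Opens))
    (hstep : ∀ (a b : Γ(X, ⊤)) (h₁ : X.basicOpen (a * (a + b)) ≤ X.basicOpen (a + b))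
      (h₂ : X.basicOpen (b * (a + b)) ≤ X.basicOpen (a + b)) (x : Ext ((P X).obj (oo (X.basicOpen (a + b)))) F (n + 1)),
      R h₁ x = 0 → R h₂ x = 0 → x = 0)
    (c : Γ(X, ⊤)) (x : Ext ((P X).obj (oo (X.basicOpen c))) F (n + 1)) : x = 0 := by
  have le : ∀ f, X.basicOpen (f * c) ≤ X.basicOpen c := fun f => (X.basicOpen_mul f c).trans_le inf_le_right
  let I : Ideal Γ(X, ⊤) :=
    { carrier := {f | R (le f) x = 0}
      zero_mem' := eq_zero_of_empty (by rw [zero_mul, Scheme.basicOpen_zero]) _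
      smul_mem' := fun r f (hf : R (le f) x = 0) => by
        have h : X.basicOpen (r * f * c) ≤ X.basicOpen (f * c) := by
          rw [mul_assoc]; exact (X.basicOpen_mul r (f * c)).trans_le inf_le_right
        show R (le (r * f)) x = 0
        rw [← R_R h (le f), hf, R_zero]
      add_mem' := fun {f g} (hf : R (le f) x = 0) (hg : R (le g) x = 0) => by
        show R (le (f + g)) x = 0
        have he : X.basicOpen ((f + g) * c) = X.basicOpen (f * c + g * c) := by rw [add_mul]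
        have key := hstep (f * c) (g * c) ((X.basicOpen_mul _ _).trans_le inf_le_right)
          ((X.basicOpen_mul _ _).trans_le inf_le_right) (R (he ▸ le (f + g)) x)
          (by
            rw [R_R, ← R_R ((X.basicOpen_mul (f * c) _).trans_le inf_le_left) (le f), hf, R_zero])
          (by
            rw [R_R, ← R_R ((X.basicOpen_mul (g * c) _).trans_le inf_le_left) (le g), hg, R_zero])
        rw [← R_R he.le (he ▸ le (f + g)), key, R_zero] }
  have hrad : c ∈ I.radical := by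
    rw [Ideal.radical_eq_sInf, Ideal.mem_sInf]
    rintro P ⟨hIP, hP⟩
    by_contra hc
    let p : X := hA.fromSpec ⟨P, hP⟩
    have hmem : ∀ f, p ∈ X.basicOpen f ↔ f ∉ P := fun f => by
      show (⟨P, hP⟩ : Spec Γ(X, ⊤)) ∈ hA.fromSpec ⁻¹ᵁ X.basicOpen f ↔ _
      rw [hA.fromSpec_preimage_basicOpen]
      rfl
    obtain ⟨V, hV, hpV, hz⟩ := exists_nhd_R_zero hX x ((hmem c).2 hc)
    obtain ⟨f, hfV, hpf⟩ := hA.exists_basicOpen_le ⟨p, hpV⟩ trivial
    refine (hmem f).1 hpf (hIP ?_)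
    show R (le f) x = 0
    rw [← R_R (((X.basicOpen_mul f c).trans_le inf_le_left).trans hfV) hV, hz, R_zero]
  obtain ⟨N, hN⟩ := hrad
  have he : X.basicOpen c ≤ X.basicOpen (c ^ N * c) := by
    rw [← pow_succ, Scheme.basicOpen_pow _ _ N.succ_pos]
  have : R (le (c ^ N)) x = 0 := hN
  rw [← R_refl le_rfl x, ← R_R he (le (c ^ N)), this, R_zero]

theorem gabber_vanish (hX : LocIso X) (hA : IsAffineOpen (⊤ : X.Opens))
    (h1 : ∀ (a b : Γ(X, ⊤)) (h₁ : X.basicOpen (a * (a + b)) ≤ X.basicOpen (a + b))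
      (h₂ : X.basicOpen (b * (a + b)) ≤ X.basicOpen (a + b)) (x : Ext ((P X).obj (oo (X.basicOpen (a + b)))) F 1),
      R h₁ x = 0 → R h₂ x = 0 → x = 0)
    (q : ℕ) : ∀ (c : Γ(X, ⊤)) (x : Ext ((P X).obj (oo (X.basicOpen c))) F (q + 1)), x = 0 := by
  induction q with
  | zero => exact gabber_step hX hA h1
  | succ q ih =>
    refine gabber_step hX hA fun a b h₁ h₂ x e₁ e₂ => eq_zero_of_mv h₁ h₂ ?_ ?_ x e₁ e₂
    · intro p hp
      rcases basicOpen_add_le a b hp with h | h
      · exact Or.inl (by rw [Scheme.basicOpen_mul]; exact ⟨h, hp⟩)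
      · exact Or.inr (by rw [Scheme.basicOpen_mul]; exact ⟨h, hp⟩)
    · have e : X.basicOpen (a * (a + b)) ⊓ X.basicOpen (b * (a + b)) =
          X.basicOpen (a * (a + b) * (b * (a + b))) := (X.basicOpen_mul _ _).symm
      intro y
      rw [← R_refl le_rfl y, ← R_R e.le e.ge, ih _ (R e.ge y), R_zero]

end Groth.Agent.EtMV
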