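import Mathlib
import Groth.Prelude.Def_EtBase
import Groth.Agent.EtHens.Basic
import Groth.Agent.EtaleSections.Basic
import Groth.Agent.EtMV.LocIsoFlasque
import Groth.Agent.RatMap.Spread

/-! Etale maps are local isomorphisms at points with strictly henselian local rings. -/

set_option autoImplicit false
set_option backward.isDefEq.respectTransparency false

universe u

open CategoryTheory CategoryTheory.Limits AlgebraicGeometry Opposite

namespace Groth.Agent.EtMV

theorem isLocalIsoAt_of_strictlyHenselian {U X : Scheme.{u}} (g : U ⟶ X) [Etale g] (u : U)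
    (h : EtCoh.IsStrictlyHenselianLocalRing (X.presheaf.stalk (g u))) : ∃ O : U.Opens, u ∈ O ∧ IsOpenImmersion (O.ι ≫ g) := by
  obtain ⟨hhens, hsep⟩ := h
  haveI := hhens
  haveI : IsSepClosed (X.residueField (g u)) := hsep
  let i := X.fromSpecStalk (g u)
  letI : Algebra (X.residueField (g u)) (U.residueField u) := (g.residueFieldMap u).hom.toAlgebra
  haveI : Algebra.IsSeparable (X.residueField (g u)) (U.residueField u) := inferInstance
  haveI : IsIso (g.residueFieldMap u) := (ConcreteCategory.isIso_iff_bijective _).2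
    ⟨RingHom.injective _, IsSepClosed.algebraMap_surjective (X.residueField (g u)) (U.residueField u)⟩
  let m : Spec (X.residueField (g u)) ⟶ U := Spec.map (inv (g.residueFieldMap u)) ≫ U.fromSpecResidueField u
  have hm : m ≫ g = X.fromSpecResidueField (g u) := by
    rw [Category.assoc, ← Scheme.Hom.SpecMap_residueFieldMap_fromSpecResidueField, ← Category.assoc, ← Spec.map_comp,
      IsIso.hom_inv_id, Spec.map_id, Category.id_comp]
  have hm' : m ≫ g = EtHens.pt (X.presheaf.stalk (g u)) ≫ i := by rw [hm]; rfl
  let Wl : Scheme.{u} := pullback g i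
  haveI : Etale (pullback.snd g i) := MorphismProperty.pullback_snd _ _ inferInstance
  let W : (Spec (CommRingCat.of (X.presheaf.stalk (g u)))).Etale :=
    MorphismProperty.Over.mk ⊤ (pullback.snd g i) inferInstance
  obtain ⟨s, hs, hsw⟩ := EtHens.exists_section (X.presheaf.stalk (g u)) W
    (Over.homMk (pullback.lift m (EtHens.pt (X.presheaf.stalk (g u))) hm') (pullback.lift_snd _ _ _))
  have hsu : (s ≫ pullback.fst g i) (IsLocalRing.closedPoint (X.presheaf.stalk (g u))) = u := by
    have h1 : EtHens.pt (X.presheaf.stalk (g u)) (IsLocalRing.closedPoint (X.residueField (g u))) =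
        IsLocalRing.closedPoint (X.presheaf.stalk (g u)) :=
      IsLocalRing.comap_closedPoint (IsLocalRing.residue (X.presheaf.stalk (g u)))
    rw [← h1, ← Scheme.Hom.comp_apply, ← Category.assoc, hsw]
    simp only [Over.homMk_left]
    rw [pullback.lift_fst]
    exact Scheme.fromSpecResidueField_apply u _
  have hsg : (s ≫ pullback.fst g i) ≫ g = X.fromSpecStalk (g u) ≫ 𝟙 X := by
    rw [Category.assoc, pullback.condition, ← Category.assoc]
    exact congrArg (· ≫ i) hs |>.trans (by simp [i])
  obtain ⟨V, hxV, σ, hσ, hσg⟩ := RatMap.spread_out_of_locallyOfFinitePresentation (𝟙 X) g (x := g u) (s ≫ pullback.fst g i) hsg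
  rw [Category.comp_id] at hσg
  haveI : IsOpenImmersion (σ ≫ g) := by rw [hσg]; infer_instance
  haveI : Etale σ := Etale.of_comp σ g
  haveI : Mono σ := mono_of_mono σ g
  haveI : UniversallyInjective σ := inferInstance
  haveI : IsOpenImmersion σ := EtaleSections.isOpenImmersion_of_etale_universallyInjective σ
  refine ⟨σ.opensRange, ⟨⟨g u, hxV⟩, ?_⟩, ?_⟩
  · conv_rhs => rw [← hsu, hσ, Scheme.Hom.comp_apply]
    congr 1
    refine Subtype.ext ?_
    show g u = (V.fromSpecStalkOfMem (g u) hxV ≫ V.ι) (IsLocalRing.closedPoint _)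
    rw [Scheme.Opens.fromSpecStalkOfMem_ι, Scheme.fromSpecStalk_closedPoint]
  · have : σ.opensRange.ι ≫ g = σ.isoOpensRange.inv ≫ σ ≫ g := by
      rw [← Category.assoc, Scheme.Hom.isoOpensRange_inv_comp]
    rw [this]
    infer_instance

theorem locIso_of_strictlyHenselian {X : Scheme.{u}}
    (h : ∀ x : X, EtCoh.IsStrictlyHenselianLocalRing (X.presheaf.stalk x)) : LocIso X := fun W w => by
  haveI : Etale W.hom := W.prop
  exact isLocalIsoAt_of_strictlyHenselian W.hom w (h _)

end Groth.Agent.EtMV
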