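import Mathlib

/-! The long exact sequence of a "Mayer-Vietoris" short exact sequence, transported along
isomorphisms of abelian groups. -/

universe w v u

open CategoryTheory CategoryTheory.Limits CategoryTheory.Abelian

noncomputable section

namespace Groth.Agent.EtMV

variable {A : Type u} [Category.{v} A] [Abelian A] [HasExt.{w} A] {PU PV PW PX : A}

/-- Precomposition with an isomorphism. -/
def preIso {P Q : A} (e : Q ≅ P) (G : A) (n : ℕ) : Ext P G n ≃+ Ext Q G n where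
  toFun x := (Ext.mk₀ e.hom).comp x (zero_add n)
  invFun x := (Ext.mk₀ e.inv).comp x (zero_add n)
  left_inv x := by simp only [Ext.mk₀_comp_mk₀_assoc, Iso.inv_hom_id, Ext.mk₀_id_comp]
  right_inv x := by simp only [Ext.mk₀_comp_mk₀_assoc, Iso.hom_inv_id, Ext.mk₀_id_comp]
  map_add' _ _ := Ext.comp_add _ _ _ _

theorem inv_comp_preIso {P Q : A} (e : Q ≅ P) (G : A) (n : ℕ) (x : Ext P G n) :
    (Ext.mk₀ e.inv).comp (preIso e G n x) (zero_add n) = x :=
  (preIso e G n).symm_apply_apply x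

theorem abs_lift_comp (i : PW ⟶ PU) (j : PW ⟶ PV) (G : A) (n : ℕ) (z : Ext (PU ⊞ PV) G n) :
    (Ext.mk₀ (biprod.lift i (-j))).comp z (zero_add n) =
      (Ext.mk₀ i).comp ((Ext.mk₀ biprod.inl).comp z (zero_add n)) (zero_add n) -
      (Ext.mk₀ j).comp ((Ext.mk₀ biprod.inr).comp z (zero_add n)) (zero_add n) := by
  rw [Ext.mk₀_comp_mk₀_assoc, Ext.mk₀_comp_mk₀_assoc]
  simp [biprod.lift_eq, sub_eq_add_neg, Ext.mk₀_add, Ext.mk₀_neg, Ext.add_comp, Ext.neg_comp]

theorem exact_abstract (a : PU ⟶ PX) (b : PV ⟶ PX) (i : PW ⟶ PU) (j : PW ⟶ PV)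
    (w : biprod.lift i (-j) ≫ biprod.desc a b = 0) (hS : (ShortComplex.mk _ _ w).ShortExact) (G : A)
    {HX HU HV HW : ℕ → Type w} [∀ n, AddCommGroup (HX n)] [∀ n, AddCommGroup (HU n)]
    [∀ n, AddCommGroup (HV n)] [∀ n, AddCommGroup (HW n)]
    (eX : ∀ n, Ext PX G n ≃+ HX n) (eU : ∀ n, Ext PU G n ≃+ HU n) (eV : ∀ n, Ext PV G n ≃+ HV n)
    (eW : ∀ n, Ext PW G n ≃+ HW n)
    (pU : ∀ n, HX n →+ HU n) (pV : ∀ n, HX n →+ HV n) (dU : ∀ n, HU n →+ HW n) (dV : ∀ n, HV n →+ HW n)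
    (hU : ∀ n x, pU n (eX n x) = eU n ((Ext.mk₀ a).comp x (zero_add n)))
    (hV : ∀ n x, pV n (eX n x) = eV n ((Ext.mk₀ b).comp x (zero_add n)))
    (hdU : ∀ n z, dU n (eU n z) = eW n ((Ext.mk₀ i).comp z (zero_add n)))
    (hdV : ∀ n z, dV n (eV n z) = eW n ((Ext.mk₀ j).comp z (zero_add n))) :
    ∃ δ : ∀ n : ℕ, HW n →+ HX (n + 1), (AddMonoidHom.prod (pU 0) (pV 0)).ker = ⊥ ∧
      (∀ n, (AddMonoidHom.prod (pU (n + 1)) (pV (n + 1))).ker = (δ n).range) ∧
      (∀ n, ((dU n).comp (AddMonoidHom.fst _ _) - (dV n).comp (AddMonoidHom.snd _ _)).ker =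
        (AddMonoidHom.prod (pU n) (pV n)).range) ∧
      (∀ n, (δ n).ker = ((dU n).comp (AddMonoidHom.fst _ _) - (dV n).comp (AddMonoidHom.snd _ _)).range) := by
  -- pairs
  let Q : ∀ n, Ext (PU ⊞ PV) G n → HU n × HV n := fun n z =>
    (eU n ((Ext.mk₀ biprod.inl).comp z (zero_add n)), eV n ((Ext.mk₀ biprod.inr).comp z (zero_add n)))
  have hQs : ∀ n p, ∃ z, Q n z = p := fun n p => by
    have h := Ext.biprodAddEquiv.apply_symm_apply ((eU n).symm p.1, (eV n).symm p.2)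
    exact ⟨Ext.biprodAddEquiv.symm ((eU n).symm p.1, (eV n).symm p.2),
      Prod.ext ((congrArg (eU n) (congrArg Prod.fst h)).trans ((eU n).apply_symm_apply _))
        ((congrArg (eV n) (congrArg Prod.snd h)).trans ((eV n).apply_symm_apply _))⟩
  have hQi : ∀ n, Function.Injective (Q n) := fun n z z' h =>
    Ext.biprodAddEquiv.injective (Prod.ext ((eU n).injective (congrArg Prod.fst h))
      ((eV n).injective (congrArg Prod.snd h)))
  have hQ0 : ∀ n, Q n 0 = 0 := fun n => by simp [Q]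
  have hp : ∀ n x, AddMonoidHom.prod (pU n) (pV n) (eX n x) =
      Q n ((Ext.mk₀ (biprod.desc a b)).comp x (zero_add n)) := fun n x => by
    rw [AddMonoidHom.prod_apply, hU, hV]
    simp only [Q, Ext.mk₀_comp_mk₀_assoc, biprod.inl_desc, biprod.inr_desc]
  have hd : ∀ n z, ((dU n).comp (AddMonoidHom.fst (HU n) (HV n)) - (dV n).comp (AddMonoidHom.snd (HU n) (HV n))) (Q n z) =
      eW n ((Ext.mk₀ (biprod.lift i (-j))).comp z (zero_add n)) := fun n z => by
    rw [abs_lift_comp, map_sub, ← hdU, ← hdV]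
    rfl
  refine ⟨fun n => (eX (n + 1)).toAddMonoidHom.comp
    ((hS.extClass.precomp G (add_comm 1 n)).comp (eW n).symm.toAddMonoidHom), ?_, fun n => ?_, fun n => ?_, fun n => ?_⟩
  · rw [AddSubgroup.eq_bot_iff_forall]
    intro y hy
    obtain ⟨x, rfl⟩ := (eX 0).surjective y
    rw [AddMonoidHom.mem_ker, hp, ← hQ0] at hy
    have hy' := hQi 0 hy
    obtain ⟨φ, rfl⟩ := (Ext.mk₀_bijective _ _).2 x
    rw [Ext.mk₀_comp_mk₀, ← Ext.mk₀_zero] at hy'
    have := hS.epi_g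
    have h3 : φ = 0 := zero_of_epi_comp (biprod.desc a b) ((Ext.mk₀_bijective _ _).1 hy')
    rw [h3, Ext.mk₀_zero, map_zero]
  · ext y
    obtain ⟨x, rfl⟩ := (eX (n + 1)).surjective y
    rw [AddMonoidHom.mem_ker, AddMonoidHom.mem_range, hp, ← hQ0]
    constructor
    · intro hx
      obtain ⟨x₁, hx₁⟩ := Ext.contravariant_sequence_exact₃ hS G x (hQi _ hx) (n₀ := n) (add_comm 1 n)
      refine ⟨eW n x₁, congrArg (eX (n + 1)) ?_⟩
      rw [← hx₁]
      exact congrArg (fun t => hS.extClass.comp t (add_comm 1 n)) ((eW n).symm_apply_apply x₁)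
    · rintro ⟨y, hy⟩
      rw [← (eX (n + 1)).injective hy]
      exact congrArg (Q _) (hS.comp_extClass_assoc ((eW n).symm y) (add_comm 1 n))
  · ext p
    obtain ⟨z, rfl⟩ := hQs n p
    rw [AddMonoidHom.mem_ker, AddMonoidHom.mem_range, hd, AddEquiv.map_eq_zero_iff]
    constructor
    · intro hz
      obtain ⟨x, hx⟩ := Ext.contravariant_sequence_exact₂ hS G z hz
      exact ⟨eX n x, (hp n x).trans (congrArg (Q n) hx)⟩
    · rintro ⟨y, hy⟩
      obtain ⟨x, rfl⟩ := (eX n).surjective y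
      rw [hp] at hy
      rw [← hQi n hy, Ext.mk₀_comp_mk₀_assoc, w, Ext.mk₀_zero, Ext.zero_comp]
  · ext y
    obtain ⟨x, rfl⟩ := (eW n).surjective y
    rw [AddMonoidHom.mem_ker, AddMonoidHom.mem_range]
    constructor
    · intro hy
      have h0 : hS.extClass.comp ((eW n).symm (eW n x)) (add_comm 1 n) = 0 :=
        (eX (n + 1)).map_eq_zero_iff.1 hy
      rw [AddEquiv.symm_apply_apply] at h0
      obtain ⟨z, hz⟩ := Ext.contravariant_sequence_exact₁ hS G x (add_comm 1 n) h0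
      exact ⟨Q n z, (hd n z).trans (congrArg (eW n) hz)⟩
    · rintro ⟨p, hp'⟩
      obtain ⟨z, rfl⟩ := hQs n p
      rw [hd] at hp'
      rw [← (eW n).injective hp']
      show eX (n + 1) (hS.extClass.comp ((eW n).symm (eW n _)) (add_comm 1 n)) = 0
      rw [AddEquiv.symm_apply_apply, hS.extClass_comp_assoc, map_zero]

end Groth.Agent.EtMV
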