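import Mathlib
import Groth.Agent.EtPullExact.Basic
import Groth.Agent.EtShriekStalk.Basic
import Groth.Agent.EtMV.Base
import Groth.Agent.EtMV.Abs
import Groth.Agent.EtMV.Inst

/-! The Mayer-Vietoris sequence in etale cohomology. -/

universe u

open CategoryTheory CategoryTheory.Limits CategoryTheory.Abelian AlgebraicGeometry Opposite

set_option backward.isDefEq.respectTransparency false

noncomputable section

namespace Groth.Agent.EtMV

set_option linter.auxLemma false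
attribute [local instance 100000] EtCoh.H._proof_1 hext
attribute [local instance 200000] hextAb

/-- The cohomology of `X` as `Ext` out of the free sheaf on the terminal object. -/
def eX (X : Scheme.{u}) (F : EtCoh.Ab X) (n : ℕ) :
    Ext ((P X).obj (EtCoh.top X)) F n ≃+ EtCoh.H X F n :=
  preIso (θ X) F n

theorem Hpull_eX {X : Scheme.{u}} (U : X.Opens) [PreservesFiniteLimits (EtCoh.pull U.ι)] (F : EtCoh.Ab X)
    (n : ℕ) (y : Ext ((P X).obj (EtCoh.top X)) F n) :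
    EtCore.Hpull U.ι F n (eX X F n y) =
      Φ U F n ((Ext.mk₀ ((P X).map (toTop (oo U)))).comp y (zero_add n)) :=
  (Hpull_eq U.ι F n (eX X F n y)).trans
    ((congrArg (T (EtCoh.pull U.ι) (cc U.ι (δtop U.ι)) F n) (inv_comp_preIso (θ X) F n y)).trans
      (Φ_res U F n y).symm)

theorem main (X : Scheme.{u}) (U V : X.Opens) (hUV : U ⊔ V = ⊤) (F : EtCoh.Ab X)
    [PreservesFiniteLimits (EtCoh.pull U.ι)] [PreservesFiniteLimits (EtCoh.pull V.ι)]
    [PreservesFiniteLimits (EtCoh.pull (X.homOfLE (inf_le_left : U ⊓ V ≤ U)))]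
    [PreservesFiniteLimits (EtCoh.pull (X.homOfLE (inf_le_right : U ⊓ V ≤ V)))] :
    ∃ δ : ∀ n : ℕ, EtCoh.H ↑(U ⊓ V) ((EtCoh.pull (U ⊓ V).ι).obj F) n →+ EtCoh.H X F (n + 1),
      (AddMonoidHom.prod (EtCore.Hpull U.ι F 0) (EtCore.Hpull V.ι F 0)).ker = ⊥ ∧
      (∀ n : ℕ, (AddMonoidHom.prod (EtCore.Hpull U.ι F (n + 1)) (EtCore.Hpull V.ι F (n + 1))).ker = (δ n).range) ∧
      (∀ n : ℕ, (((EtCore.HpullVia (X.homOfLE (inf_le_left : U ⊓ V ≤ U)) U.ι (U ⊓ V).ι (X.homOfLE_ι inf_le_left) F n)).comp (AddMonoidHom.fst _ _) - ((EtCore.HpullVia (X.homOfLE (inf_le_right : U ⊓ V ≤ V)) V.ι (U ⊓ V).ι (X.homOfLE_ι inf_le_right) F n)).comp (AddMonoidHom.snd _ _)).ker =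
        (AddMonoidHom.prod (EtCore.Hpull U.ι F n) (EtCore.Hpull V.ι F n)).range) ∧
      (∀ n : ℕ, (δ n).ker = (((EtCore.HpullVia (X.homOfLE (inf_le_left : U ⊓ V ≤ U)) U.ι (U ⊓ V).ι (X.homOfLE_ι inf_le_left) F n)).comp (AddMonoidHom.fst _ _) - ((EtCore.HpullVia (X.homOfLE (inf_le_right : U ⊓ V ≤ V)) V.ι (U ⊓ V).ι (X.homOfLE_ι inf_le_right) F n)).comp (AddMonoidHom.snd _ _)).range) := by
  haveI := Groth.Agent.EtPullExact.pull_preservesFiniteLimits (U ⊓ V).ι
  exact exact_abstract ((P X).map (toTop (oo U))) ((P X).map (toTop (oo V)))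
    ((P X).map (res (inf_le_left : U ⊓ V ≤ U))) ((P X).map (res (inf_le_right : U ⊓ V ≤ V)))
    (sc U V).zero (sc_shortExact hUV) F
    (fun n => eX X F n) (fun n => Φ U F n) (fun n => Φ V F n) (fun n => Φ (U ⊓ V) F n)
    (fun n => EtCore.Hpull U.ι F n) (fun n => EtCore.Hpull V.ι F n)
    (fun n => EtCore.HpullVia (X.homOfLE (inf_le_left : U ⊓ V ≤ U)) U.ι (U ⊓ V).ι (X.homOfLE_ι inf_le_left) F n)
    (fun n => EtCore.HpullVia (X.homOfLE (inf_le_right : U ⊓ V ≤ V)) V.ι (U ⊓ V).ι (X.homOfLE_ι inf_le_right) F n)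
    (fun n y => Hpull_eX U F n y) (fun n y => Hpull_eX V F n y)
    (fun n z => HpullVia_Φ inf_le_left F n z) (fun n z => HpullVia_Φ inf_le_right F n z)

end Groth.Agent.EtMV
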