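import Mathlib
import Groth.Agent.EtPullExact.Basic
import Groth.Agent.EtMV.Main
import Groth.Agent.EtMV.Gabber
import Groth.Agent.EtMV.LocIsoHens
import Groth.Agent.H4Easy.Batch10
import Groth.Agent.Hensel.Henselization

/-! Gabber's criterion in terms of cohomology groups. -/

universe u

open CategoryTheory CategoryTheory.Limits CategoryTheory.Abelian AlgebraicGeometry Opposite

set_option backward.isDefEq.respectTransparency false

noncomputable section

namespace Groth.Agent.EtMV

set_option linter.auxLemma false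
attribute [local instance 100000] EtCoh.H._proof_1 hext
attribute [local instance 200000] hextAb

theorem isStrictlyHenselian_of_equiv {A B : Type u} [CommRing A] [CommRing B] (e : A ≃+* B)
    (h : EtCoh.IsStrictlyHenselianLocalRing A) : EtCoh.IsStrictlyHenselianLocalRing B := by
  obtain ⟨hA, hs⟩ := h
  haveI := H4Easy.henselianLocal_of_equiv e
  exact ⟨inferInstance, Hensel.isSepClosed_of_ringEquiv (IsLocalRing.ResidueField.mapEquiv e)⟩

theorem locIso_Spec (R : Type u) [CommRing R]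
    (hR : ∀ p : PrimeSpectrum R, EtCoh.IsStrictlyHenselianLocalRing (Localization.AtPrime p.asIdeal)) :
    LocIso (Spec (CommRingCat.of R)) :=
  locIso_of_strictlyHenselian fun p => isStrictlyHenselian_of_equiv
    (Spec.stalkIso (CommRingCat.of R) p).commRingCatIsoToRingEquiv.symm (hR p)

theorem hker_R {X : Scheme.{u}} {F : EtCoh.Ab X} {U V W : X.Opens} (hU : U ≤ W) (hV : V ≤ W)
    [PreservesFiniteLimits (EtCoh.pull (X.homOfLE hU))] [PreservesFiniteLimits (EtCoh.pull (X.homOfLE hV))]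
    (hk : ∀ ξ : EtCoh.H (W : Scheme.{u}) ((EtCoh.pull W.ι).obj F) 1,
      EtCore.HpullVia (X.homOfLE hU) W.ι U.ι (X.homOfLE_ι hU) F 1 ξ = 0 →
      EtCore.HpullVia (X.homOfLE hV) W.ι V.ι (X.homOfLE_ι hV) F 1 ξ = 0 → ξ = 0)
    (x : Ext ((P X).obj (oo W)) F 1) (e₁ : R hU x = 0) (e₂ : R hV x = 0) : x = 0 := by
  haveI := EtPullExact.pull_preservesFiniteLimits W.ι
  haveI := EtPullExact.pull_preservesFiniteLimits U.ι
  haveI := EtPullExact.pull_preservesFiniteLimits V.ι
  refine (Φ W F 1).injective ((hk (Φ W F 1 x) ?_ ?_).trans (map_zero _).symm)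
  · exact (HpullVia_Φ hU F 1 x).trans ((congrArg (Φ U F 1) e₁).trans (map_zero _))
  · exact (HpullVia_Φ hV F 1 x).trans ((congrArg (Φ V F 1) e₂).trans (map_zero _))

theorem subsingleton_H_of_vanish {X : Scheme.{u}} (F : EtCoh.Ab X) (n : ℕ)
    (h : ∀ (U : X.Opens), U = ⊤ → ∀ x : Ext ((P X).obj (oo U)) F n, x = 0) :
    Subsingleton (EtCoh.H X F n) := by
  obtain ⟨k⟩ := exists_lift (X := X) (T := EtCoh.top X) (U := ⊤) (fun _ _ => trivial)
  have hz : ∀ y : Ext ((P X).obj (EtCoh.top X)) F n, y = 0 := fun y => by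
    have e : (Ext.mk₀ ((P X).map (toTop (oo ⊤)))).comp y (zero_add n) = 0 := h ⊤ rfl _
    rw [← Ext.mk₀_id_comp y, ← CategoryTheory.Functor.map_id, hom_top_ext (𝟙 _) (k ≫ toTop (oo ⊤)),
      Functor.map_comp, ← Ext.mk₀_comp_mk₀_assoc, e, Ext.comp_zero]
  haveI : Subsingleton (Ext ((P X).obj (EtCoh.top X)) F n) := subsingleton_of_forall_eq 0 hz
  exact (eX X F n).toEquiv.symm.subsingleton

end Groth.Agent.EtMV
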