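import Mathlib
import Groth.Agent.RDerLib.LES

/-! Derived functors of the kernel of a natural transformation that is epi on injectives. -/

set_option autoImplicit false
set_option linter.style.haveILetI false
set_option backward.isDefEq.respectTransparency false
set_option backward.isDefEq.respectTransparency.types false

universe v v' u u'

open CategoryTheory Category Limits

noncomputable section

namespace Groth.Agent.EtMV

variable {C : Type u} [Category.{v} C] [Abelian C] [HasInjectiveResolutions C]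
  {D : Type u'} [Category.{v'} D] [Abelian D] {A B E : C ⥤ D} [A.Additive] [B.Additive] [E.Additive]
  (α : A ⟶ B) (γ : B ⟶ E) (w : α ≫ γ = 0)

theorem toRightDerivedZero_natTrans {G H : C ⥤ D} [G.Additive] [H.Additive] (η : G ⟶ H) (Y : C) :
    η.app Y ≫ H.toRightDerivedZero.app Y = G.toRightDerivedZero.app Y ≫ (NatTrans.rightDerived η 0).app Y := by
  have P := injectiveResolution Y
  rw [P.toRightDerivedZero_eq H, P.toRightDerivedZero_eq G, P.rightDerived_app_eq η 0]
  simp only [Category.assoc, Iso.inv_hom_id_assoc]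
  have h : η.app Y ≫ P.toRightDerivedZero' H = P.toRightDerivedZero' G ≫
      HomologicalComplex.cyclesMap ((NatTrans.mapHomologicalComplex η _).app P.cocomplex) 0 := by
    rw [← cancel_mono (HomologicalComplex.iCycles _ _), Category.assoc, Category.assoc,
      InjectiveResolution.toRightDerivedZero'_comp_iCycles, HomologicalComplex.cyclesMap_i,
      InjectiveResolution.toRightDerivedZero'_comp_iCycles_assoc]
    exact (η.naturality _).symm
  rw [reassoc_of% h]
  congr 1
  exact (HomologicalComplex.homologyπ_naturality_assoc ((NatTrans.mapHomologicalComplex η _).app P.cocomplex) 0 _).symm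

theorem preservesFiniteLimits_kerFun [PreservesFiniteLimits B] [PreservesFiniteLimits E]
    (hm : ∀ Y, Mono (α.app Y))
    (hk : ∀ Y, (ShortComplex.mk (α.app Y) (γ.app Y) (by rw [← NatTrans.comp_app, w]; rfl)).Exact) :
    PreservesFiniteLimits A := by
  refine (A.preservesFiniteLimits_tfae.out 0 3 rfl rfl).1 fun T hT => ?_
  have hB := (B.preservesFiniteLimits_tfae.out 3 0 rfl rfl).1 inferInstance T hT
  have hE := (E.preservesFiniteLimits_tfae.out 3 0 rfl rfl).1 inferInstance T hT
  haveI := hm T.X₁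
  haveI := hm T.X₂
  haveI := hm T.X₃
  haveI : Mono (B.map T.f) := hB.2
  haveI : Mono (E.map T.f) := hE.2
  haveI : Mono (A.map T.f) := by
    have : Mono (A.map T.f ≫ α.app T.X₂) := by rw [α.naturality]; infer_instance
    exact mono_of_mono _ (α.app T.X₂)
  haveI : Mono (T.map A).f := ‹Mono (A.map T.f)›
  haveI : Mono (T.map B).f := hB.2
  refine ⟨ShortComplex.exact_of_f_is_kernel _ (KernelFork.IsLimit.ofι' _ _ fun {W} k hk' => ?_),
    ‹Mono (A.map T.f)›⟩
  have h1 : (k ≫ α.app T.X₂) ≫ B.map T.g = 0 := by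
    have hk2 : k ≫ A.map T.g = 0 := hk'
    rw [assoc, ← α.naturality, reassoc_of% hk2, zero_comp]
  obtain ⟨l, hl⟩ := KernelFork.IsLimit.lift' (hB.1.fIsKernel) _ h1
  have hl' : l ≫ B.map T.f = k ≫ α.app T.X₂ := hl
  have h2 : l ≫ γ.app T.X₁ = 0 := by
    rw [← cancel_mono (E.map T.f), assoc, ← γ.naturality, reassoc_of% hl', ← NatTrans.comp_app, w]
    simp
  obtain ⟨m, hm'⟩ := KernelFork.IsLimit.lift' ((hk T.X₁).fIsKernel) l h2
  have hm'' : m ≫ α.app T.X₁ = l := hm'
  refine ⟨m, ?_⟩
  rw [← cancel_mono (α.app T.X₂), assoc]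
  change m ≫ A.map T.f ≫ α.app T.X₂ = _
  rw [α.naturality, reassoc_of% hm'', hl']

include w in
/-- The long exact sequence. -/
theorem exists_les₁ (h : ∀ I : C, Injective I →
      (ShortComplex.mk (α.app I) (γ.app I) (by rw [← NatTrans.comp_app, w]; rfl)).ShortExact) (X : C) :
    ∃ δ : ∀ n : ℕ, (E.rightDerived n).obj X ⟶ (A.rightDerived (n + 1)).obj X,
      ∀ n : ℕ, (ComposableArrows.mk₂ ((NatTrans.rightDerived α n).app X) ((NatTrans.rightDerived γ n).app X)).Exact ∧
        (ComposableArrows.mk₂ ((NatTrans.rightDerived γ n).app X) (δ n)).Exact ∧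
        (ComposableArrows.mk₂ (δ n) ((NatTrans.rightDerived α (n + 1)).app X)).Exact := by
  let P := injectiveResolution X
  let K := P.cocomplex
  let up := ComplexShape.up ℕ
  let φ := (NatTrans.mapHomologicalComplex α up).app K
  let ψ := (NatTrans.mapHomologicalComplex γ up).app K
  let S : ShortComplex (CochainComplex D ℕ) := ShortComplex.mk φ ψ (by
    ext j
    exact congr_arg (fun t => t.app (K.X j)) w)
  have hS : S.ShortExact :=
    HomologicalComplex.shortExact_of_degreewise_shortExact S fun j => h (K.X j) (P.injective j)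
  let iA := fun n => P.isoRightDerivedObj A n
  let iB := fun n => P.isoRightDerivedObj B n
  let iE := fun n => P.isoRightDerivedObj E n
  have hf : ∀ n, (iA n).inv ≫ (NatTrans.rightDerived α n).app X = HomologicalComplex.homologyMap S.f n ≫ (iB n).inv :=
    fun n => by rw [P.rightDerived_app_eq α n, Iso.inv_hom_id_assoc]; rfl
  have hg : ∀ n, (iB n).inv ≫ (NatTrans.rightDerived γ n).app X = HomologicalComplex.homologyMap S.g n ≫ (iE n).inv :=
    fun n => by rw [P.rightDerived_app_eq γ n, Iso.inv_hom_id_assoc]; rfl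
  let δ := fun n => (iE n).hom ≫ hS.δ n (n + 1) rfl ≫ (iA (n + 1)).inv
  refine ⟨δ, fun n => ?_⟩
  have hfg : (NatTrans.rightDerived α n).app X ≫ (NatTrans.rightDerived γ n).app X = 0 := by
    rw [← cancel_epi (iA n).inv, reassoc_of% (hf n), hg, ← assoc, ← HomologicalComplex.homologyMap_comp, S.zero,
      HomologicalComplex.homologyMap_zero, zero_comp, comp_zero]
  have hgd : (NatTrans.rightDerived γ n).app X ≫ δ n = 0 := by
    rw [← cancel_epi (iB n).inv, reassoc_of% (hg n)]
    simp [δ, hS.comp_δ_assoc]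
  have hdf : δ n ≫ (NatTrans.rightDerived α (n + 1)).app X = 0 := by
    simp only [δ, assoc]
    rw [hf (n + 1)]
    simp [hS.δ_comp_assoc]
  refine ⟨ComposableArrows.exact₂_mk _ hfg ?_, ComposableArrows.exact₂_mk _ hgd ?_, ComposableArrows.exact₂_mk _ hdf ?_⟩
  · exact ShortComplex.exact_of_iso (ShortComplex.isoMk (iA n).symm (iB n).symm (iE n).symm (hf n) (hg n))
      (hS.homology_exact₂ n)
  · exact ShortComplex.exact_of_iso (ShortComplex.isoMk (iB n).symm (iE n).symm (iA (n + 1)).symm (hg n)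
      (show (iE n).inv ≫ δ n = hS.δ n (n + 1) rfl ≫ (iA (n + 1)).inv by simp [δ])) (hS.homology_exact₃ n (n + 1) rfl)
  · exact ShortComplex.exact_of_iso (ShortComplex.isoMk (iE n).symm (iA (n + 1)).symm (iB (n + 1)).symm
      (show (iE n).inv ≫ δ n = hS.δ n (n + 1) rfl ≫ (iA (n + 1)).inv by simp [δ]) (hf (n + 1))) (hS.homology_exact₁ n (n + 1) rfl)

variable (h : ∀ I : C, Injective I →
      (ShortComplex.mk (α.app I) (γ.app I) (by rw [← NatTrans.comp_app, w]; rfl)).ShortExact)

include h in
/-- A degree where the middle vanishes on both sides: the boundary is an isomorphism. -/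
theorem nonempty_iso_succ (X : C) (n : ℕ) (h₀ : IsZero ((B.rightDerived n).obj X))
    (h₁ : IsZero ((B.rightDerived (n + 1)).obj X)) :
    Nonempty ((E.rightDerived n).obj X ≅ (A.rightDerived (n + 1)).obj X) := by
  obtain ⟨δ, hδ⟩ := exists_les₁ α γ w h X
  obtain ⟨-, e₁, e₂⟩ := hδ n
  haveI : Mono (δ n) := (e₁.exact 0).mono_g (h₀.eq_of_src _ _)
  haveI : Epi (δ n) := (e₂.exact 0).epi_f (h₁.eq_of_tgt _ _)
  haveI : IsIso (δ n) := isIso_of_mono_of_epi _
  exact ⟨asIso (δ n)⟩

include h in
/-- In the lowest degree the boundary presents a cokernel. -/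
theorem nonempty_cokernel_iso [PreservesFiniteLimits B] [PreservesFiniteLimits E] (X : C)
    (h₁ : IsZero ((B.rightDerived 1).obj X)) :
    Nonempty (cokernel (γ.app X) ≅ (A.rightDerived 1).obj X) := by
  obtain ⟨δ, hδ⟩ := exists_les₁ α γ w h X
  obtain ⟨-, e₁, e₂⟩ := hδ 0
  let g₀ := (NatTrans.rightDerived γ 0).app X
  have z : g₀ ≫ δ 0 = 0 := e₁.zero 0
  have he : (ShortComplex.mk g₀ (δ 0) z).Exact := e₁.exact 0
  haveI : Epi (δ 0) := (e₂.exact 0).epi_f (h₁.eq_of_tgt _ _)
  haveI : Epi (ShortComplex.mk g₀ (δ 0) z).g := ‹Epi (δ 0)›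
  haveI : IsIso (B.toRightDerivedZero.app X) := inferInstance
  haveI : IsIso (E.toRightDerivedZero.app X) := inferInstance
  have e : γ.app X ≫ (asIso (E.toRightDerivedZero.app X)).hom = (asIso (B.toRightDerivedZero.app X)).hom ≫ g₀ :=
    toRightDerivedZero_natTrans γ X
  let i₁ : cokernel (γ.app X) ≅ cokernel g₀ := cokernel.mapIso (γ.app X) g₀ _ _ e
  let i₂ : cokernel g₀ ≅ (A.rightDerived 1).obj X :=
    (cokernelIsCokernel g₀).coconePointUniqueUpToIso he.gIsCokernel
  exact ⟨i₁ ≪≫ i₂⟩

end Groth.Agent.EtMV
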