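import Mathlib
import Groth.Prelude.Def_EtDual
import Groth.Agent.EtMV.KerFun
import Groth.Agent.EtMV.Etale
import Groth.Agent.EtMV.LocIsoFlasque
import Groth.Agent.EtPullExact.Basic
import Groth.Agent.GrothSS.CompAcyclicNat

/-! Local cohomology sheaves and higher direct images from an open subscheme. -/

universe u

open CategoryTheory CategoryTheory.Limits AlgebraicGeometry Opposite

set_option backward.isDefEq.respectTransparency false
set_option backward.isDefEq.respectTransparency.types false

noncomputable section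

namespace Groth.Agent.EtMV

variable {X U : Scheme.{u}} (j : U ⟶ X) [EtCoh.BCCont j]

/-- `F ↦ j_* j^* F`. -/
abbrev pp : EtCoh.Ab X ⥤ EtCoh.Ab X := EtCoh.pull j ⋙ EtCoh.push j

/-- The inclusion of the sections with support. -/
def lcι : EtDual.secSupp j ⟶ 𝟭 (EtCoh.Ab X) where
  app F := kernel.ι (EtDual.unitApp j F)
  naturality F G f := kernel.lift_ι _ _ _

/-- The unit. -/
abbrev lcη : 𝟭 (EtCoh.Ab X) ⟶ pp j := (EtCoh.pullPushAdj j).unit

theorem lcι_lcη : lcι j ≫ lcη j = 0 := by
  ext F : 2
  exact kernel.condition _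

theorem mono_lcι (F : EtCoh.Ab X) : Mono ((lcι j).app F) := by
  dsimp [lcι]; infer_instance

theorem exact_lc (F : EtCoh.Ab X) :
    (ShortComplex.mk ((lcι j).app F) ((lcη j).app F)
      (by rw [← NatTrans.comp_app, lcι_lcη]; rfl)).Exact :=
  ShortComplex.exact_of_f_is_kernel _ (kernelIsKernel _)

instance : PreservesFiniteLimits (EtCoh.push j) := by
  haveI : (EtCoh.push j).IsRightAdjoint := (EtCoh.pullPushAdj j).isRightAdjoint
  infer_instance

instance : PreservesFiniteColimits (EtCoh.pull j) := by
  haveI : (EtCoh.pull j).IsLeftAdjoint := (EtCoh.pullPushAdj j).isLeftAdjoint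
  infer_instance

theorem preservesFiniteLimits_pp : PreservesFiniteLimits (pp j) := by
  haveI := EtPullExact.pull_preservesFiniteLimits j
  exact comp_preservesFiniteLimits _ _

theorem preservesFiniteLimits_secSupp : PreservesFiniteLimits (EtDual.secSupp j) := by
  haveI := preservesFiniteLimits_pp j
  exact preservesFiniteLimits_kerFun (lcι j) (lcη j) (lcι_lcη j) (mono_lcι j) (exact_lc j)

theorem isZero_rightDerived_id (F : EtCoh.Ab X) (n : ℕ) :
    IsZero (((𝟭 (EtCoh.Ab X)).rightDerived (n + 1)).obj F) := by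
  let P := injectiveResolution F
  refine IsZero.of_iso ?_ (P.isoRightDerivedObj _ (n + 1))
  refine IsZero.of_iso ?_ ((HomologicalComplex.homologyFunctor _ _ (n + 1)).mapIso
    ((Functor.mapHomologicalComplexIdIso _ _).app P.cocomplex))
  exact (P.cocomplex_exactAt_succ n).isZero_homology

variable [IsOpenImmersion j]

theorem isOpenImmersion_counit (W : X.Etale) :
    IsOpenImmersion ((EtPushStalk.compBcAdj j).counit.app W).left := by
  have h : ((EtPushStalk.compBcAdj j).counit.app W).left = pullback.fst W.hom j := by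
    simp [EtPushStalk.compBcAdj, MorphismProperty.Over.mapPullbackAdj]
  rw [h]
  infer_instance

theorem unit_surjective (I : EtCoh.Ab X) [Injective I] (W : X.Etale) :
    Function.Surjective ((EtDual.unitApp j I).hom.app (op W)) := by
  haveI := jcont_etale j
  let A := EtPushStalk.restrPushAdj j
  let B := EtCoh.pullPushAdj j
  let i := EtPushStalk.restrPullIso j
  have hu : B.unit.app I = A.unit.app I ≫ (EtCoh.push j).map (i.hom.app I) :=
    (Adjunction.unit_leftAdjointUniq_hom_app A B I).symm
  have hA : (A.unit.app I).hom.app (op W) =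
      I.obj.map ((EtPushStalk.compBcAdj j).counit.app W).op := by
    have := congr_app (Adjunction.map_restrictFullyFaithful_unit_app
      ((EtPushStalk.compBcAdj j).op.whiskerLeft AddCommGrpCat.{u + 1})
      (fullyFaithfulSheafToPresheaf X.smallEtaleTopology AddCommGrpCat.{u + 1})
      (fullyFaithfulSheafToPresheaf _ _)
      (L := EtShriek.restrAlong j) (R := EtCoh.push j) (Iso.refl _) (Iso.refl _) I) (op W)
    simp at this
    exact this
  rw [show EtDual.unitApp j I = _ from hu]
  show Function.Surjective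
    ((i.hom.app I).hom.app (op ((EtCoh.bc j).obj W)) ∘ (A.unit.app I).hom.app (op W))
  rw [hA]
  exact (ConcreteCategory.bijective_of_isIso ((i.hom.app I).hom.app _)).2.comp
    (zflq_injective I _ (isOpenImmersion_counit j W))

theorem shortExact_lc (I : EtCoh.Ab X) (hI : Injective I) :
    (ShortComplex.mk ((lcι j).app I) ((lcη j).app I)
      (by rw [← NatTrans.comp_app, lcι_lcη]; rfl)).ShortExact := by
  haveI := hI
  haveI := mono_lcι j I
  have : Epi ((sheafToPresheaf _ _).map (EtDual.unitApp j I)) := by
    rw [NatTrans.epi_iff_epi_app]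
    exact fun W => (AddCommGrpCat.epi_iff_surjective _).2 (unit_surjective j I W.unop)
  haveI : Epi (EtDual.unitApp j I) := (sheafToPresheaf _ _).epi_of_epi_map this
  exact { exact := exact_lc j I, epi_g := ‹Epi (EtDual.unitApp j I)› }

theorem nonempty_rightDerived_pp (n : ℕ) :
    Nonempty ((pp j).rightDerived n ≅ EtCoh.pull j ⋙ EtCoh.Rpush j n) := by
  haveI := EtPullExact.pull_preservesFiniteLimits j
  haveI := pull_etale_preservesInjective j
  exact GrothSS.nonempty_rightDerived_comp_acyclic_nat (EtCoh.pull j) (EtCoh.push j)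
    (fun Q hQ q => by
      haveI := hQ
      haveI : Injective ((EtCoh.pull j).obj Q) := (EtCoh.pull j).injective_obj Q
      exact Functor.isZero_rightDerived_obj_injective_succ _ q _) n

theorem nonempty_locCoh_one (F : EtCoh.Ab X) :
    Nonempty (cokernel (EtDual.unitApp j F) ≅ (EtDual.locCoh j 1).obj F) := by
  haveI := preservesFiniteLimits_pp j
  exact nonempty_cokernel_iso (lcι j) (lcη j) (lcι_lcη j) (shortExact_lc j) F (isZero_rightDerived_id F 0)

theorem nonempty_locCoh_succ (F : EtCoh.Ab X) (p : ℕ) (hp : 1 ≤ p) :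
    Nonempty ((EtCoh.Rpush j p).obj ((EtCoh.pull j).obj F) ≅ (EtDual.locCoh j (p + 1)).obj F) := by
  obtain ⟨n, rfl⟩ : ∃ n, p = n + 1 := ⟨p - 1, by omega⟩
  obtain ⟨e⟩ := nonempty_rightDerived_pp j (n + 1)
  obtain ⟨e'⟩ := nonempty_iso_succ (lcι j) (lcη j) (lcι_lcη j) (shortExact_lc j) F (n + 1)
    (isZero_rightDerived_id F n) (isZero_rightDerived_id F (n + 1))
  exact ⟨(e.app F).symm ≪≫ e'⟩

end Groth.Agent.EtMV
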