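import Mathlib
import Groth.Agent.EtMV.LocCoh
import Groth.Agent.RDerLib.LES

/-! The edge map from local cohomology groups to sections of local cohomology sheaves. -/

universe u v v' w w'

open CategoryTheory CategoryTheory.Limits AlgebraicGeometry Opposite

set_option backward.isDefEq.respectTransparency false
set_option backward.isDefEq.respectTransparency.types false

noncomputable section

namespace Groth.Agent.EtMV

theorem nonempty_shift_iso {C : Type w} [Category.{v} C] [Abelian C] [HasInjectiveResolutions C]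
    {D : Type w'} [Category.{v'} D] [Abelian D] (F : C ⥤ D) [F.Additive] [PreservesFiniteLimits F]
    (S : ShortComplex C) (hS : S.ShortExact) [Injective S.X₂] (h0 : IsZero (F.obj S.X₂)) (n : ℕ) :
    Nonempty ((F.rightDerived n).obj S.X₃ ≅ (F.rightDerived (n + 1)).obj S.X₁) := by
  let T := RDerLib.res hS
  have hz : IsZero ((F.rightDerived n).obj S.X₂) := by
    cases n with
    | zero => exact h0.of_iso (F.rightDerivedZeroIsoSelf.app _)
    | succ k => exact F.isZero_rightDerived_obj_injective_succ k _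
  haveI : Mono (T.delta F n (n + 1) rfl) :=
    (RDerLib.exact₃ F T n (n + 1) rfl).mono_g (hz.eq_of_src _ _)
  haveI : Epi (T.delta F n (n + 1) rfl) :=
    (RDerLib.exact₁ F T n (n + 1) rfl).epi_f ((F.isZero_rightDerived_obj_injective_succ n _).eq_of_tgt _ _)
  haveI : IsIso (T.delta F n (n + 1) rfl) := isIso_of_mono_of_epi _
  exact ⟨asIso (T.delta F n (n + 1) rfl)⟩

variable {X U : Scheme.{u}} (j : U ⟶ X) [EtCoh.BCCont j]

/-- Global sections. -/
abbrev Γ₀ (X : Scheme.{u}) : EtCoh.Ab X ⥤ AddCommGrpCat.{u + 1} :=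
  sheafToPresheaf X.smallEtaleTopology AddCommGrpCat.{u + 1} ⋙
    (evaluation X.Etaleᵒᵖ AddCommGrpCat.{u + 1}).obj (op (EtCoh.top X))

theorem preservesFiniteLimits_gammaSupp : PreservesFiniteLimits (EtDual.gammaSupp j) := by
  haveI := preservesFiniteLimits_secSupp j
  haveI : PreservesFiniteLimits (sheafToPresheaf X.smallEtaleTopology AddCommGrpCat.{u + 1}) := inferInstance
  haveI : PreservesFiniteLimits ((evaluation X.Etaleᵒᵖ AddCommGrpCat.{u + 1}).obj (op (EtCoh.top X))) :=
    inferInstance
  haveI : PreservesFiniteLimits (Γ₀ X) := comp_preservesFiniteLimits _ _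
  exact comp_preservesFiniteLimits (EtDual.secSupp j) (Γ₀ X)

theorem nonempty_edge (m : ℕ) : ∀ (G : EtCoh.Ab X),
    (∀ p < m, IsZero ((EtDual.locCoh j p).obj G)) →
      Nonempty ((EtDual.HY j m).obj G ≅ ((EtDual.locCoh j m).obj G).obj.obj (op (EtCoh.top X))) := by
  haveI := preservesFiniteLimits_secSupp j
  haveI := preservesFiniteLimits_gammaSupp j
  induction m with
  | zero =>
    intro G _
    exact ⟨(EtDual.gammaSupp j).rightDerivedZeroIsoSelf.app G ≪≫
      (Γ₀ X).mapIso ((EtDual.secSupp j).rightDerivedZeroIsoSelf.app G).symm⟩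
  | succ m ih =>
    intro G hG
    have h0 : IsZero ((EtDual.secSupp j).obj G) :=
      (hG 0 (Nat.succ_pos m)).of_iso ((EtDual.secSupp j).rightDerivedZeroIsoSelf.app G).symm
    haveI : Mono (EtDual.unitApp j G) := Preadditive.mono_of_kernel_zero (h0.eq_of_src _ _)
    let J := Injective.under ((EtCoh.pull j).obj G)
    let I := (EtCoh.push j).obj J
    haveI : Injective I := EtPullExact.push_injective j J
    have hI : IsZero ((EtDual.secSupp j).obj I) := by
      haveI : Mono (EtDual.unitApp j I) :=
        mono_of_mono_fac ((EtCoh.pullPushAdj j).right_triangle_components J)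
      exact isZero_kernel_of_mono (EtDual.unitApp j I)
    let f : G ⟶ I := EtDual.unitApp j G ≫ (EtCoh.push j).map (Injective.ι _)
    let S : ShortComplex (EtCoh.Ab X) := ShortComplex.mk f (cokernel.π f) (cokernel.condition f)
    have hS : S.ShortExact :=
      { exact := ShortComplex.exact_of_g_is_cokernel _ (cokernelIsCokernel f) }
    haveI : Injective S.X₂ := ‹Injective I›
    have hQ : ∀ p < m, IsZero ((EtDual.locCoh j p).obj S.X₃) := fun p hp => by
      obtain ⟨e⟩ := nonempty_shift_iso (EtDual.secSupp j) S hS hI p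
      exact (hG (p + 1) (by omega)).of_iso e
    obtain ⟨e⟩ := ih S.X₃ hQ
    obtain ⟨e₁⟩ := nonempty_shift_iso (EtDual.gammaSupp j) S hS
      ((Γ₀ X).map_isZero hI) m
    obtain ⟨e₂⟩ := nonempty_shift_iso (EtDual.secSupp j) S hS hI m
    exact ⟨e₁.symm ≪≫ e ≪≫ (Γ₀ X).mapIso e₂⟩

end Groth.Agent.EtMV
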