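import Mathlib
import Groth.Agent.EtMV.LocEdge
import Groth.Agent.EtPushStalk.ShriekBC
import Groth.Agent.GrothSS.Ext
import Groth.Agent.EtFLC.Site

/-! Local cohomology sheaves commute with restriction to etale schemes over the base. -/

universe u

open CategoryTheory CategoryTheory.Limits AlgebraicGeometry Opposite

set_option backward.isDefEq.respectTransparency false
set_option backward.isDefEq.respectTransparency.types false

noncomputable section

namespace Groth.Agent.EtMV

variable {X U W : Scheme.{u}}

theorem comp_unit_eq_zero_iff (j : U ⟶ X) [IsOpenImmersion j] [EtCoh.BCCont j] {H G : EtCoh.Ab X} (k : H ⟶ G) :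
    k ≫ EtDual.unitApp j G = 0 ↔ ∀ (T : X.Etale) (s : H.obj.obj (op T)),
      G.obj.map ((EtPushStalk.compBcAdj j).counit.app T).op (k.hom.app (op T) s) = 0 := by
  haveI := jcont_etale j
  let A := EtPushStalk.restrPushAdj j
  let B := EtCoh.pullPushAdj j
  let i := EtPushStalk.restrPullIso j
  have hu : B.unit.app G = A.unit.app G ≫ (EtCoh.push j).map (i.hom.app G) :=
    (Adjunction.unit_leftAdjointUniq_hom_app A B G).symm
  have hA (T : X.Etale) : (A.unit.app G).hom.app (op T) =
      G.obj.map ((EtPushStalk.compBcAdj j).counit.app T).op := by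
    have := congr_app (Adjunction.map_restrictFullyFaithful_unit_app
      ((EtPushStalk.compBcAdj j).op.whiskerLeft AddCommGrpCat.{u + 1})
      (fullyFaithfulSheafToPresheaf X.smallEtaleTopology AddCommGrpCat.{u + 1})
      (fullyFaithfulSheafToPresheaf _ _)
      (L := EtShriek.restrAlong j) (R := EtCoh.push j) (Iso.refl _) (Iso.refl _) G) (op T)
    simp at this
    exact this
  have hA' (T : X.Etale) (s : H.obj.obj (op T)) : (k ≫ A.unit.app G).hom.app (op T) s =
      G.obj.map ((EtPushStalk.compBcAdj j).counit.app T).op (k.hom.app (op T) s) := by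
    rw [← hA T]; rfl
  have e : k ≫ EtDual.unitApp j G = 0 ↔ k ≫ A.unit.app G = 0 := by
    rw [show EtDual.unitApp j G = _ from hu, ← Category.assoc]
    constructor
    · intro h
      rw [← cancel_mono ((EtCoh.push j).map (i.hom.app G)), h, zero_comp]
    · intro h
      rw [h, zero_comp]
  rw [e]
  constructor
  · intro h T s
    rw [← hA', h]
    rfl
  · intro h
    refine Sheaf.hom_ext (NatTrans.ext (funext fun T => ?_))
    ext s
    exact (hA' T.unop s).trans (h T.unop s)

theorem restrAlong_preservesFiniteLimits (e : W ⟶ X) [Etale e] [EtShriek.JCont e] :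
    PreservesFiniteLimits (EtShriek.restrAlong e) := by
  haveI : (EtShriek.restrAlong e).IsRightAdjoint := (EtShriek.extZeroAdj e).isRightAdjoint
  infer_instance

theorem restrAlong_preservesFiniteColimits (e : W ⟶ X) [Etale e] [EtShriek.JCont e] :
    PreservesFiniteColimits (EtShriek.restrAlong e) := by
  haveI : (EtShriek.restrAlong e).IsLeftAdjoint := (EtPushStalk.restrPushAdj e).isLeftAdjoint
  infer_instance

theorem restrAlong_preservesInjective (e : W ⟶ X) [Etale e] [EtShriek.JCont e] :
    (EtShriek.restrAlong e).PreservesInjectiveObjects := by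
  haveI := Groth.Agent.EtShriekStalk.preservesFiniteLimits e
  haveI : (EtShriek.extZero e).PreservesMonomorphisms := inferInstance
  exact ⟨fun {I} hI => Injective.injective_of_adjoint (EtShriek.extZeroAdj e) I⟩

variable (j : U ⟶ X) [IsOpenImmersion j] [EtCoh.BCCont j] (e : W ⟶ X) [Etale e] [EtShriek.JCont e]

/-- The open subscheme of `W`. -/
abbrev jW : pullback j e ⟶ W := pullback.snd j e

variable [EtCoh.BCCont (jW j e)]

theorem exists_counit_fac (T : W.Etale) :
    (∃ g : (EtShriek.compEtale e).obj ((EtShriek.compEtale (jW j e)).obj ((EtCoh.bc (jW j e)).obj T)) ⟶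
        (EtShriek.compEtale j).obj ((EtCoh.bc j).obj ((EtShriek.compEtale e).obj T)),
      g ≫ (EtPushStalk.compBcAdj j).counit.app ((EtShriek.compEtale e).obj T) =
        (EtShriek.compEtale e).map ((EtPushStalk.compBcAdj (jW j e)).counit.app T)) ∧
    (∃ g : (EtShriek.compEtale j).obj ((EtCoh.bc j).obj ((EtShriek.compEtale e).obj T)) ⟶
        (EtShriek.compEtale e).obj ((EtShriek.compEtale (jW j e)).obj ((EtCoh.bc (jW j e)).obj T)),
      g ≫ (EtShriek.compEtale e).map ((EtPushStalk.compBcAdj (jW j e)).counit.app T) =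
        (EtPushStalk.compBcAdj j).counit.app ((EtShriek.compEtale e).obj T)) := by
  constructor
  · refine ⟨MorphismProperty.Over.homMk
      (pullback.lift (pullback.fst T.hom (jW j e)) (pullback.snd T.hom (jW j e) ≫ pullback.fst j e) (by
        show pullback.fst T.hom (jW j e) ≫ T.hom ≫ e = _
        rw [pullback.condition_assoc, Category.assoc, pullback.condition])) ?_, ?_⟩
    · show pullback.lift _ _ _ ≫ pullback.snd (T.hom ≫ e) j ≫ j = (pullback.snd T.hom (jW j e) ≫ jW j e) ≫ e
      erw [pullback.lift_snd_assoc]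
      simp [jW, pullback.condition]
    · apply MorphismProperty.Over.Hom.ext
      simp [EtPushStalk.compBcAdj, MorphismProperty.Over.mapPullbackAdj, EtShriek.compEtale]
      exact pullback.lift_fst _ _ _
  · refine ⟨MorphismProperty.Over.homMk
      (pullback.lift (pullback.fst (T.hom ≫ e) j)
        (pullback.lift (pullback.snd (T.hom ≫ e) j) (pullback.fst (T.hom ≫ e) j ≫ T.hom) (by
          rw [Category.assoc, pullback.condition]))
        (pullback.lift_snd _ _ _).symm) ?_, ?_⟩
    · show pullback.lift _ _ _ ≫ (pullback.snd T.hom (jW j e) ≫ jW j e) ≫ e = pullback.snd (T.hom ≫ e) j ≫ j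
      simp only [Category.assoc]
      erw [pullback.lift_snd_assoc, pullback.lift_snd_assoc]
      exact (Category.assoc _ _ _).trans pullback.condition
    · apply MorphismProperty.Over.Hom.ext
      simp [EtPushStalk.compBcAdj, MorphismProperty.Over.mapPullbackAdj, EtShriek.compEtale]
      exact pullback.lift_fst _ _ _

theorem restr_kills_iff {H : EtCoh.Ab W} {G : EtCoh.Ab X} (k : H ⟶ (EtShriek.restrAlong e).obj G) :
    k ≫ EtDual.unitApp (jW j e) ((EtShriek.restrAlong e).obj G) = 0 ↔
      ∀ (T : W.Etale) (s : H.obj.obj (op T)),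
        G.obj.map ((EtPushStalk.compBcAdj j).counit.app ((EtShriek.compEtale e).obj T)).op
          (k.hom.app (op T) s) = 0 := by
  rw [comp_unit_eq_zero_iff]
  refine forall₂_congr fun T s => ?_
  obtain ⟨⟨g, hg⟩, ⟨g', hg'⟩⟩ := exists_counit_fac j e T
  show G.obj.map ((EtShriek.compEtale e).map ((EtPushStalk.compBcAdj (jW j e)).counit.app T)).op _ = 0 ↔ _
  constructor
  · intro h
    rw [← hg', op_comp, Functor.map_comp]
    refine (ConcreteCategory.comp_apply _ _ _).trans ?_
    erw [h]
    exact map_zero _
  · intro h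
    rw [← hg, op_comp, Functor.map_comp]
    refine (ConcreteCategory.comp_apply _ _ _).trans ?_
    erw [h]
    exact map_zero _

theorem restr_ι_unit (G : EtCoh.Ab X) :
    (EtShriek.restrAlong e).map ((lcι j).app G) ≫
      EtDual.unitApp (jW j e) ((EtShriek.restrAlong e).obj G) = 0 := by
  refine (restr_kills_iff j e _).2 fun T s => ?_
  exact (comp_unit_eq_zero_iff j ((lcι j).app G)).1 (kernel.condition _) _ s

/-- Comparison map. -/
def cmpSupp : EtDual.secSupp j ⋙ EtShriek.restrAlong e ⟶
    EtShriek.restrAlong e ⋙ EtDual.secSupp (jW j e) where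
  app G := kernel.lift _ ((EtShriek.restrAlong e).map ((lcι j).app G)) (restr_ι_unit j e G)
  naturality G G' f := by
    refine (cancel_mono (kernel.ι (EtDual.unitApp (jW j e) ((EtShriek.restrAlong e).obj G')))).1 ?_
    simp only [Functor.comp_map, Category.assoc, kernel.lift_ι]
    rw [← Functor.map_comp]
    erw [(lcι j).naturality f]
    rw [Functor.map_comp]
    exact (kernel.lift_ι_assoc _ _ _ _).symm

theorem isIso_cmpSupp (G : EtCoh.Ab X) : IsIso ((cmpSupp j e).app G) := by
  haveI := restrAlong_preservesFiniteLimits e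
  let R := EtShriek.restrAlong e
  let ι' := kernel.ι (EtDual.unitApp (jW j e) (R.obj G))
  have hz : ι' ≫ R.map (EtDual.unitApp j G) = 0 := by
    have hk := (restr_kills_iff j e ι').1 (kernel.condition _)
    let A := EtPushStalk.restrPushAdj j
    haveI := jcont_etale j
    let B := EtCoh.pullPushAdj j
    have hu : B.unit.app G = A.unit.app G ≫ (EtCoh.push j).map ((EtPushStalk.restrPullIso j).hom.app G) :=
      (Adjunction.unit_leftAdjointUniq_hom_app A B G).symm
    rw [show EtDual.unitApp j G = _ from hu, Functor.map_comp, ← Category.assoc]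
    have : ι' ≫ R.map (A.unit.app G) = 0 := by
      refine Sheaf.hom_ext (NatTrans.ext (funext fun T => ?_))
      ext s
      have := congr_app (Adjunction.map_restrictFullyFaithful_unit_app
        ((EtPushStalk.compBcAdj j).op.whiskerLeft AddCommGrpCat.{u + 1})
        (fullyFaithfulSheafToPresheaf X.smallEtaleTopology AddCommGrpCat.{u + 1})
        (fullyFaithfulSheafToPresheaf _ _)
        (L := EtShriek.restrAlong j) (R := EtCoh.push j) (Iso.refl _) (Iso.refl _) G)
          (op ((EtShriek.compEtale e).obj T.unop))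
      simp at this
      show (A.unit.app G).hom.app (op ((EtShriek.compEtale e).obj T.unop)) (ι'.hom.app T s) = 0
      erw [this]
      exact hk T.unop s
    rw [this, zero_comp]
  let hlim := (KernelFork.mapIsLimit _ (kernelIsKernel (EtDual.unitApp j G)) R)
  obtain ⟨l, hl⟩ := KernelFork.IsLimit.lift' hlim ι' hz
  have hl' : l ≫ R.map ((lcι j).app G) = ι' := hl
  haveI : Mono (R.map ((lcι j).app G)) := by
    haveI := mono_lcι j G
    infer_instance
  refine ⟨l, ?_, ?_⟩
  · rw [← cancel_mono (R.map ((lcι j).app G)), Category.assoc, hl', Category.id_comp]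
    exact kernel.lift_ι _ _ _
  · apply (cancel_mono ι').1
    rw [Category.assoc, Category.id_comp]
    exact (congrArg (l ≫ ·) (kernel.lift_ι _ _ _)).trans hl'

theorem nonempty_restr_locCoh (p : ℕ) (G : EtCoh.Ab X) :
    Nonempty ((EtShriek.restrAlong e).obj ((EtDual.locCoh j p).obj G) ≅
      (EtDual.locCoh (jW j e) p).obj ((EtShriek.restrAlong e).obj G)) := by
  haveI := restrAlong_preservesFiniteLimits e
  haveI := restrAlong_preservesFiniteColimits e
  haveI := restrAlong_preservesInjective e
  haveI := preservesFiniteLimits_secSupp (jW j e)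
  haveI : (EtShriek.restrAlong e).Additive := Functor.additive_of_preserves_binary_products _
  haveI : ∀ G, IsIso ((cmpSupp j e).app G) := isIso_cmpSupp j e
  haveI : IsIso (cmpSupp j e) := NatIso.isIso_of_isIso_app _
  obtain ⟨a⟩ := GrothSS.nonempty_rightDerived_comp_exact (EtDual.secSupp j) (EtShriek.restrAlong e) p G
  obtain ⟨b⟩ := GrothSS.nonempty_rightDerived_comp_acyclic_nat (EtShriek.restrAlong e) (EtDual.secSupp (jW j e))
    (fun Q hQ q => by
      haveI := hQ
      haveI : Injective ((EtShriek.restrAlong e).obj Q) := (EtShriek.restrAlong e).injective_obj Q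
      exact Functor.isZero_rightDerived_obj_injective_succ _ q _) p
  exact ⟨a.symm ≪≫ (GrothSS.rightDerivedMapIso (asIso (cmpSupp j e)) p).app G ≪≫ b.app G⟩

theorem isZero_of_restr (hs : Function.Surjective e) {H : EtCoh.Ab X}
    (h : IsZero ((EtShriek.restrAlong e).obj H)) : IsZero H := by
  have key (T : X.Etale) (s : EtCoh.sect H T) : s = 0 := by
    refine EtFLC.sect_ext H fun v => ?_
    obtain ⟨w, hw⟩ := hs (T.hom v)
    obtain ⟨z, hz1, hz2⟩ := Scheme.Pullback.exists_preimage_pullback v w hw.symm
    haveI : Etale T.hom := T.prop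
    let V : W.Etale := Scheme.Etale.mk (pullback.snd T.hom e)
    let g : (EtShriek.compEtale e).obj V ⟶ T :=
      MorphismProperty.Over.homMk (pullback.fst T.hom e) pullback.condition
    refine ⟨(EtShriek.compEtale e).obj V, g, z, hz1, ?_⟩
    haveI : Subsingleton (((EtShriek.restrAlong e).obj H).obj.obj (op V)) :=
      AddCommGrpCat.subsingleton_of_isZero (((sheafToPresheaf _ _ ⋙ (evaluation _ _).obj (op V))).map_isZero h)
    exact Subsingleton.elim (α := ((EtShriek.restrAlong e).obj H).obj.obj (op V)) _ _
  rw [IsZero.iff_id_eq_zero]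
  refine Sheaf.hom_ext (NatTrans.ext (funext fun T => ?_))
  ext s
  exact key T.unop _

end Groth.Agent.EtMV
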