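import Mathlib
import Groth.Prelude.Def_EtDual
import Groth.Agent.EtMV.ConstSect

/-! The tensor product of two constant sheaves `ℤ/n`. -/

universe u

open CategoryTheory CategoryTheory.Limits AlgebraicGeometry Opposite TensorProduct

set_option backward.isDefEq.respectTransparency false
set_option backward.isDefEq.respectTransparency.types false

noncomputable section

namespace Groth.Agent.EtMV

/-- Restriction of sections. -/
local notation "rs" => Groth.Agent.EtFLC.res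

variable {X : Scheme.{u}} {M : Type} [AddCommGroup M]

/-- The constant sections, additively. -/
def cstHom (W : X.Etale) : M →+ EtCoh.sect (EtCoh.const X M) W :=
  (((toSheafify X.smallEtaleTopology (cPre0 X M)).app (op W)).hom).comp AddEquiv.ulift.symm.toAddMonoidHom

theorem cstHom_apply (W : X.Etale) (m : M) : cstHom W m = cst W m := rfl

theorem valAt_add {W : X.Etale} (s t : EtCoh.sect (EtCoh.const X M) W) (w : W.left) :
    valAt (s + t) w = valAt s w + valAt t w := by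
  obtain ⟨Z₁, h₁, z₁, m₁, rfl, e₁⟩ := exists_cst s w
  obtain ⟨Z₂, h₂, z₂, m₂, hz₂, e₂⟩ := exists_cst t (h₁.left z₁)
  obtain ⟨T, a, b, t₀, hab, hta⟩ := exists_refinement h₁ h₂ z₁ z₂ hz₂.symm
  have f₁ : rs _ (a ≫ h₁) s = cst T m₁ := by rw [← EtFLC.res_res, e₁, res_cst]
  have f₂ : rs _ (a ≫ h₁) t = cst T m₂ := by rw [hab, ← EtFLC.res_res, e₂, res_cst]
  have f₃ : rs _ (a ≫ h₁) (s + t) = cst T (m₁ + m₂) := by
    rw [map_add, f₁, f₂, ← cstHom_apply, ← cstHom_apply, ← map_add, cstHom_apply]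
  have hw : (a ≫ h₁).left t₀ = h₁.left z₁ := by rw [EtFLC.comp_left_apply, hta]
  rw [← hw, valAt_eq t₀ f₁, valAt_eq t₀ f₂, valAt_eq t₀ f₃]

/-- Value at a point, additively. -/
def valHom {W : X.Etale} (w : W.left) : EtCoh.sect (EtCoh.const X M) W →+ M :=
  AddMonoidHom.mk' (fun s => valAt s w) (fun s t => valAt_add s t w)

section

variable (X : Scheme.{u}) (n : ℕ) [NeZero n]

/-- The comparison map. -/
def φC : cPre0 X (ZMod n) ⟶
    EtDual.tensorPre (EtCoh.const X (ZMod n)) (EtCoh.const X (ZMod n)) where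
  app V := AddCommGrpCat.ofHom
    { toFun := fun k => (cstHom V.unop k.down : EtCoh.sect _ _) ⊗ₜ[ℤ] cst V.unop (1 : ZMod n)
      map_zero' := by
        show (cstHom V.unop (0 : ZMod n) : EtCoh.sect _ _) ⊗ₜ[ℤ] cst V.unop (1 : ZMod n) = 0
        rw [map_zero, TensorProduct.zero_tmul]
      map_add' := fun a b => by
        show (cstHom V.unop (a.down + b.down) : EtCoh.sect _ _) ⊗ₜ[ℤ] cst V.unop (1 : ZMod n) = _
        rw [map_add, TensorProduct.add_tmul] }
  naturality V V' g := by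
    ext k
    show (cst V'.unop k.down : EtCoh.sect _ _) ⊗ₜ[ℤ] cst V'.unop (1 : ZMod n) =
      rs (EtCoh.const X (ZMod n)) g.unop (cst V.unop k.down) ⊗ₜ[ℤ] rs (EtCoh.const X (ZMod n)) g.unop (cst V.unop 1)
    rw [res_cst, res_cst]

theorem isLocallyInjective_φC : Presheaf.IsLocallyInjective X.smallEtaleTopology (φC X n) := by
  refine ⟨fun {V} a b hab => ?_⟩
  obtain ⟨V⟩ := V
  refine (EtFLC.mem_iff _).2 fun v => ⟨V, 𝟙 V, v, ?_, rfl⟩
  have key : a = b := by
    refine ULift.ext _ _ ?_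
    let L := TensorProduct.lift ((LinearMap.mul ℤ (ZMod n)).compl₁₂
      (valHom (M := ZMod n) v).toIntLinearMap (valHom (M := ZMod n) v).toIntLinearMap)
    have h : L ((cst V a.down : EtCoh.sect _ _) ⊗ₜ[ℤ] cst V (1 : ZMod n)) =
        L ((cst V b.down : EtCoh.sect _ _) ⊗ₜ[ℤ] cst V (1 : ZMod n)) := congrArg L hab
    simpa [L, valHom] using h
  show (cPre0 X (ZMod n)).map _ a = (cPre0 X (ZMod n)).map _ b
  rw [key]

theorem isLocallySurjective_φC : Presheaf.IsLocallySurjective X.smallEtaleTopology (φC X n) := by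
  refine ⟨fun {V} x => (EtFLC.mem_iff _).2 fun v => ?_⟩
  let C := EtCoh.const X (ZMod n)
  suffices H : ∀ x : EtCoh.sect C V ⊗[ℤ] EtCoh.sect C V, ∃ (Z : X.Etale) (g : Z ⟶ V) (z : Z.left) (k : ZMod n),
      g.left z = v ∧ (EtDual.tensorPre C C).map g.op x = (cst Z k : EtCoh.sect C Z) ⊗ₜ[ℤ] cst Z (1 : ZMod n) by
    obtain ⟨Z, g, z, k, hz, hk⟩ := H x
    exact ⟨Z, g, z, ⟨⟨k⟩, hk.symm⟩, hz⟩
  have hres {Z Z' : X.Etale} (g : Z' ⟶ Z) (s t : EtCoh.sect C Z) :
      (EtDual.tensorPre C C).map g.op (s ⊗ₜ[ℤ] t) = rs C g s ⊗ₜ[ℤ] rs C g t := rfl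
  intro x
  induction x with
  | zero => exact ⟨V, 𝟙 V, v, 0, rfl, (map_zero _).trans ((TensorProduct.zero_tmul (EtCoh.sect C V) (cst V (1 : ZMod n))).symm.trans
      (congrArg (fun s : EtCoh.sect C V => s ⊗ₜ[ℤ] (cst V (1 : ZMod n) : EtCoh.sect C V)) (map_zero (cstHom (M := ZMod n) V)).symm))⟩
  | tmul s t =>
    obtain ⟨Z₁, h₁, z₁, a, hz₁, e₁⟩ := exists_cst s v
    obtain ⟨Z₂, h₂, z₂, b, hz₂, e₂⟩ := exists_cst t v
    obtain ⟨T, p, q, t₀, hpq, hta⟩ := exists_refinement h₁ h₂ z₁ z₂ (hz₁.trans hz₂.symm)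
    refine ⟨T, p ≫ h₁, t₀, (ZMod.cast b : ℤ) • a, by rw [EtFLC.comp_left_apply, hta, hz₁], ?_⟩
    have f₁ : rs C (p ≫ h₁) s = cst T a := by rw [← EtFLC.res_res, e₁, res_cst]
    have f₂ : rs C (p ≫ h₁) t = cst T b := by rw [hpq, ← EtFLC.res_res, e₂, res_cst]
    rw [hres, f₁, f₂]
    have hb : (ZMod.cast b : ℤ) • (1 : ZMod n) = b := by simp
    conv_lhs => rw [← hb]
    rw [← cstHom_apply, ← cstHom_apply, ← cstHom_apply, ← cstHom_apply, map_zsmul, map_zsmul,
      TensorProduct.tmul_smul, TensorProduct.smul_tmul']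
  | add x y hx hy =>
    obtain ⟨Z₁, h₁, z₁, a, hz₁, e₁⟩ := hx
    obtain ⟨Z₂, h₂, z₂, b, hz₂, e₂⟩ := hy
    obtain ⟨T, p, q, t₀, hpq, hta⟩ := exists_refinement h₁ h₂ z₁ z₂ (hz₁.trans hz₂.symm)
    refine ⟨T, p ≫ h₁, t₀, a + b, by rw [EtFLC.comp_left_apply, hta, hz₁], ?_⟩
    have hc {Z Z' : X.Etale} (g : Z' ⟶ Z) (k : ZMod n) :
        (EtDual.tensorPre C C).map g.op ((cst Z k : EtCoh.sect C Z) ⊗ₜ[ℤ] cst Z (1 : ZMod n)) =
          (cst Z' k : EtCoh.sect C Z') ⊗ₜ[ℤ] cst Z' (1 : ZMod n) := by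
      rw [hres, res_cst, res_cst]
    have f₁ : (EtDual.tensorPre C C).map (p ≫ h₁).op x = (cst T a : EtCoh.sect C T) ⊗ₜ[ℤ] cst T (1 : ZMod n) := by
      rw [op_comp, Functor.map_comp]
      refine (ConcreteCategory.comp_apply _ _ _).trans ?_
      erw [e₁]
      exact hc p a
    have f₂ : (EtDual.tensorPre C C).map (p ≫ h₁).op y = (cst T b : EtCoh.sect C T) ⊗ₜ[ℤ] cst T (1 : ZMod n) := by
      rw [hpq, op_comp, Functor.map_comp]
      refine (ConcreteCategory.comp_apply _ _ _).trans ?_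
      erw [e₂]
      exact hc q b
    refine ((map_add ((EtDual.tensorPre C C).map (p ≫ h₁).op).hom x y)).trans ?_
    erw [f₁, f₂]
    exact (TensorProduct.add_tmul _ _ _).symm.trans
      (congrArg (fun s : EtCoh.sect C T => s ⊗ₜ[ℤ] (cst T (1 : ZMod n) : EtCoh.sect C T)) (map_add (cstHom (M := ZMod n) T) a b).symm)

theorem nonempty_tensor_const :
    Nonempty (EtDual.tensorAb (EtCoh.const X (ZMod n)) (EtCoh.const X (ZMod n)) ≅ EtCoh.const X (ZMod n)) := by
  haveI := isLocallyInjective_φC X n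
  haveI := isLocallySurjective_φC X n
  haveI : IsIso ((presheafToSheaf X.smallEtaleTopology AddCommGrpCat.{u + 1}).map (φC X n)) := by
    rw [← GrothendieckTopology.W_iff, GrothendieckTopology.W_iff_isLocallyBijective]
    exact ⟨inferInstance, inferInstance⟩
  exact ⟨(asIso ((presheafToSheaf X.smallEtaleTopology AddCommGrpCat.{u + 1}).map (φC X n))).symm⟩

end

end Groth.Agent.EtMV
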