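import Mathlib
import Groth.Agent.EtMV.LocRestr
import Groth.Agent.EtMV.TateConst
import Groth.Agent.KummerLib.MuConst
import Groth.Agent.Hensel.FiniteEtale

/-! Tate twists are etale locally constant; vanishing of local cohomology sheaves. -/

universe u

open CategoryTheory CategoryTheory.Limits AlgebraicGeometry Opposite

set_option backward.isDefEq.respectTransparency false
set_option backward.isDefEq.respectTransparency.types false

noncomputable section

namespace Groth.Agent.EtMV

variable {X W : Scheme.{u}}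

theorem isCocontinuous_compEtale (e : W ⟶ X) [Etale e] :
    (EtShriek.compEtale e).IsCocontinuous W.smallEtaleTopology X.smallEtaleTopology := by
  refine ⟨fun {V} S hS => (EtFLC.mem_iff _).2 fun v => ?_⟩
  obtain ⟨Z, g, z, hg, hz⟩ := (EtFLC.mem_iff _).1 hS v
  let V' := (EtShriek.compEtaleLift e g).1
  let i : (EtShriek.compEtale e).obj V' ≅ Z := (EtShriek.compEtaleLift e g).2
  let a : V' ⟶ V := MorphismProperty.Over.homMk g.left rfl
  have ha : (EtShriek.compEtale e).map a = i.hom ≫ g := by
    apply MorphismProperty.Over.Hom.ext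
    exact (Category.id_comp _).symm
  refine ⟨V', a, z, ?_, hz⟩
  show S ((EtShriek.compEtale e).map a)
  rw [ha]
  exact S.downward_closed hg i.hom

variable (e : W ⟶ X) [Etale e] [EtShriek.JCont e]

theorem nonempty_restr_sheafify (P : X.Etaleᵒᵖ ⥤ AddCommGrpCat.{u + 1}) :
    Nonempty ((EtShriek.restrAlong e).obj ((presheafToSheaf X.smallEtaleTopology AddCommGrpCat.{u + 1}).obj P) ≅
      (presheafToSheaf W.smallEtaleTopology AddCommGrpCat.{u + 1}).obj ((EtShriek.compEtale e).op ⋙ P)) := by
  haveI := isCocontinuous_compEtale e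
  exact ⟨((Functor.pushforwardContinuousSheafificationCompatibility (EtShriek.compEtale e) AddCommGrpCat.{u + 1}
    W.smallEtaleTopology X.smallEtaleTopology).app P).symm⟩

/-- Tensor products are functorial in isomorphisms. -/
def tensorPreIso {F F' G G' : EtCoh.Ab X} (a : F ≅ F') (b : G ≅ G') :
    EtDual.tensorPre F G ≅ EtDual.tensorPre F' G' :=
  NatIso.ofComponents (fun V =>
    (show F.obj.obj V ≅ F'.obj.obj V from
      ((sheafToPresheaf _ _).mapIso a).app V) |> fun aV =>
    (show G.obj.obj V ≅ G'.obj.obj V from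
      ((sheafToPresheaf _ _).mapIso b).app V) |> fun bV =>
    (TensorProduct.congr aV.addCommGroupIsoToAddEquiv.toIntLinearEquiv
      bV.addCommGroupIsoToAddEquiv.toIntLinearEquiv).toAddEquiv.toAddCommGrpIso) (by
    intro V V' g
    ext x
    induction x using TensorProduct.induction_on with
    | zero => simp
    | tmul s t =>
      exact congrArg₂ (fun p q => TensorProduct.tmul ℤ p q)
        (ConcreteCategory.congr_hom (a.hom.hom.naturality g) s)
        (ConcreteCategory.congr_hom (b.hom.hom.naturality g) t)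
    | add x y hx hy => exact (map_add _ x y).trans ((congrArg₂ (· + ·) hx hy).trans (map_add _ x y).symm))

theorem nonempty_restr_const (M : Type) [AddCommGroup M] :
    Nonempty ((EtShriek.restrAlong e).obj (EtCoh.const X M) ≅ EtCoh.const W M) :=
  nonempty_restr_sheafify e _

/-- Restriction of the multiplicative group. -/
def restrGmIso : (EtShriek.restrAlong e).obj (EtCoh.Gm X) ≅ EtCoh.Gm W :=
  (fullyFaithfulSheafToPresheaf _ _).preimageIso
    (NatIso.ofComponents (fun T => Iso.refl _) (fun {T T'} g => (Category.comp_id _).trans (Category.id_comp _).symm))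

theorem nonempty_restr_mu (n : ℕ) :
    Nonempty ((EtShriek.restrAlong e).obj (EtCoh.mu X n) ≅ EtCoh.mu W n) := by
  let R := EtShriek.restrAlong e
  haveI := restrAlong_preservesFiniteLimits e
  haveI : R.Additive := Functor.additive_of_preserves_binary_products _
  exact ⟨PreservesKernel.iso R _ ≪≫ kernel.mapIso _ _ (restrGmIso e) (restrGmIso e) (by
    show R.map (EtCoh.powMap X n) ≫ (restrGmIso e).hom = _ ≫ EtCoh.powMap W n
    simp only [EtCoh.powMap, R.map_nsmul, Preadditive.nsmul_comp, Preadditive.comp_nsmul,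
      Category.comp_id, R.map_id, Category.id_comp])⟩

theorem nonempty_restr_tate (n : ℕ) [NeZero n] (hμ : Nonempty (EtCoh.mu W n ≅ EtCoh.const W (ZMod n))) :
    ∀ d, Nonempty ((EtShriek.restrAlong e).obj (EtDual.tate X n d) ≅ EtCoh.const W (ZMod n)) := by
  intro d
  induction d with
  | zero => exact nonempty_restr_const e (ZMod n)
  | succ d ih =>
    obtain ⟨i⟩ := ih
    obtain ⟨m⟩ := hμ
    obtain ⟨r⟩ := nonempty_restr_mu e n
    obtain ⟨s⟩ := nonempty_restr_sheafify e (EtDual.tensorPre (EtDual.tate X n d) (EtCoh.mu X n))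
    obtain ⟨c⟩ := nonempty_tensor_const W n
    let q : (EtShriek.compEtale e).op ⋙ EtDual.tensorPre (EtDual.tate X n d) (EtCoh.mu X n) ≅
        EtDual.tensorPre (EtCoh.const W (ZMod n)) (EtCoh.const W (ZMod n)) :=
      (show _ ≅ EtDual.tensorPre ((EtShriek.restrAlong e).obj (EtDual.tate X n d))
        ((EtShriek.restrAlong e).obj (EtCoh.mu X n)) from NatIso.ofComponents (fun T => Iso.refl _) (fun {T T'} g => (Category.comp_id _).trans (Category.id_comp _).symm)) ≪≫ tensorPreIso i (r ≪≫ m)
    exact ⟨s ≪≫ (presheafToSheaf _ _).mapIso q ≪≫ c⟩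

theorem exists_trivializing_cover (X : Scheme.{u}) (n : ℕ) (hn : 1 ≤ n) (hu : IsUnit (n : Γ(X, ⊤))) :
    ∃ (W : Scheme.{u}) (e : W ⟶ X), Etale e ∧ Function.Surjective e ∧
      Nonempty (EtCoh.mu W n ≅ EtCoh.const W (ZMod n)) := by
  let A := Γ(X, ⊤)
  let F : Polynomial A := Polynomial.cyclotomic n A
  let B := CommRingCat.of (AdjoinRoot F)
  have hF : F.Monic := Polynomial.cyclotomic.monic n A
  have hsep : ((Polynomial.X : Polynomial A) ^ n - 1).Separable := by
    obtain ⟨b, hb⟩ := hu.exists_left_inv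
    refine ⟨-1, Polynomial.C b * Polynomial.X, ?_⟩
    obtain ⟨m, rfl⟩ : ∃ m, n = m + 1 := ⟨n - 1, by omega⟩
    rw [Polynomial.derivative_sub, Polynomial.derivative_one, Polynomial.derivative_X_pow, sub_zero, Nat.add_sub_cancel]
    calc -1 * ((Polynomial.X : Polynomial A) ^ (m + 1) - 1) + Polynomial.C b * Polynomial.X * (Polynomial.C ((m + 1 : ℕ) : A) * Polynomial.X ^ m)
        = -(Polynomial.X ^ (m + 1)) + 1 + Polynomial.C (b * ((m + 1 : ℕ) : A)) * Polynomial.X ^ (m + 1) := by rw [Polynomial.C_mul]; ring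
      _ = 1 := by rw [hb, Polynomial.C_1]; ring
  have hFs : F.Separable := hsep.of_dvd (Polynomial.cyclotomic.dvd_X_pow_sub_one n A)
  haveI : Algebra.Etale A (AdjoinRoot F) := Hensel.etale_adjoinRoot hF hFs
  let g : Spec B ⟶ Spec A := Spec.map (CommRingCat.ofHom (algebraMap A (AdjoinRoot F)))
  haveI hg : Etale g := (HasRingHomProperty.Spec_iff (P := @Etale)).2 (RingHom.etale_algebraMap.2 inferInstance)
  have hgs : Function.Surjective g := by
    intro p
    haveI : Nontrivial A := ⟨⟨0, 1, fun h => p.isPrime.ne_top ((Ideal.eq_top_iff_one _).2 (by rw [← h]; exact p.asIdeal.zero_mem))⟩⟩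
    haveI := hF.finite_adjoinRoot
    haveI : Algebra.IsIntegral A (AdjoinRoot F) := inferInstance
    have hinj : Function.Injective (algebraMap A (AdjoinRoot F)) := by
      rw [injective_iff_map_eq_zero]
      intro a ha
      by_contra h0
      refine hF.not_dvd_of_degree_lt (Polynomial.C_ne_zero.2 h0) ?_ (AdjoinRoot.mk_eq_zero.1 ha)
      refine lt_of_le_of_lt Polynomial.degree_C_le ?_
      rw [Polynomial.degree_cyclotomic n A]
      exact_mod_cast Nat.totient_pos.2 (by omega)
    haveI : FaithfulSMul A (AdjoinRoot F) := (faithfulSMul_iff_algebraMap_injective _ _).mpr hinj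
    exact Algebra.IsIntegral.comap_surjective _ _ p
  let W := pullback X.toSpecΓ g
  let φ : AdjoinRoot F →+* Γ(W, ⊤) :=
    (pullback.snd X.toSpecΓ g).appTop.hom.comp (Scheme.ΓSpecIso B).inv.hom
  refine ⟨W, pullback.fst _ _, inferInstance, ?_, ?_⟩
  · intro x
    obtain ⟨y, hy⟩ := hgs (X.toSpecΓ x)
    obtain ⟨z, hz, -⟩ := Scheme.Pullback.exists_preimage_pullback x y hy.symm
    exact ⟨z, hz⟩
  · have h0 : Polynomial.aeval (AdjoinRoot.root F) (Polynomial.cyclotomic n ℤ) = 0 := by
      rw [← Polynomial.aeval_map_algebraMap A, Polynomial.map_cyclotomic]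
      rw [AdjoinRoot.aeval_eq]
      exact AdjoinRoot.mk_self
    refine KummerLib.nonempty_mu_iso_const n hn ?_ (φ (AdjoinRoot.root F)) ?_
    · have := hu.map (pullback.fst X.toSpecΓ g).appTop.hom
      rwa [map_natCast] at this
    · have := congrArg φ h0
      rw [map_zero] at this
      rw [← this]
      exact (Polynomial.aeval_algHom_apply φ.toIntAlgHom _ _)

theorem isZero_of_isEmpty [IsEmpty X] (G : EtCoh.Ab X) : IsZero G := by
  rw [IsZero.iff_id_eq_zero]
  refine Sheaf.hom_ext (NatTrans.ext (funext fun T => ?_))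
  ext s
  exact EtFLC.sect_ext G fun v => (IsEmpty.false (α := X) (T.unop.hom v)).elim

theorem isZero_locCoh_tate {U : Scheme.{u}} (j : U ⟶ X) [IsOpenImmersion j] [EtCoh.BCCont j] (n : ℕ)
    (hn : IsUnit (n : Γ(X, ⊤))) (d p : ℕ) (h : IsZero ((EtDual.locCoh j p).obj (EtCoh.const X (ZMod n)))) :
    IsZero ((EtDual.locCoh j p).obj (EtDual.tate X n d)) := by
  rcases n.eq_zero_or_pos with rfl | hpos
  · haveI : IsEmpty X := ⟨fun x => by
      have := hn.map (X.Γevaluation x).hom
      rw [Nat.cast_zero, map_zero] at this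
      exact not_isUnit_zero this⟩
    exact isZero_of_isEmpty _
  haveI : NeZero n := ⟨by omega⟩
  obtain ⟨W, e, he, hes, hμ⟩ := exists_trivializing_cover X n hpos hn
  haveI := he
  haveI := jcont_etale e
  haveI : EtCoh.BCCont (jW j e) := inferInstance
  refine isZero_of_restr e hes ?_
  obtain ⟨i⟩ := nonempty_restr_locCoh j e p (EtDual.tate X n d)
  obtain ⟨i'⟩ := nonempty_restr_locCoh j e p (EtCoh.const X (ZMod n))
  obtain ⟨t⟩ := nonempty_restr_tate e n hμ d
  obtain ⟨c⟩ := nonempty_restr_const e (ZMod n)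
  exact ((EtShriek.restrAlong e).map_isZero h).of_iso
    (i ≪≫ (EtDual.locCoh (jW j e) p).mapIso (t ≪≫ c.symm) ≪≫ i'.symm)

end Groth.Agent.EtMV
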