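import Mathlib
import Groth.Prelude.Def_EtBase
import Groth.Agent.Hensel.Decomp

/-! Etale neighbourhoods of the closed point over a henselian local ring contain finite etale covers. -/

universe u

open CategoryTheory CategoryTheory.Limits AlgebraicGeometry Opposite

set_option backward.isDefEq.respectTransparency false

noncomputable section

namespace Groth.Agent.EtMV

theorem exists_finite_nhd (A : Type u) [CommRing A] [HenselianLocalRing A]
    (W : (Spec (CommRingCat.of A)).Etale) (w : W.left) (hw : W.hom w = IsLocalRing.closedPoint A) :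
    ∃ (Y' : Scheme.{u}) (f : Y' ⟶ Spec (CommRingCat.of A)) (_ : Etale f) (_ : IsFinite f) (_ : Surjective f),
      ∃ h : Y' ⟶ W.left, h ≫ W.hom = f := by
  let g₀ : W.left ⟶ Spec (CommRingCat.of A) := W.hom
  haveI : Etale g₀ := W.prop
  obtain ⟨U, hU, hwU, -⟩ := exists_isAffineOpen_mem_and_subset (U := ⊤) (x := w) trivial
  let g : Spec Γ(W.left, U) ⟶ Spec (CommRingCat.of A) := hU.fromSpec ≫ g₀
  obtain ⟨ψ, hψ⟩ : ∃ ψ, Spec.map ψ = g := Spec.map_surjective g
  have hget : Etale g := inferInstance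
  rw [← hψ, HasRingHomProperty.Spec_iff (P := @Etale)] at hget
  letI : Algebra A Γ(W.left, U) := ψ.hom.toAlgebra
  haveI : Algebra.Etale A Γ(W.left, U) := hget
  let q := hU.primeIdealOf ⟨w, hwU⟩
  have hgq : g q = IsLocalRing.closedPoint A := by
    show g₀ (hU.fromSpec q) = _
    rw [hU.fromSpec_primeIdealOf]
    exact hw
  haveI : q.asIdeal.LiesOver (IsLocalRing.maximalIdeal A) := ⟨by
    have h : (Spec.map ψ) q = IsLocalRing.closedPoint A := by rw [hψ]; exact hgq
    exact (congrArg PrimeSpectrum.asIdeal h).symm⟩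
  obtain ⟨e, he, hfin, heq⟩ := Hensel.exists_idempotent_notMem A Γ(W.left, U) q.asIdeal
  let B := Γ(W.left, U) ⧸ Ideal.span ({1 - e} : Set Γ(W.left, U))
  let m : Γ(W.left, U) ⟶ CommRingCat.of B := CommRingCat.ofHom (Ideal.Quotient.mk _)
  haveI : IsLocalization.Away e B :=
    IsLocalization.away_of_isIdempotentElem he Ideal.mk_ker Ideal.Quotient.mk_surjective
  haveI : IsOpenImmersion (Spec.map m) := IsOpenImmersion.of_isLocalization e
  let f : Spec (CommRingCat.of B) ⟶ Spec (CommRingCat.of A) := Spec.map m ≫ g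
  haveI hfE : Etale f := inferInstance
  have hf : f = Spec.map (CommRingCat.ofHom (algebraMap A B)) := by
    show Spec.map m ≫ g = _
    rw [← hψ, ← Spec.map_comp]
    rfl
  haveI hfF : IsFinite f := by
    rw [hf, IsFinite.SpecMap_iff]
    exact RingHom.finite_algebraMap.2 hfin
  have h1 : Ideal.span ({1 - e} : Set Γ(W.left, U)) ≤ q.asIdeal := by
    rw [Ideal.span_le, Set.singleton_subset_iff]
    have h0 : e * (1 - e) = 0 := by rw [mul_sub, mul_one, he.eq, sub_self]
    exact (q.isPrime.mem_or_mem (h0 ▸ q.asIdeal.zero_mem)).resolve_left heq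
  obtain ⟨q', hq'⟩ : q ∈ Set.range (Spec.map m) := by
    show q ∈ Set.range (PrimeSpectrum.comap (Ideal.Quotient.mk _))
    rw [range_comap_of_surjective _ _ Ideal.Quotient.mk_surjective, Ideal.mk_ker]
    exact h1
  haveI hfS : Surjective f := ⟨fun y => by
    obtain ⟨y', -, hy'⟩ := Flat.generalizingMap f (show y ⤳ f q' by
      show y ⤳ g (Spec.map m q')
      rw [hq', hgq]
      exact IsLocalRing.specializes_closedPoint y)
    exact ⟨y', hy'⟩⟩
  exact ⟨_, f, hfE, hfF, hfS, Spec.map m ≫ hU.fromSpec, Category.assoc _ _ _⟩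

end Groth.Agent.EtMV
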