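import Mathlib
import Groth.Prelude.Def_EtLim
import Groth.Agent.EtPullExact.Basic
import Groth.Agent.EtMV.Etale
import Groth.Agent.EtMV.AdjExt

/-! `H^p(Y, f_* F) → H^p(X, F)` for acyclic sheaves. -/

universe u

open CategoryTheory CategoryTheory.Limits CategoryTheory.Abelian AlgebraicGeometry Opposite

set_option backward.isDefEq.respectTransparency false

noncomputable section

namespace Groth.Agent.EtMV

set_option linter.auxLemma false
attribute [local instance 100000] EtCoh.H._proof_1 hext
attribute [local instance 200000] hextAb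

variable {X Y : Scheme.{u}} (f : X ⟶ Y) [PreservesFiniteLimits (EtCoh.pull f)]

theorem push_preservesInjective : (EtCoh.push f).PreservesInjectiveObjects :=
  ⟨fun {I} hI => Injective.injective_of_adjoint (EtCoh.pullPushAdj f) I⟩

theorem U_push_bijective {P : EtCoh.Ab Y} {Q : EtCoh.Ab X} (c : Q ⟶ (EtCoh.pull f).obj P) [IsIso c]
    (F : EtCoh.Ab X) (hR : ∀ q : ℕ, IsZero ((EtCoh.Rpush f (q + 1)).obj F)) (p : ℕ) :
    Function.Bijective (U (EtCoh.pullPushAdj f) c F p) := by
  haveI := push_preservesInjective f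
  exact U_bijective _ _ p F hR

/-- The comparison of constant sheaves. -/
def pc : EtCoh.const X ℤ ⟶ (EtCoh.pull f).obj (EtCoh.const Y ℤ) := (EtCore.pullConst f ℤ).inv

omit [PreservesFiniteLimits (EtCoh.pull f)] in
theorem isIso_pc : IsIso (pc f) := (EtCore.pullConst f ℤ).isIso_inv

theorem HofPush_eq (F : EtCoh.Ab X) (p : ℕ) (x : EtCoh.H Y ((EtCoh.push f).obj F) p) :
    EtLim.HofPush f F p x =
      toH X F p (U (EtCoh.pullPushAdj f) (pc f) F p ((toH Y _ p).symm x)) := rfl

theorem HofPush_bijective (F : EtCoh.Ab X) (hR : ∀ q : ℕ, IsZero ((EtCoh.Rpush f (q + 1)).obj F)) (p : ℕ) :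
    Function.Bijective (EtLim.HofPush f F p) :=
  (funext (HofPush_eq f F p) : (⇑(EtLim.HofPush f F p)) = _) ▸
    ((toH X F p).bijective.comp (haveI := isIso_pc f; U_push_bijective f (pc f) F hR p)).comp (toH Y _ p).symm.bijective

end Groth.Agent.EtMV
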