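import Mathlib
import Groth.Agent.EtMV.HenselNbhd
import Groth.Agent.EtMV.KillClass
import Groth.Agent.EtMV.HofPush
import Groth.Agent.EtIntegral.BaseChange
import Groth.Agent.EtIntegral.Push
import Groth.Agent.EtStalk.Applications
import Groth.Agent.EtStalk.Sheaf
import Groth.Agent.EtPushStalk.Counit

/-! Over a henselian local ring the cohomology of a sheaf vanishing at the closed point is zero. -/

universe u

open CategoryTheory CategoryTheory.Limits CategoryTheory.Abelian AlgebraicGeometry Opposite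

set_option backward.isDefEq.respectTransparency false

noncomputable section

namespace Groth.Agent.EtMV

set_option linter.auxLemma false
attribute [local instance 100000] EtCoh.H._proof_1 hext
attribute [local instance 200000] hextAb

section General

variable {X Z : Scheme.{u}}

theorem exists_nhd_res_zero (i : Z ⟶ X) (G : EtCoh.Ab X) (hG : IsZero ((EtCoh.pull i).obj G)) {W : X.Etale}
    (s : EtCoh.sect G W) (w : W.left) (hw : W.hom w ∈ Set.range i) :
    ∃ (W' : X.Etale) (h : W' ⟶ W) (w' : W'.left), W'.hom w' = W.hom w ∧ EtFLC.res G h s = 0 := by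
  obtain ⟨z, hz⟩ := hw
  obtain ⟨Ω, _, _, ζ, -, hζ⟩ := EtStalk.covers_all (X := Z) z
  let ξ := ζ ≫ i
  have hξ : ξ default = W.hom w := by rw [Scheme.Hom.comp_apply, hζ, hz]
  have hst : IsZero ((EtCoh.stalk ξ).obj G) :=
    ((EtCoh.stalk ζ).map_isZero hG).of_iso ((EtStalk.stalkPullIso i ζ).app G)
  haveI : Subsingleton ((EtCoh.stalk ξ).obj G) := AddCommGrpCat.subsingleton_of_isZero hst
  obtain ⟨x, -⟩ := Scheme.pointSmallEtaleFiberObjToPreimage_surjective ξ hξ W ⟨w, by simp⟩
  obtain ⟨Y, g, y, -, hg⟩ := ((Scheme.pointSmallEtale ξ).toPresheafFiber_eq_iff' W x (P := G.obj) s 0).mp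
    (Subsingleton.elim (α := (EtCoh.stalk ξ).obj G) _ _)
  let w' := Scheme.pointSmallEtaleFiberObjToPreimage ξ hξ y
  exact ⟨Y, g, w'.1, w'.2, hg.trans (map_zero _)⟩

theorem cc_δd_map {Y' : Scheme.{u}} (f : Y' ⟶ X) [Etale f] :
    cc f (δd f) ≫ (EtCoh.pull f).map ((P X).map (toTop (Scheme.Etale.mk f))) = cc f (δtop f) := by
  apply (κ_bijective _).1
  rw [κ_cc_map, κ_cc, ← Category.comp_id ((P X).map _), σ_map]
  exact r_res f (δtop f) (δd f) (toTop (Scheme.Etale.mk f)) thin_top _ (uel _)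

theorem T_θ (f : Z ⟶ X) [PreservesFiniteLimits (EtCoh.pull f)] (G : EtCoh.Ab X) (n : ℕ)
    (x : Ext (EtCoh.const X ℤ) G n) :
    T (EtCoh.pull f) (cc f (δtop f)) G n ((Ext.mk₀ (θ X).inv).comp x (zero_add n)) =
      T (EtCoh.pull f) (pc f) G n x := by
  rw [T_precomp]
  congr 2
  apply (κ_bijective _).1
  rw [κ_cc_map, pc, κ_pullConst f (δtop f), θ, Equiv.apply_symm_apply]

theorem U_unit (f : Z ⟶ X) [PreservesFiniteLimits (EtCoh.pull f)] (G : EtCoh.Ab X) (n : ℕ)
    (x : Ext (EtCoh.const X ℤ) G n) :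
    U (EtCoh.pullPushAdj f) (pc f) ((EtCoh.pull f).obj G) n
        (x.comp (Ext.mk₀ ((EtCoh.pullPushAdj f).unit.app G)) (add_zero n)) =
      T (EtCoh.pull f) (pc f) G n x := by
  rw [U_apply]
  erw [T_comp_mk₀, Ext.comp_assoc_of_second_deg_zero, Ext.mk₀_comp_mk₀,
    (EtCoh.pullPushAdj f).left_triangle_components, Ext.comp_mk₀_id]

theorem mono_unit_of_surjective (f : Z ⟶ X) [Surjective f] (G : EtCoh.Ab X) :
    Mono ((EtCoh.pullPushAdj f).unit.app G) := by
  let η := (EtCoh.pullPushAdj f).unit.app G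
  haveI : IsSplitMono ((EtCoh.pull f).map η) :=
    ⟨⟨⟨_, (EtCoh.pullPushAdj f).left_triangle_components G⟩⟩⟩
  have : Presheaf.IsLocallyInjective X.smallEtaleTopology η.hom :=
    EtStalk.isLocallyInjective_of_covers _ (EtStalk.covers_of_surjective f) fun Ω _ _ ξ hξ => by
      obtain ⟨ξ', rfl⟩ := hξ
      have hm : Mono ((EtCoh.pull f ⋙ EtCoh.stalk ξ').map η) := by
        show Mono ((EtCoh.stalk ξ').map ((EtCoh.pull f).map η))
        infer_instance
      have : Mono ((EtCoh.stalk (ξ' ≫ f)).map η) := by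
        rw [← NatIso.naturality_2 (EtStalk.stalkPullIso f ξ') η]
        infer_instance
      exact (AddCommGrpCat.mono_iff_injective _).1 this
  exact Sheaf.mono_of_isLocallyInjective η

theorem isZero_pull_push_pull {Y' : Scheme.{u}} (i : Z ⟶ X) (f : Y' ⟶ X) [IsFinite f] (G : EtCoh.Ab X)
    (hG : IsZero ((EtCoh.pull i).obj G)) :
    IsZero ((EtCoh.pull i).obj ((EtCoh.push f).obj ((EtCoh.pull f).obj G))) := by
  haveI : IsFinite (pullback.snd f i) := MorphismProperty.pullback_snd _ _ inferInstance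
  haveI := EtIntegral.isIso_baseChange0 (h := IsPullback.of_hasPullback f i) (F := (EtCoh.pull f).obj G)
  have h1 : IsZero ((EtCoh.pull (pullback.fst f i)).obj ((EtCoh.pull f).obj G)) :=
    ((EtCoh.pull (pullback.snd f i)).map_isZero hG).of_iso
      ((ψ (pullback.fst f i) f _ rfl).app G ≪≫
        ((ψ (pullback.snd f i) i _ pullback.condition.symm).app G).symm)
  exact ((EtCoh.push (pullback.snd f i)).map_isZero h1).of_iso
    (asIso (EtCoh.baseChange0 f i (pullback.snd f i) (pullback.fst f i) pullback.condition _))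

theorem bijective_comp_f {C : Type*} [Category C] [Abelian C] [HasExt C] {P : C} {S : ShortComplex C}
    (hS : S.ShortExact) (h : ∀ (n : ℕ) (x : Ext P S.X₃ n), x = 0) (n : ℕ) :
    Function.Bijective (fun x : Ext P S.X₁ n => x.comp (Ext.mk₀ S.f) (add_zero n)) := by
  refine ⟨fun a b hab => ?_, fun y => Ext.covariant_sequence_exact₂ _ hS y (h n _)⟩
  have h0 : (a - b).comp (Ext.mk₀ S.f) (add_zero n) = 0 := by
    rw [sub_eq_add_neg, Ext.add_comp, Ext.neg_comp, ← sub_eq_add_neg]
    exact sub_eq_zero.2 hab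
  cases n with
  | zero =>
    haveI := hS.mono_f
    have : a - b = 0 := by
      obtain ⟨φ, hφ⟩ := (Ext.mk₀_bijective _ _).2 (a - b)
      rw [← hφ, Ext.mk₀_comp_mk₀] at h0
      rw [← hφ, zero_of_comp_mono S.f ((Ext.mk₀_bijective _ _).1 (h0.trans (by rw [Ext.mk₀_zero]))), Ext.mk₀_zero]
    exact sub_eq_zero.1 this
  | succ k =>
    obtain ⟨d, hd⟩ := Ext.covariant_sequence_exact₁ P hS (a - b) h0 rfl
    rw [h k d, Ext.zero_comp] at hd
    exact sub_eq_zero.1 hd.symm

theorem bijective_comp_g {C : Type*} [Category C] [Abelian C] [HasExt C] {P : C} {S : ShortComplex C}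
    (hS : S.ShortExact) (h : ∀ (n : ℕ) (x : Ext P S.X₁ n), x = 0) (n : ℕ) :
    Function.Bijective (fun x : Ext P S.X₂ n => x.comp (Ext.mk₀ S.g) (add_zero n)) := by
  refine ⟨fun a b hab => ?_, fun y => Ext.covariant_sequence_exact₃ _ hS y rfl (h (n + 1) _)⟩
  have h0 : (a - b).comp (Ext.mk₀ S.g) (add_zero n) = 0 := by
    rw [sub_eq_add_neg, Ext.add_comp, Ext.neg_comp, ← sub_eq_add_neg]
    exact sub_eq_zero.2 hab
  obtain ⟨d, hd⟩ := Ext.covariant_sequence_exact₂ _ hS (a - b) h0
  rw [h n d, Ext.zero_comp] at hd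
  exact sub_eq_zero.1 hd.symm

end General

variable {A : Type u} [CommRing A] [HenselianLocalRing A]

/-- The closed point. -/
abbrev clPt (A : Type u) [CommRing A] [IsLocalRing A] :
    Spec (CommRingCat.of (IsLocalRing.ResidueField A)) ⟶ Spec (CommRingCat.of A) :=
  Spec.map (CommRingCat.ofHom (IsLocalRing.residue A))

theorem range_clPt (A : Type u) [CommRing A] [IsLocalRing A] :
    IsLocalRing.closedPoint A ∈ Set.range (clPt A) :=
  ⟨IsLocalRing.closedPoint _, IsLocalRing.comap_closedPoint (IsLocalRing.residue A)⟩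

theorem ext_vanish (n : ℕ) : ∀ (G : EtCoh.Ab (Spec (CommRingCat.of A))),
    IsZero ((EtCoh.pull (clPt A)).obj G) →
      ∀ x : Ext (EtCoh.const (Spec (CommRingCat.of A)) ℤ) G n, x = 0 := by
  induction n with
  | zero =>
    intro G hG x
    obtain ⟨φ, rfl⟩ := (Ext.mk₀_bijective _ _).2 x
    have h0 : κ φ = 0 := by
      obtain ⟨W', h, w', hw', hs⟩ := exists_nhd_res_zero (clPt A) G hG (κ φ)
        (IsLocalRing.closedPoint A) (range_clPt A)
      obtain ⟨Y', f, hE, hF, hS, g, hg⟩ := exists_finite_nhd A W' w' hw'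
      haveI := hE
      let k : Scheme.Etale.mk f ⟶ W' := MorphismProperty.Over.homMk g hg
      refine EtFLC.sect_ext G fun v => ?_
      obtain ⟨v', hv'⟩ := f.surjective v
      refine ⟨Scheme.Etale.mk f, k ≫ h, v', ?_, by rw [← EtFLC.res_res, hs, map_zero, map_zero]⟩
      rw [hom_top_ext (k ≫ h) (toTop _)]
      exact hv'
    rw [(κ_bijective G).1 (h0.trans (show κ (0 : EtCoh.const _ ℤ ⟶ G) = 0 from rfl).symm), Ext.mk₀_zero]
  | succ n ih =>
    intro G hG x
    obtain ⟨W, h, w, hw, hk⟩ := exists_kill n (EtCoh.top _) G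
      ((Ext.mk₀ (θ _).inv).comp x (zero_add (n + 1))) (IsLocalRing.closedPoint A)
    obtain ⟨Y', f, hE, hF, hSu, g, hg⟩ := exists_finite_nhd A W w (by
      rw [← MorphismProperty.Over.w h]
      exact hw)
    haveI := hE
    haveI := hF
    haveI := hSu
    haveI := EtPullExact.pull_preservesFiniteLimits f
    haveI := EtPullExact.pull_preservesFiniteLimits (clPt A)
    let k : Scheme.Etale.mk f ⟶ W := MorphismProperty.Over.homMk g hg
    have hk' : (Ext.mk₀ ((P _).map (toTop (Scheme.Etale.mk f)))).comp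
        ((Ext.mk₀ (θ _).inv).comp x (zero_add (n + 1))) (zero_add (n + 1)) = 0 := by
      rw [hom_top_ext (toTop (Scheme.Etale.mk f)) (k ≫ h), Functor.map_comp, ← Ext.mk₀_comp_mk₀_assoc, hk,
        Ext.comp_zero]
    have hT := congrArg (T (EtCoh.pull f) (cc f (δd f)) G (n + 1)) hk'
    rw [T_precomp, cc_δd_map, T_θ, map_zero, ← U_unit] at hT
    have hx : x.comp (Ext.mk₀ ((EtCoh.pullPushAdj f).unit.app G)) (add_zero (n + 1)) = 0 := by
      haveI := isIso_pc f
      exact (U_push_bijective f (pc f) _ (fun q => EtIntegral.Rpush_succ_isZero f _ q) (n + 1)).1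
        (hT.trans (map_zero _).symm)
    haveI := mono_unit_of_surjective f G
    let S : ShortComplex (EtCoh.Ab (Spec (CommRingCat.of A))) :=
      ShortComplex.mk ((EtCoh.pullPushAdj f).unit.app G) (cokernel.π _) (cokernel.condition _)
    have hS : S.ShortExact :=
      { exact := ShortComplex.exact_of_g_is_cokernel _ (cokernelIsCokernel _) }
    obtain ⟨d, hd⟩ := Ext.covariant_sequence_exact₁ _ hS x hx rfl
    have hQ : IsZero ((EtCoh.pull (clPt A)).obj S.X₃) :=
      IsZero.of_epi ((EtCoh.pull (clPt A)).map S.g) (isZero_pull_push_pull (clPt A) f G hG)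
    rw [← hd, ih _ hQ d, Ext.zero_comp]

theorem bijective_comp_of_pull_iso {F G : EtCoh.Ab (Spec (CommRingCat.of A))} (φ : F ⟶ G)
    [IsIso ((EtCoh.pull (clPt A)).map φ)] (n : ℕ) :
    Function.Bijective (fun x : Ext (EtCoh.const (Spec (CommRingCat.of A)) ℤ) F n =>
      x.comp (Ext.mk₀ φ) (add_zero n)) := by
  let L := EtCoh.pull (clPt A)
  haveI := EtPullExact.pull_preservesFiniteLimits (clPt A)
  let S₁ : ShortComplex (EtCoh.Ab (Spec (CommRingCat.of A))) :=
    ShortComplex.mk (kernel.ι φ) (Abelian.factorThruImage φ) (by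
      rw [← cancel_mono (Abelian.image.ι φ), Category.assoc, Abelian.image.fac, kernel.condition, zero_comp])
  let S₂ : ShortComplex (EtCoh.Ab (Spec (CommRingCat.of A))) :=
    ShortComplex.mk (Abelian.image.ι φ) (cokernel.π φ) (kernel.condition _)
  have hS₁ : S₁.ShortExact :=
    { exact := ShortComplex.exact_of_f_is_kernel _ (KernelFork.IsLimit.ofι' _ _ fun k hk =>
        ⟨kernel.lift φ k (by rw [← Abelian.image.fac φ, ← Category.assoc, show k ≫ Abelian.factorThruImage φ = 0
          from hk, zero_comp]), kernel.lift_ι _ _ _⟩) }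
  have hS₂ : S₂.ShortExact :=
    { exact := ShortComplex.exact_of_f_is_kernel _ (kernelIsKernel _) }
  have h1 : IsZero (L.obj S₁.X₁) :=
    (isZero_kernel_of_mono (L.map φ)).of_iso (PreservesKernel.iso L φ)
  have h2 : IsZero (L.obj S₂.X₃) :=
    (isZero_cokernel_of_epi (L.map φ)).of_iso (PreservesCokernel.iso L φ)
  have e : (fun x : Ext (EtCoh.const (Spec (CommRingCat.of A)) ℤ) F n => x.comp (Ext.mk₀ φ) (add_zero n)) =
      (fun x => x.comp (Ext.mk₀ S₂.f) (add_zero n)) ∘ (fun x => x.comp (Ext.mk₀ S₁.g) (add_zero n)) :=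
    funext fun x => by
      simp only [Function.comp_apply, Ext.comp_assoc_of_second_deg_zero, Ext.mk₀_comp_mk₀]
      rw [show S₁.g ≫ S₂.f = φ from Abelian.image.fac φ]
  rw [e]
  exact (bijective_comp_f hS₂ (fun m => ext_vanish m _ h2) n).comp
    (bijective_comp_g hS₁ (fun m => ext_vanish m _ h1) n)

theorem Hpull_bijective [PreservesFiniteLimits (EtCoh.pull (clPt A))] (F : EtCoh.Ab (Spec (CommRingCat.of A)))
    (n : ℕ) : Function.Bijective (EtCore.Hpull (clPt A) F n) := by
  let i := clPt A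
  haveI : IsClosedImmersion i := IsClosedImmersion.spec_of_surjective _ IsLocalRing.residue_surjective
  haveI : ∀ G, IsIso ((EtCoh.pullPushAdj i).counit.app G) :=
    EtPushStalk.isIso_counit i (EtPushStalk.liftProp_of_closedImmersion i)
  haveI : IsIso ((EtCoh.pull i).map ((EtCoh.pullPushAdj i).unit.app F)) := by
    have h2 := (EtCoh.pullPushAdj i).left_triangle_components F
    have : IsIso ((EtCoh.pull i).map ((EtCoh.pullPushAdj i).unit.app F) ≫
        (EtCoh.pullPushAdj i).counit.app ((EtCoh.pull i).obj F)) := by rw [h2]; exact IsIso.id _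
    exact IsIso.of_isIso_comp_right _ ((EtCoh.pullPushAdj i).counit.app ((EtCoh.pull i).obj F))
  haveI := isIso_pc i
  have e : ⇑(EtCore.Hpull i F n) = ⇑(toH _ _ n) ∘
      (U (EtCoh.pullPushAdj i) (pc i) ((EtCoh.pull i).obj F) n ∘
        fun x => x.comp (Ext.mk₀ ((EtCoh.pullPushAdj i).unit.app F)) (add_zero n)) ∘ ⇑(toH _ _ n).symm :=
    funext fun c => by
      show _ = toH _ _ n (U _ _ _ n (((toH _ _ n).symm c).comp _ _))
      rw [U_unit]
      rfl
  rw [e]
  exact (toH _ _ n).bijective.comp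
    (((U_push_bijective i (pc i) _ (fun q => EtIntegral.Rpush_succ_isZero i _ q) n).comp
      (bijective_comp_of_pull_iso _ n)).comp (toH _ _ n).symm.bijective)

end Groth.Agent.EtMV
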