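import Mathlib
import Groth.Agent.EtMV.ConstSect
import Groth.Agent.EtMV.LocIsoFlasque

/-! Sections of constant sheaves as functions on generic points; flasqueness. -/

universe u

open CategoryTheory CategoryTheory.Limits AlgebraicGeometry Opposite

set_option backward.isDefEq.respectTransparency false

noncomputable section

namespace Groth.Agent.EtMV

/-- Restriction of sections. -/
local notation "rs" => Groth.Agent.EtFLC.res

variable {X : Scheme.{u}} {M : Type} [AddCommGroup M] [IsIntegral X]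

/-- Every point of an etale scheme over `X` has a neighbourhood with a single generic point. -/
def IrrNhd (X : Scheme.{u}) [IsIntegral X] : Prop :=
  ∀ (W : X.Etale) (w : W.left), ∃ (O : W.left.Opens) (η : W.left), w ∈ O ∧ η ∈ O ∧
    W.hom η = genericPoint X ∧ ∀ η' ∈ O, W.hom η' = genericPoint X → η' = η

theorem irrNhd_of_locIso (h : LocIso X) : IrrNhd X := fun W w => by
  obtain ⟨η, hη, hs⟩ := exists_generic_specializes W w
  obtain ⟨O, hw, hO⟩ := h W w
  haveI := hO
  refine ⟨O, η, hw, hs.mem_open O.2 hw, hη, fun η' h' e => ?_⟩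
  exact congrArg Subtype.val ((O.ι ≫ W.hom).isOpenEmbedding.injective
    (show (O.ι ≫ W.hom) (⟨η', h'⟩ : O.toScheme) = (O.ι ≫ W.hom) (⟨η, hs.mem_open O.2 hw⟩ : O.toScheme) from
      e.trans hη.symm))

theorem exists_of_valAt (hI : IrrNhd X) (W : X.Etale) (f : W.left → M) :
    ∃ s : EtCoh.sect (EtCoh.const X M) W, ∀ η, W.hom η = genericPoint X → valAt s η = f η := by
  choose O gen hwO hgO hgen huniq using hI W
  let y : ∀ w, EtCoh.sect (EtCoh.const X M) (sub W (O w)) := fun w => cst _ (f (gen w))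
  obtain ⟨z, hz⟩ := glue_opens (EtCoh.const X M) W O ⊤ (fun _ => le_top) (fun x _ => ⟨x, hwO x⟩) y
    (fun i j => by
      rw [res_cst, res_cst]
      refine ext_valAt fun η hη => ?_
      rw [valAt_cst, valAt_cst]
      congr 1
      have h1 : (subι W (O i ⊓ O j)).left η = gen i := huniq i _ η.2.1 hη
      have h2 : (subι W (O i ⊓ O j)).left η = gen j := huniq j _ η.2.2 hη
      exact h1.symm.trans h2)
  let k : W ⟶ sub W ⊤ := MorphismProperty.Over.homMk
    (IsOpenImmersion.lift (⊤ : W.left.Opens).ι (𝟙 W.left) (fun x _ => ⟨⟨x, trivial⟩, rfl⟩))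
    ((Category.assoc _ (⊤ : W.left.Opens).ι W.hom).symm.trans
      ((congrArg (fun j => j ≫ W.hom) (IsOpenImmersion.lift_fac (⊤ : W.left.Opens).ι (𝟙 W.left) _)).trans
        (Category.id_comp _)))
  have hk : k ≫ subι W ⊤ = 𝟙 W := by
    apply MorphismProperty.Over.Hom.ext
    exact IsOpenImmersion.lift_fac _ _ _
  refine ⟨rs _ k z, fun η hη => ?_⟩
  let p : (sub W (O η)).left := (⟨η, hwO η⟩ : (O η).toScheme)
  have hp : k.left η = (subLe W (le_top : O η ≤ ⊤)).left p := by
    apply (⊤ : W.left.Opens).ι.isOpenEmbedding.injective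
    show (k ≫ subι W ⊤).left η = (subLe W (le_top : O η ≤ ⊤) ≫ subι W ⊤).left p
    rw [hk, subLe_ι]; rfl
  rw [valAt_res, hp, ← valAt_res]
  erw [hz η]
  rw [show y η = cst _ (f (gen η)) from rfl, valAt_cst, ← huniq η η (hwO η) hη]

theorem zflq_const (hI : IrrNhd X) : ZFlq (EtCoh.const X M) := fun {U V} g hg s => by
  classical
  haveI := hg
  obtain ⟨t, ht⟩ := exists_of_valAt hI U fun η => if h : ∃ v, g.left v = η then valAt s h.choose else 0
  refine ⟨t, ext_valAt fun η hη => ?_⟩
  have hw : (g.left ≫ U.hom) η = genericPoint X := by rw [MorphismProperty.Over.w]; exact hη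
  have hex : ∃ v, g.left v = g.left η := ⟨η, rfl⟩
  show valAt (rs _ g t) η = _
  rw [valAt_res]
  refine (ht (g.left η) hw).trans ((dif_pos hex).trans ?_)
  exact congrArg (valAt s) (g.left.isOpenEmbedding.injective hex.choose_spec)

end Groth.Agent.EtMV
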