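import Mathlib
import Groth.Agent.EtMV.ConstFlasque
import Groth.Agent.EtaleLocalProps.Basic

/-! Etale schemes over a normal integral scheme are locally irreducible at the generic fibre. -/

universe u

open CategoryTheory CategoryTheory.Limits AlgebraicGeometry Opposite

set_option backward.isDefEq.respectTransparency false

noncomputable section

namespace Groth.Agent.EtMV

theorem lqf_of_etale {V W : Scheme.{u}} (h : V ⟶ W) [Etale h] : LocallyQuasiFinite h := by
  refine ⟨fun {U} hU {O} hO e => ?_⟩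
  have := HasRingHomProperty.appLE (P := @Etale) h inferInstance ⟨U, hU⟩ ⟨O, hO⟩ e
  algebraize [(h.appLE U O e).hom]
  show @Algebra.QuasiFinite _ _ _ _ (h.appLE U O e).hom.toAlgebra
  infer_instance

theorem eq_of_specializes_of_eq {V W : Scheme.{u}} (h : V ⟶ W) [Etale h] {a b : V} (hab : a ⤳ b)
    (e : h a = h b) : a = b := by
  haveI := lqf_of_etale h
  haveI : DiscreteTopology (h ⁻¹' {h b}) := (h.isDiscrete_preimage_singleton (h b)).to_subtype
  exact congrArg Subtype.val ((Topology.IsInducing.subtypeVal.specializes_iff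
    (x := (⟨a, e⟩ : h ⁻¹' {h b})) (y := ⟨b, rfl⟩)).1 hab).eq

variable {X : Scheme.{u}} [IsIntegral X]

theorem generic_unique_of_normal (hN : ∀ x : X, IsIntegrallyClosed (X.presheaf.stalk x)) {V : Scheme.{u}}
    (g : V ⟶ X) [Etale g] {w a b : V} (ha : g a = genericPoint X) (hb : g b = genericPoint X)
    (haw : a ⤳ w) (hbw : b ⤳ w) : a = b := by
  haveI := hN (g w)
  obtain ⟨_, -⟩ := (EtaleLocalProps.isNormal_stalk_iff g w).2 ⟨inferInstance, inferInstance⟩
  let c := V.fromSpecStalk w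
  have key : ∀ a, g a = genericPoint X → a ⤳ w → c (genericPoint (Spec (V.presheaf.stalk w))) = a := by
    intro a ha haw
    obtain ⟨a', ha'⟩ : a ∈ Set.range c := by rw [Scheme.range_fromSpecStalk]; exact haw
    have h1 : c (genericPoint (Spec (V.presheaf.stalk w))) ⤳ a := by
      rw [← ha']
      exact (genericPoint_specializes a').map c.continuous
    refine eq_of_specializes_of_eq g h1 ?_
    have h2 : g (c (genericPoint (Spec (V.presheaf.stalk w)))) ⤳ g a := h1.map g.continuous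
    rw [ha] at h2 ⊢
    exact (Specializes.antisymm (genericPoint_specializes _) h2).eq.symm
  exact (key a ha haw).symm.trans (key b hb hbw)

theorem irrNhd_of_normal (hN : ∀ x : X, IsIntegrallyClosed (X.presheaf.stalk x)) : IrrNhd X := fun W w => by
  let g : W.left ⟶ X := W.hom
  haveI : Etale g := W.prop
  obtain ⟨η, hη, hs⟩ := exists_generic_specializes W w
  obtain ⟨V, hV, hwV, -⟩ := exists_isAffineOpen_mem_and_subset (U := ⊤) (x := g w) trivial
  obtain ⟨O₀, hO₀, hwO, hO₀V⟩ := exists_isAffineOpen_mem_and_subset (U := g ⁻¹ᵁ V) (x := w) hwV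
  let h : (O₀ : Scheme.{u}) ⟶ (V : Scheme.{u}) := g.resLE V O₀ hO₀V
  haveI : Etale h := IsZariskiLocalAtSource.resLE (P := @Etale) hO₀V inferInstance
  haveI : IsAffine (O₀ : Scheme.{u}) := hO₀
  haveI : IsAffine (V : Scheme.{u}) := hV
  haveI : QuasiCompact h := inferInstance
  haveI := lqf_of_etale h
  have hgV : genericPoint X ∈ V := (genericPoint_specializes (g w)).mem_open V.2 hwV
  have hfin : {a : W.left | a ∈ O₀ ∧ g a = genericPoint X ∧ a ≠ η}.Finite := by
    refine ((h.finite_preimage_singleton ⟨_, hgV⟩).image O₀.ι).subset ?_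
    rintro a ⟨ha, hga, -⟩
    refine ⟨⟨a, ha⟩, Subtype.ext ?_, rfl⟩
    show (h ≫ V.ι) ⟨a, ha⟩ = genericPoint X
    rw [Scheme.Hom.resLE_comp_ι]
    exact hga
  have hcl : IsClosed (⋃ a ∈ {a : W.left | a ∈ O₀ ∧ g a = genericPoint X ∧ a ≠ η}, closure {a}) :=
    hfin.isClosed_biUnion fun a _ => isClosed_closure
  let O : W.left.Opens := O₀ ⊓ ⟨_, hcl.isOpen_compl⟩
  have hnot : ∀ x, η ⤳ x → x ∉ ⋃ a ∈ {a : W.left | a ∈ O₀ ∧ g a = genericPoint X ∧ a ≠ η}, closure {a} := by
    intro x hx h'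
    obtain ⟨a, ⟨-, hga, hne⟩, hax⟩ := Set.mem_iUnion₂.1 h'
    exact hne (generic_unique_of_normal hN g hga hη (specializes_iff_mem_closure.2 hax) hx)
  refine ⟨O, η, ⟨hwO, hnot w hs⟩, ⟨hs.mem_open O₀.2 hwO, hnot η specializes_rfl⟩, hη, fun η' hη' e => ?_⟩
  by_contra hne
  exact hη'.2 (Set.mem_iUnion₂.2 ⟨η', ⟨hη'.1, e, hne⟩, subset_closure rfl⟩)

end Groth.Agent.EtMV
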