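import Mathlib
import Groth.Prelude.Def_EtCore
import Groth.Agent.EtMV.NormalIrr

/-! The unit of pullback on a constant sheaf along a morphism hitting the generic point. -/

universe u

open CategoryTheory CategoryTheory.Limits AlgebraicGeometry Opposite

set_option backward.isDefEq.respectTransparency false

noncomputable section

namespace Groth.Agent.EtMV

/-- Restriction of sections. -/
local notation "rs" => Groth.Agent.EtFLC.res

variable {X Y : Scheme.{u}} {M : Type} [AddCommGroup M]

theorem constAdj_unit_apply (X : Scheme.{u}) (m : M) :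
    (EtCore.constAdj X).unit.app (AddCommGrpCat.of (ULift.{u + 1} M)) ⟨m⟩ = cst (EtCoh.top X) m := by
  simp only [EtCore.constAdj, constantSheafAdj, Adjunction.comp_unit_app, constantPresheafAdj]
  rfl

/-- The unit of pullback on a constant sheaf, followed by the identification of the pullback. -/
def cUnit (f : Y ⟶ X) (M : Type) [AddCommGroup M] :
    EtCoh.const X M ⟶ (EtCoh.push f).obj (EtCoh.const Y M) :=
  (EtCoh.pullPushAdj f).unit.app (EtCoh.const X M) ≫ (EtCoh.push f).map (EtCore.pullConst f M).hom

theorem cUnit_cst_top (f : Y ⟶ X) (m : M) :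
    (cUnit f M).hom.app (op (EtCoh.top X)) (cst (EtCoh.top X) m) = cst ((EtCoh.bc f).obj (EtCoh.top X)) m := by
  let A₀ := AddCommGrpCat.of (ULift.{u + 1} M)
  let A := ((EtCore.constAdj X).comp (EtCoh.pullPushAdj f)).ofNatIsoRight (EtCore.pushGsecIso f)
  let B := EtCore.constAdj Y
  have h : A.unit.app A₀ ≫ (EtCore.gsec Y).map ((EtCore.pullConstIso f).hom.app A₀) = B.unit.app A₀ := by
    rw [EtCore.pullConstIso, ← Adjunction.unit_leftAdjointUniq_hom_app A B A₀]
  have hA : A.unit.app A₀ = (EtCore.constAdj X).unit.app A₀ ≫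
      (EtCore.gsec X).map ((EtCoh.pullPushAdj f).unit.app _) ≫ (EtCore.pushGsecIso f).hom.app _ := by
    have h1 := Adjunction.homEquiv_ofNatIsoRight_apply
      ((EtCore.constAdj X).comp (EtCoh.pullPushAdj f)) (EtCore.pushGsecIso f)
      (𝟙 ((constantSheaf X.smallEtaleTopology AddCommGrpCat.{u + 1} ⋙ EtCoh.pull f).obj A₀))
    rw [Adjunction.homEquiv_id, Adjunction.homEquiv_id] at h1
    rw [show A.unit.app A₀ = _ from h1, Adjunction.comp_unit_app, Category.assoc]
    rfl
  rw [hA, Category.assoc, Category.assoc] at h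
  have h' : rs (EtCoh.const Y M) (EtCore.bcTopIso f).inv
      ((cUnit f M).hom.app (op (EtCoh.top X)) (cst (EtCoh.top X) m)) = cst (EtCoh.top Y) m := by
    rw [← constAdj_unit_apply X, ← constAdj_unit_apply Y]
    have h0 := ConcreteCategory.congr_hom h (⟨m⟩ : ULift.{u + 1} M)
    simp only [ConcreteCategory.comp_apply] at h0
    refine Eq.trans ?_ h0
    exact (EtFLC.app_res ((EtCore.pullConstIso f).hom.app A₀) (EtCore.bcTopIso f).inv
      (((EtCoh.pullPushAdj f).unit.app ((constantSheaf X.smallEtaleTopology AddCommGrpCat.{u + 1}).obj A₀)).hom.app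
        (op (EtCoh.top X)) ((EtCore.constAdj X).unit.app A₀ ⟨m⟩))).symm
  have h'' := congrArg (rs (EtCoh.const Y M) (EtCore.bcTopIso f).hom) h'
  rw [EtFLC.res_res, Iso.hom_inv_id, EtFLC.res_id, res_cst] at h''
  exact h''

theorem cUnit_cst (f : Y ⟶ X) (W : X.Etale) (m : M) :
    (cUnit f M).hom.app (op W) (cst W m) = cst ((EtCoh.bc f).obj W) m := by
  rw [← res_cst ((EtCore.topIsTerminal X).from W) m, EtFLC.app_res]
  erw [cUnit_cst_top f m]
  exact res_cst ((EtCoh.bc f).map ((EtCore.topIsTerminal X).from W)) m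

variable [IsIntegral X] [IsIntegral Y]

theorem valAt_cUnit (f : Y ⟶ X) [Mono f] {W : X.Etale}
    (s : EtCoh.sect (EtCoh.const X M) W) (η' : (pullback W.hom f : Scheme.{u}))
    (hη' : pullback.snd W.hom f η' = genericPoint Y) :
    valAt (W := (EtCoh.bc f).obj W) ((cUnit f M).hom.app (op W) s) η' = valAt s (pullback.fst W.hom f η') := by
  obtain ⟨Z, h, z, m, hz, e⟩ := exists_cst s (pullback.fst W.hom f η')
  rw [← hz, valAt_eq z e]
  have hzX : Z.hom z = f (genericPoint Y) := by
    rw [← MorphismProperty.Over.w h]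
    show W.hom (h.left z) = _
    rw [hz, ← hη', ← Scheme.Hom.comp_apply, ← Scheme.Hom.comp_apply, pullback.condition]
    rfl
  obtain ⟨z', hz', -⟩ := Scheme.Pullback.exists_preimage_pullback z (genericPoint Y) hzX
  let bh := (EtCoh.bc f).map h
  have he : rs (EtCoh.const Y M) bh ((cUnit f M).hom.app (op W) s) = cst ((EtCoh.bc f).obj Z) m := by
    refine (EtFLC.app_res (cUnit f M) h s).symm.trans ?_
    rw [e]
    exact cUnit_cst f Z m
  have hp : bh.left z' = η' := by
    haveI : Mono (pullback.fst W.hom f) := inferInstance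
    refine (pullback.fst W.hom f).injective ?_
    show (bh.left ≫ pullback.fst W.hom f) z' = _
    rw [show bh.left ≫ pullback.fst W.hom f = pullback.fst Z.hom f ≫ h.left from pullback.lift_fst _ _ _,
      Scheme.Hom.comp_apply]
    exact (congrArg h.left hz').trans hz
  have := valAt_eq z' he
  rwa [hp] at this

theorem cUnit_bijective (hI : IrrNhd X) (f : Y ⟶ X) [Mono f] (hf : f (genericPoint Y) = genericPoint X)
    (W : X.Etale) : Function.Bijective ((cUnit f M).hom.app (op W)) := by
  classical
  have hex : ∀ η, W.hom η = genericPoint X →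
      ∃ η' : (pullback W.hom f : Scheme.{u}), pullback.fst W.hom f η' = η ∧ pullback.snd W.hom f η' = genericPoint Y :=
    fun η hη => Scheme.Pullback.exists_preimage_pullback η (genericPoint Y) (hη.trans hf.symm)
  refine ⟨fun s t h => ext_valAt fun η hη => ?_, fun s => ?_⟩
  · obtain ⟨η', h1, h2⟩ := hex η hη
    rw [← h1, ← valAt_cUnit f s η' h2, ← valAt_cUnit f t η' h2, h]
  · obtain ⟨t, ht⟩ := exists_of_valAt hI W fun η =>
      if h : W.hom η = genericPoint X then valAt (W := (EtCoh.bc f).obj W) s (hex η h).choose else 0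
    refine ⟨t, ext_valAt fun η' hη' => ?_⟩
    have hη : W.hom (pullback.fst W.hom f η') = genericPoint X := by
      rw [← Scheme.Hom.comp_apply, pullback.condition, Scheme.Hom.comp_apply,
        show pullback.snd W.hom f η' = genericPoint Y from hη']
      exact hf
    refine (valAt_cUnit f t η' hη').trans ((ht _ hη).trans ((dif_pos hη).trans ?_))
    exact congrArg (valAt (W := (EtCoh.bc f).obj W) s)
      ((pullback.fst W.hom f).injective (hex _ hη).choose_spec.1)

theorem isIso_unit_const (hI : IrrNhd X) (f : Y ⟶ X) [Mono f] (hf : f (genericPoint Y) = genericPoint X) :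
    IsIso ((EtCoh.pullPushAdj f).unit.app (EtCoh.const X M)) := by
  haveI : IsIso ((sheafToPresheaf _ _).map (cUnit f M)) := by
    rw [NatTrans.isIso_iff_isIso_app]
    rintro ⟨W⟩
    exact (ConcreteCategory.isIso_iff_bijective _).2 (cUnit_bijective hI f hf W)
  haveI : IsIso (cUnit f M) := isIso_of_reflects_iso _ (sheafToPresheaf _ _)
  rw [show (EtCoh.pullPushAdj f).unit.app (EtCoh.const X M) =
      cUnit f M ≫ (EtCoh.push f).map (EtCore.pullConst f M).inv by
    rw [cUnit, Category.assoc, ← Functor.map_comp, Iso.hom_inv_id]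
    erw [CategoryTheory.Functor.map_id, Category.comp_id]]
  infer_instance

end Groth.Agent.EtMV
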