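import Mathlib
import Groth.Prelude.Def_SiteColimFix

/-!
Left Kan extension along a flat functor from a small category to a large category with small homs is left exact
for presheaves of abelian groups one universe up (variant of `AnLib.FlatLan`).
-/

set_option autoImplicit false
set_option backward.isDefEq.respectTransparency false
set_option backward.defeqAttrib.useBackward true

universe u

open CategoryTheory Limits Opposite

namespace Groth.Agent.EtMV.FlatLanSmall

noncomputable section

/-- Enlarge the hom universe. -/
def liftEquiv (J : Type u) [Category.{u} J] : J ≌ AsSmall.{u + 1} J := AsSmall.equiv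

instance hasColimitsOfShape_large {J : Type u} [Category.{u} J] :
    HasColimitsOfShape J AddCommGrpCat.{u + 1} :=
  hasColimitsOfShape_of_equivalence (liftEquiv J).symm

lemma colim_preservesFiniteLimits (J : Type u) [Category.{u} J] [IsFiltered J] :
    PreservesFiniteLimits (colim : (J ⥤ AddCommGrpCat.{u + 1}) ⥤ AddCommGrpCat.{u + 1}) := by
  let e := liftEquiv J
  have : IsFiltered (AsSmall.{u + 1} J) := IsFiltered.of_equivalence e
  have : PreservesFiniteLimits ((Functor.whiskeringLeft _ _ AddCommGrpCat.{u + 1}).obj e.inverse ⋙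
      (colim : (AsSmall.{u + 1} J ⥤ AddCommGrpCat.{u + 1}) ⥤ _)) :=
    comp_preservesFiniteLimits _ _
  exact preservesFiniteLimits_of_natIso (Functor.Final.colimIso (E := AddCommGrpCat.{u + 1}) e.inverse)

variable {C : Type u} [Category.{u} C] {D : Type (u + 1)} [Category.{u} D]

/-- Abelian groups one universe up. -/
abbrev Ab' : Type (u + 2) := AddCommGrpCat.{u + 1}

instance hasLeftKanExtension_large (F : C ⥤ D) (G : Cᵒᵖ ⥤ Ab'.{u}) : F.op.HasLeftKanExtension G :=
  inferInstance

/-- Pointwise description of `lan`. -/
def lanEvalIso (F : C ⥤ D) (X : D) :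
    (F.lan : (C ⥤ Ab'.{u}) ⥤ _) ⋙ (evaluation D Ab'.{u}).obj X ≅
      (Functor.whiskeringLeft _ _ Ab'.{u}).obj (CostructuredArrow.proj F X) ⋙ colim :=
  NatIso.ofComponents (fun G =>
    IsColimit.coconePointUniqueUpToIso
    (Functor.isPointwiseLeftKanExtensionLeftKanExtensionUnit F G X)
    (colimit.isColimit _)) (fun {G₁ G₂} φ => by
      apply (Functor.isPointwiseLeftKanExtensionLeftKanExtensionUnit F G₁ X).hom_ext
      intro T
      have h₁ := fun (G : C ⥤ Ab'.{u}) => IsColimit.comp_coconePointUniqueUpToIso_hom
        (Functor.isPointwiseLeftKanExtensionLeftKanExtensionUnit F G X) (colimit.isColimit _) T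
      have h₂ := congr_app (F.lanUnit.naturality φ) T.left
      dsimp at h₁ h₂ ⊢
      simp only [Category.assoc] at h₁ ⊢
      simp only [Functor.lan, Functor.lanUnit] at h₂ ⊢
      rw [reassoc_of% h₁, NatTrans.naturality_assoc, ← reassoc_of% h₂, h₁,
        ι_colimMap, Functor.whiskerLeft_app]
      rfl)

/-- `lan` along a flat functor is left exact. -/
theorem lan_preservesFiniteLimits (F : C ⥤ D) [RepresentablyFlat F] :
    PreservesFiniteLimits (F.op.lan : (Cᵒᵖ ⥤ Ab'.{u}) ⥤ Dᵒᵖ ⥤ Ab'.{u}) := by
  refine ⟨fun J _ _ => ?_⟩
  apply preservesLimitsOfShape_of_evaluation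
  intro K
  have : IsFiltered (CostructuredArrow F.op K) :=
    IsFiltered.of_equivalence (structuredArrowOpEquivalence F (unop K))
  have := colim_preservesFiniteLimits (CostructuredArrow F.op K)
  exact preservesLimitsOfShape_of_natIso (lanEvalIso F.op K).symm

/-- The sheaf pullback along a flat continuous functor is left exact. -/
theorem sheafPullback_preservesFiniteLimits (F : C ⥤ D) [RepresentablyFlat F]
    (J : GrothendieckTopology C) (K : GrothendieckTopology D) [F.IsContinuous J K]
    [HasSheafify K Ab'.{u}] [HasSheafify J Ab'.{u}] :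
    PreservesFiniteLimits (F.sheafPullback Ab'.{u} J K) := by
  have := lan_preservesFiniteLimits F
  exact Functor.sheafPullbackConstruction.preservesFiniteLimits F Ab'.{u} J K

end

end Groth.Agent.EtMV.FlatLanSmall
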