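import Mathlib
import Groth.Prelude.Def_EtBase
import Groth.Agent.RatMap.Spread
import Groth.Agent.S5062
import Groth.Agent.EtMV.Free

/-! Étale morphisms onto schemes with strictly henselian local rings have sections Zariski locally. -/

universe u

open CategoryTheory CategoryTheory.Limits AlgebraicGeometry Opposite

set_option backward.isDefEq.respectTransparency false

noncomputable section

namespace Groth.Agent.EtMV

variable {S : Scheme.{u}}

theorem exists_open_section {s : S} (hs : EtCoh.IsStrictlyHenselianLocalRing (S.presheaf.stalk s))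
    (W : S.Etale) (w : W.left) (hw : W.hom w = s) :
    ∃ O : S.Opens, s ∈ O ∧ Nonempty (oo O ⟶ W) := by
  obtain ⟨hh, hsep⟩ := hs
  haveI := hh
  haveI := hsep
  haveI : Etale W.hom := W.prop
  obtain ⟨p, hp1, hp2⟩ := Scheme.Pullback.exists_preimage_pullback (f := W.hom) (g := S.fromSpecStalk s) w
    (IsLocalRing.closedPoint (S.presheaf.stalk s)) (hw.trans Scheme.fromSpecStalk_closedPoint.symm)
  obtain ⟨u, hu, -⟩ := (Groth.Agent.S5062.result (S.presheaf.stalk s)).1 ⟨hh, hsep⟩
    (pullback W.hom (S.fromSpecStalk s)) (pullback.snd W.hom (S.fromSpecStalk s))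
    (MorphismProperty.pullback_snd (P := @Etale) _ _ inferInstance) p hp2
  obtain ⟨O, hO, f, -, hf⟩ := Groth.Agent.RatMap.spread_out_of_locallyOfFinitePresentation (𝟙 S) W.hom
    (u ≫ pullback.fst W.hom (S.fromSpecStalk s)) (x := s) (by
      rw [Category.assoc, pullback.condition, ← Category.assoc, hu]; exact (Category.id_comp _).trans (Category.comp_id _).symm)
  exact ⟨O, hO, ⟨MorphismProperty.Over.homMk f (hf.trans (Category.comp_id _))⟩⟩

theorem exists_local_lift (hS : ∀ s : S, EtCoh.IsStrictlyHenselianLocalRing (S.presheaf.stalk s))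
    {F G : EtCoh.Ab S} (a : F ⟶ G) [Epi a] (V : S.Opens) (t : EtCoh.sect G (oo V)) (x : S) (hx : x ∈ V) :
    ∃ (O : S.Opens) (h : O ≤ V), x ∈ O ∧ ∃ y : EtCoh.sect F (oo O), a.hom.app _ y = G.obj.map (res h).op t := by
  have hls : Presheaf.IsLocallySurjective S.smallEtaleTopology a.hom :=
    (Sheaf.isLocallySurjective_iff_epi' AddCommGrpCat.{u + 1} a).2 inferInstance
  obtain ⟨W, g, ⟨y, hy⟩, w, hw⟩ := Groth.Agent.EtInvariance.SchemePush.surjective_of_mem
    (hls.imageSieve_mem t) (⟨x, hx⟩ : V)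
  have hwx : W.hom w = x := by
    rw [← MorphismProperty.Over.w g, Scheme.Hom.comp_apply]
    exact congrArg V.ι hw
  obtain ⟨O, hO, ⟨b⟩⟩ := exists_open_section (hS x) W w hwx
  refine ⟨O ⊓ V, inf_le_right, ⟨hO, hx⟩, F.obj.map (res (inf_le_left : O ⊓ V ≤ O) ≫ b).op y, ?_⟩
  rw [NatTrans.naturality_apply, hy, ← ConcreteCategory.comp_apply, ← G.obj.map_comp, ← op_comp,
    hom_oo_ext ((res (inf_le_left : O ⊓ V ≤ O) ≫ b) ≫ g) (res inf_le_right)]

end Groth.Agent.EtMV
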