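import Mathlib
import Groth.Prelude.Def_EtZar
import Groth.Agent.EtMV.FlatLanSmall
import Groth.Agent.EtMV.AdjExt
import Groth.Agent.EtMV.Etale
import Groth.Agent.EtMV.StrictSect

/-! Étale versus Zariski cohomology on schemes with strictly henselian local rings. -/

universe u

open CategoryTheory CategoryTheory.Limits CategoryTheory.Abelian AlgebraicGeometry Opposite TopologicalSpace

set_option backward.isDefEq.respectTransparency false

noncomputable section

namespace Groth.Agent.EtMV

set_option linter.auxLemma false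
attribute [local instance 100000] EtCoh.H._proof_1 hext
attribute [local instance 200000] hextAb

theorem isZero_rightDerived_of_preservesEpi {A : Type*} [Category A] [Abelian A] [EnoughInjectives A]
    {B : Type*} [Category B] [Abelian B] (R : A ⥤ B) [R.Additive] [PreservesFiniteLimits R]
    [R.PreservesEpimorphisms] (q : ℕ) : ∀ F : A, IsZero ((R.rightDerived (q + 1)).obj F) := by
  induction q with
  | zero =>
    intro F
    have hS := injSeq_shortExact F
    haveI := hS.epi_g
    have he := (Groth.Agent.RDerLib.derivedLES R).exact₁ (injSeq F) hS 0 1 rfl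
    have h2 := (Groth.Agent.RDerLib.derivedLES R).comp_δ (injSeq F) hS 0 1 rfl
    haveI : Epi ((R.rightDerived 0).map (injSeq F).g) := by
      have : Epi (R.map (injSeq F).g) := inferInstance
      rw [show (R.rightDerived 0).map (injSeq F).g = R.rightDerivedZeroIsoSelf.hom.app _ ≫
        R.map (injSeq F).g ≫ R.rightDerivedZeroIsoSelf.inv.app _ by
          rw [← NatTrans.naturality_assoc, Iso.hom_inv_id_app, Category.comp_id]]
      infer_instance
    exact he.isZero_X₂ (zero_of_epi_comp ((R.rightDerived 0).map (injSeq F).g) h2)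
      ((R.isZero_rightDerived_obj_injective_succ 0 (injSeq F).X₂).eq_of_tgt _ _)
  | succ q ih =>
    intro F
    have hS := injSeq_shortExact F
    have he := (Groth.Agent.RDerLib.derivedLES R).exact₁ (injSeq F) hS (q + 1) (q + 1 + 1) rfl
    exact he.isZero_X₂ ((ih _).eq_of_src _ _)
      ((R.isZero_rightDerived_obj_injective_succ (q + 1) (injSeq F).X₂).eq_of_tgt _ _)

variable (S : Scheme.{u})

theorem zarToEt_flat : RepresentablyFlat (EtZar.zarToEt S) := by
  refine ⟨fun V => ?_⟩
  haveI : Nonempty (StructuredArrow V (EtZar.zarToEt S)) := by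
    obtain ⟨a⟩ := exists_lift (U := (⊤ : S.Opens)) (T := V) (fun _ _ => trivial)
    exact ⟨StructuredArrow.mk (Y := (⊤ : S.Opens)) a⟩
  haveI : IsCofilteredOrEmpty (StructuredArrow V (EtZar.zarToEt S)) := by
    refine ⟨fun A B => ?_, fun A B f g => ?_⟩
    · obtain ⟨a⟩ := exists_lift (U := A.right ⊓ B.right) (T := V)
        (Set.subset_inter (range_subset (U := A.right) A.hom) (range_subset (U := B.right) B.hom))
      exact ⟨StructuredArrow.mk (Y := A.right ⊓ B.right) a,
        StructuredArrow.homMk (homOfLE inf_le_left) (hom_oo_ext _ _),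
        StructuredArrow.homMk (homOfLE inf_le_right) (hom_oo_ext _ _), trivial⟩
    · exact ⟨A, 𝟙 A, by congr 1; exact StructuredArrow.hom_ext _ _ (Subsingleton.elim _ _)⟩
  exact ⟨⟩

variable [EtZar.ZarCont S]

/-- Inverse image from the Zariski to the étale site. -/
abbrev zPull : EtZar.Ab S ⥤ EtCoh.Ab S :=
  (EtZar.zarToEt S).sheafPullback AddCommGrpCat.{u + 1} (Opens.grothendieckTopology S) S.smallEtaleTopology

/-- Its adjunction with restriction. -/
def zAdj : zPull S ⊣ EtZar.resZar S :=
  (EtZar.zarToEt S).sheafAdjunctionContinuous AddCommGrpCat.{u + 1} (Opens.grothendieckTopology S)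
    S.smallEtaleTopology

theorem zPull_preservesFiniteLimits : PreservesFiniteLimits (zPull S) := by
  haveI := zarToEt_flat S
  exact FlatLanSmall.sheafPullback_preservesFiniteLimits _ _ _

instance : (EtZar.resZar S).IsRightAdjoint := (zAdj S).isRightAdjoint

instance : (zPull S).IsLeftAdjoint := (zAdj S).isLeftAdjoint

instance : PreservesFiniteColimits (zPull S) := inferInstance

instance : (zPull S).Additive :=
  haveI : PreservesFiniteCoproducts (zPull S) := inferInstance
  haveI : PreservesBinaryBiproducts (zPull S) := preservesBinaryBiproducts_of_preservesBinaryCoproducts _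
  Functor.additive_of_preservesBinaryBiproducts _

instance : (EtZar.resZar S).Additive := (zAdj S).right_adjoint_additive

theorem resZar_preservesEpi (hS : ∀ s : S, EtCoh.IsStrictlyHenselianLocalRing (S.presheaf.stalk s)) :
    (EtZar.resZar S).PreservesEpimorphisms := by
  refine ⟨fun {F G} a ha => ?_⟩
  haveI : Sheaf.IsLocallySurjective ((EtZar.resZar S).map a) := ⟨fun {V} t x hx => by
    obtain ⟨O, h, hxO, y, hy⟩ := exists_local_lift hS a V t x hx
    exact ⟨O, homOfLE h, ⟨y, hy⟩, hxO⟩⟩
  exact Sheaf.epi_of_isLocallySurjective _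

theorem resZar_preservesInjective : (EtZar.resZar S).PreservesInjectiveObjects := by
  haveI := zPull_preservesFiniteLimits S
  haveI : (zPull S).PreservesMonomorphisms := inferInstance
  exact ⟨fun {I} hI => Injective.injective_of_adjoint (zAdj S) I⟩

theorem resZar_acyclic (hS : ∀ s : S, EtCoh.IsStrictlyHenselianLocalRing (S.presheaf.stalk s))
    (F : EtCoh.Ab S) (q : ℕ) : IsZero (((EtZar.resZar S).rightDerived (q + 1)).obj F) := by
  haveI := resZar_preservesEpi S hS
  haveI : PreservesFiniteLimits (EtZar.resZar S) := inferInstance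
  exact isZero_rightDerived_of_preservesEpi (EtZar.resZar S) q F

/-- The constant Zariski sheaf `ℤ`. -/
abbrev zc : EtZar.Ab S :=
  (constantSheaf (Opens.grothendieckTopology S) AddCommGrpCat.{u + 1}).obj (AddCommGrpCat.of (ULift.{u + 1} ℤ))

/-- The Zariski top is sent to the étale top. -/
def topIso : oo (⊤ : S.Opens) ≅ EtCoh.top S where
  hom := toTop _
  inv := Classical.choice (exists_lift (U := (⊤ : S.Opens)) (T := EtCoh.top S) (fun _ _ => trivial))
  hom_inv_id := hom_oo_ext _ _
  inv_hom_id := hom_top_ext _ _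

/-- Sections over `⊤` of a restriction are global sections. -/
def secTopIso : EtZar.resZar S ⋙ (sheafSections _ _).obj (op (⊤ : S.Opens)) ≅ EtCore.gsec S :=
  NatIso.ofComponents (fun F => F.obj.mapIso (topIso S).op.symm) (fun {F G} a => (a.hom.naturality _).symm)

/-- `zPull ℤ = ℤ`. -/
def zConstIso : constantSheaf (Opens.grothendieckTopology S) AddCommGrpCat.{u + 1} ⋙ zPull S ≅
    constantSheaf S.smallEtaleTopology AddCommGrpCat.{u + 1} :=
  Adjunction.leftAdjointUniq
    (((constantSheafAdj (Opens.grothendieckTopology S) AddCommGrpCat.{u + 1} isTerminalTop).comp (zAdj S)).ofNatIsoRight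
      (secTopIso S))
    (EtCore.constAdj S)

/-- The comparison of constant sheaves. -/
def zcMap : EtCoh.const S ℤ ⟶ (zPull S).obj (zc S) :=
  (zConstIso S).inv.app (AddCommGrpCat.of (ULift.{u + 1} ℤ))

theorem isIso_zcMap : IsIso (zcMap S) :=
  inferInstanceAs (IsIso ((zConstIso S).inv.app _))

theorem Ext_resZar_bijective (hS : ∀ s : S, EtCoh.IsStrictlyHenselianLocalRing (S.presheaf.stalk s))
    {P : EtZar.Ab S} {Q : EtCoh.Ab S} (c : Q ⟶ (zPull S).obj P) [IsIso c] (F : EtCoh.Ab S) (n : ℕ) :
    haveI := zPull_preservesFiniteLimits S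
    haveI : (zPull S).IsLeftAdjoint := (zAdj S).isLeftAdjoint
    haveI : (zPull S).Additive := (zAdj S).left_adjoint_additive
    Function.Bijective (U (zAdj S) c F n) := by
  haveI := zPull_preservesFiniteLimits S
  haveI := resZar_preservesInjective S
  exact U_bijective _ _ n F (fun q => resZar_acyclic S hS F q)

/-- `Ext` out of the constant Zariski sheaf is Zariski cohomology. -/
def toHZ (G : EtZar.Ab S) (n : ℕ) : Ext (zc S) G n ≃+ EtZar.H G n :=
  AddEquiv.refl _

theorem nonempty_H_addEquiv (hS : ∀ s : S, EtCoh.IsStrictlyHenselianLocalRing (S.presheaf.stalk s))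
    (F : EtCoh.Ab S) (n : ℕ) : Nonempty (EtCoh.H S F n ≃+ EtZar.H ((EtZar.resZar S).obj F) n) := by
  haveI := zPull_preservesFiniteLimits S
  haveI : (zPull S).IsLeftAdjoint := (zAdj S).isLeftAdjoint
  haveI : (zPull S).Additive := (zAdj S).left_adjoint_additive
  haveI := isIso_zcMap S
  exact ⟨(toH S F n).symm.trans ((AddEquiv.ofBijective _ (Ext_resZar_bijective S hS (zcMap S) F n)).symm.trans
    (toHZ S _ n))⟩

end Groth.Agent.EtMV
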