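import Mathlib
import Groth.Agent.EtMV.ZarCompare
import Groth.Agent.EtMV.Flasque
import Groth.Agent.EtMV.Abs

/-! Zariski acyclicity of étale sheaves acyclic on affine étale schemes. -/

universe u

open CategoryTheory CategoryTheory.Limits CategoryTheory.Abelian AlgebraicGeometry Opposite TopologicalSpace

set_option backward.isDefEq.respectTransparency false

noncomputable section

namespace Groth.Agent.EtMV

set_option linter.auxLemma false
attribute [local instance 100000] EtCoh.H._proof_1 hext
attribute [local instance 200000] hextAb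

variable {S : Scheme.{u}}

/-- Vanishing of higher cohomology on affine étale schemes. -/
def AffAcyc (G : EtCoh.Ab S) : Prop :=
  ∀ (W : S.Etale), IsAffine W.left → ∀ q : ℕ, 0 < q → Subsingleton (Ext ((P S).obj W) G q)

theorem affAcyc_X₃ {F : EtCoh.Ab S} (hF : AffAcyc F) : AffAcyc (injSeq F).X₃ := fun W hW q hq => by
  obtain ⟨n, rfl⟩ := Nat.exists_eq_succ_of_ne_zero hq.ne'
  refine subsingleton_of_forall_eq 0 fun x => ?_
  obtain ⟨y, rfl⟩ := Ext.covariant_sequence_exact₃ ((P S).obj W) (injSeq_shortExact F) x rfl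
    ((hF W hW (n + 1 + 1) (Nat.succ_pos _)).elim _ _)
  rw [Ext.eq_zero_of_injective y, Ext.zero_comp]

variable [EtZar.ZarCont S]

theorem epi_resZar_g {F : EtCoh.Ab S} (hF : AffAcyc F) : Epi ((EtZar.resZar S).map (injSeq F).g) := by
  haveI : Sheaf.IsLocallySurjective ((EtZar.resZar S).map (injSeq F).g) := ⟨fun {V} t x hx => by
    obtain ⟨O, hO, hxO, hOV⟩ := exists_isAffineOpen_mem_and_subset (X := S) (x := x) (U := V) hx
    have hle : O ≤ V := hOV
    obtain ⟨y, hy⟩ := surjective_g (injSeq_shortExact F) (oo O) (hF (oo O) hO 1 one_pos)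
      ((injSeq F).X₃.obj.map (res hle).op t)
    exact ⟨O, homOfLE hle, ⟨y, hy⟩, hxO⟩⟩
  exact Sheaf.epi_of_isLocallySurjective _

theorem isZero_rightDerived_resZar (q : ℕ) : ∀ (F : EtCoh.Ab S), AffAcyc F →
    IsZero (((EtZar.resZar S).rightDerived (q + 1)).obj F) := by
  haveI : PreservesFiniteLimits (EtZar.resZar S) := inferInstance
  let R := EtZar.resZar S
  induction q with
  | zero =>
    intro F hF
    have hS := injSeq_shortExact F
    have he := (Groth.Agent.RDerLib.derivedLES R).exact₁ (injSeq F) hS 0 1 rfl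
    have h2 := (Groth.Agent.RDerLib.derivedLES R).comp_δ (injSeq F) hS 0 1 rfl
    haveI := epi_resZar_g hF
    haveI : Epi ((R.rightDerived 0).map (injSeq F).g) := by
      rw [show (R.rightDerived 0).map (injSeq F).g = R.rightDerivedZeroIsoSelf.hom.app _ ≫
        R.map (injSeq F).g ≫ R.rightDerivedZeroIsoSelf.inv.app _ by
          rw [← NatTrans.naturality_assoc, Iso.hom_inv_id_app, Category.comp_id]]
      infer_instance
    exact he.isZero_X₂ (zero_of_epi_comp ((R.rightDerived 0).map (injSeq F).g) h2)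
      ((R.isZero_rightDerived_obj_injective_succ 0 (injSeq F).X₂).eq_of_tgt _ _)
  | succ q ih =>
    intro F hF
    have hS := injSeq_shortExact F
    have he := (Groth.Agent.RDerLib.derivedLES R).exact₁ (injSeq F) hS (q + 1) (q + 1 + 1) rfl
    exact he.isZero_X₂ ((ih _ (affAcyc_X₃ hF)).eq_of_src _ _)
      ((R.isZero_rightDerived_obj_injective_succ (q + 1) (injSeq F).X₂).eq_of_tgt _ _)

theorem Ext_resZar_bijective_of_affAcyc {P : EtZar.Ab S} {Q : EtCoh.Ab S} (c : Q ⟶ (zPull S).obj P) [IsIso c]
    (F : EtCoh.Ab S) (hF : AffAcyc F) (n : ℕ) :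
    haveI := zPull_preservesFiniteLimits S
    Function.Bijective (U (zAdj S) c F n) := by
  haveI := zPull_preservesFiniteLimits S
  haveI := resZar_preservesInjective S
  exact U_bijective _ _ n F (fun q => isZero_rightDerived_resZar q F hF)

omit [EtZar.ZarCont S] in
theorem subsingleton_Ext_const {F : EtCoh.Ab S} (n : ℕ) (h : Subsingleton (Ext ((P S).obj (EtCoh.top S)) F n)) :
    Subsingleton (Ext (EtCoh.const S ℤ) F n) :=
  (preIso (θ S) F n).symm.toEquiv.subsingleton_congr.2 h

theorem subsingleton_HZar [IsAffine S] {G : EtCoh.Ab S}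
    (hG : ∀ (T : S.Etale), IsAffine T.left → ∀ i : ℕ, 1 ≤ i →
      Subsingleton (EtCoh.H T.left ((EtCoh.pull T.hom).obj G) i)) (i : ℕ) (hi : 1 ≤ i) :
    Subsingleton (EtZar.H ((EtZar.resZar S).obj G) i) := by
  have hA : AffAcyc G := fun W hW q hq => (subsingleton_H_iff W G q).1 (hG W hW q hq)
  haveI := zPull_preservesFiniteLimits S
  haveI := isIso_zcMap S
  have h := subsingleton_Ext_const i (hA (EtCoh.top S) ‹IsAffine S› i hi)
  exact (toHZ S _ i).symm.toEquiv.subsingleton_congr.2
    ((AddEquiv.ofBijective _ (Ext_resZar_bijective_of_affAcyc (zcMap S) G hA i)).toEquiv.subsingleton_congr.2 h)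

end Groth.Agent.EtMV
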