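import Mathlib
import Groth.Agent.Hensel.Ops
import Groth.Agent.EtIntegral.Push
import Groth.Agent.EtMV.Etale
import Groth.Agent.EtMV.StrictSect

/-! Affine schemes of dimension zero with separably closed residue fields. -/

universe u

open CategoryTheory CategoryTheory.Limits CategoryTheory.Abelian AlgebraicGeometry Opposite TopologicalSpace

set_option backward.isDefEq.respectTransparency false

noncomputable section

namespace Groth.Agent.EtMV

set_option linter.auxLemma false
attribute [local instance 100000] EtCoh.H._proof_1 hext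
attribute [local instance 200000] hextAb

variable {S : Scheme.{u}}

theorem strictlyHenselian_of_isClosed (h1 : ∀ s : S, IsClosed ({s} : Set S))
    (h2 : ∀ s : S, IsSepClosed (S.residueField s)) (s : S) :
    EtCoh.IsStrictlyHenselianLocalRing (S.presheaf.stalk s) := by
  have hsub : ∀ P : Spec (S.presheaf.stalk s), S.fromSpecStalk s P = s := fun P => by
    have h : S.fromSpecStalk s P ⤳ s := by
      have := (IsLocalRing.specializes_closedPoint P).map (S.fromSpecStalk s).continuous
      rwa [Scheme.fromSpecStalk_closedPoint] at this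
    have hm := h.mem_closed (h1 (S.fromSpecStalk s P)) rfl
    exact (Set.mem_singleton_iff.1 hm).symm
  have hP : ∀ P : Spec (S.presheaf.stalk s), P = IsLocalRing.closedPoint _ := fun P =>
    (S.fromSpecStalk s).isEmbedding.injective ((hsub P).trans Scheme.fromSpecStalk_closedPoint.symm)
  have hnil : ∀ x ∈ IsLocalRing.maximalIdeal (S.presheaf.stalk s), IsNilpotent x := fun x hx => by
    rw [← mem_nilradical, nilradical_eq_sInf, Submodule.mem_sInf]
    intro p hp
    have := congrArg PrimeSpectrum.asIdeal (hP ⟨p, hp⟩)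
    exact this.ge hx
  haveI := Groth.Agent.Hensel.henselianRing_of_nilpotent hnil
  refine ⟨?_, h2 s⟩
  exact HenselianLocalRing.mk fun f hf a₀ ha hu =>
    HenselianRing.is_henselian (I := IsLocalRing.maximalIdeal _) f hf a₀ ha (hu.map _)

theorem exists_clopen_le [IsAffine S] (h1 : ∀ s : S, IsClosed ({s} : Set S)) {O : S.Opens} {x : S} (hx : x ∈ O) :
    ∃ B : S.Opens, x ∈ B ∧ B ≤ O ∧ IsClosed (B : Set S) := by
  let φ := S.isoSpec.hom.homeomorph
  obtain ⟨f, ⟨g, rfl⟩, hf, hfx⟩ := (PrimeSpectrum.isTopologicalBasis_basic_opens).exists_subset_of_mem_open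
    (a := φ x) (show φ x ∈ φ.symm ⁻¹' (O : Set S) by simpa using hx) (O.2.preimage φ.symm.continuous)
  let B : S.Opens := ⟨φ ⁻¹' (PrimeSpectrum.basicOpen g : Set (PrimeSpectrum Γ(S, ⊤))),
    (PrimeSpectrum.basicOpen g).2.preimage φ.continuous⟩
  have hxB : x ∈ B := hf
  have hBO : B ≤ O := fun y hy => by
    have hz : φ.symm (φ y) ∈ (O : Set S) := hfx hy
    rwa [φ.symm_apply_apply] at hz
  refine ⟨B, hxB, hBO, ?_⟩
  show IsClosed (φ ⁻¹' (PrimeSpectrum.basicOpen g : Set (PrimeSpectrum Γ(S, ⊤))))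
  refine IsClosed.preimage φ.continuous ?_
  refine PrimeSpectrum.isClosed_of_stableUnderSpecialization_of_isConstructible ?_ ?_
  · intro a b hab ha
    have hc : IsClosed ({a} : Set (PrimeSpectrum Γ(S, ⊤))) := by
      have := (h1 (φ.symm a)).preimage φ.symm.continuous
      rwa [← Set.image_singleton, φ.symm.injective.preimage_image] at this
    rw [Set.mem_singleton_iff.1 (hab.mem_closed hc rfl)]
    exact ha
  · exact PrimeSpectrum.isConstructible_basicOpen

theorem surjective_top [IsAffine S] (h1 : ∀ s : S, IsClosed ({s} : Set S))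
    (hS : ∀ s : S, EtCoh.IsStrictlyHenselianLocalRing (S.presheaf.stalk s))
    {F G : EtCoh.Ab S} (a : F ⟶ G) [Epi a] :
    Function.Surjective (a.hom.app (op (EtCoh.top S))) := by
  classical
  intro t
  have hl : ∀ x : S, ∃ B : S.Opens, x ∈ B ∧ IsClosed (B : Set S) ∧
      ∃ y : EtCoh.sect F (oo B), a.hom.app _ y = G.obj.map (toTop (oo B)).op t := by
    intro x
    obtain ⟨O, h, hxO, y, hy⟩ := exists_local_lift hS a ⊤ (G.obj.map (toTop (oo (⊤ : S.Opens))).op t) x trivial
    obtain ⟨B, hxB, hBO, hB⟩ := exists_clopen_le h1 hxO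
    refine ⟨B, hxB, hB, F.obj.map (res hBO).op y, ?_⟩
    rw [NatTrans.naturality_apply, hy, ← ConcreteCategory.comp_apply, ← ConcreteCategory.comp_apply,
      ← G.obj.map_comp, ← G.obj.map_comp, ← op_comp, ← op_comp,
      hom_top_ext ((res hBO ≫ res h) ≫ toTop (oo (⊤ : S.Opens))) (toTop (oo B))]
  choose B hxB hBc y hy using hl
  obtain ⟨I, hI⟩ := isCompact_univ.elim_finite_subcover (fun x => (B x : Set S)) (fun x => (B x).2)
    (fun x _ => Set.mem_iUnion.2 ⟨x, hxB x⟩)
  let e : I ≃ Fin I.card := I.equivFin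
  let C : I → S.Opens := fun i => ⟨(B i : Set S) ∩ (⋃ j ∈ {j : I | e j < e i}, (B j : Set S))ᶜ,
    (B i).2.inter ((Set.toFinite {j : I | e j < e i}).isClosed_biUnion fun j _ => hBc j).isOpen_compl⟩
  have hC : ∀ i, C i ≤ B i := fun i p hp => hp.1
  have hd : ∀ i j : I, i ≠ j → ∀ (p : (oo (C i)).left) (q : (oo (C j)).left),
      (toTop (oo (C i))).left p ≠ (toTop (oo (C j))).left q := by
    intro i j hij p q h
    have h' : (p : (C i).toScheme).1 = (q : (C j).toScheme).1 := h
    rcases lt_trichotomy (e i) (e j) with h3 | h3 | h3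
    · exact q.2.2 (Set.mem_iUnion₂.2 ⟨i, h3, h' ▸ p.2.1⟩)
    · exact hij (e.injective h3)
    · exact p.2.2 (Set.mem_iUnion₂.2 ⟨j, h3, h'.symm ▸ q.2.1⟩)
  have hc : ∀ p : (EtCoh.top S).left, ∃ i : I, p ∈ Set.range (toTop (oo (C i))).left := by
    intro p
    have hne : (Finset.univ.filter fun i : I => (p : S) ∈ B i).Nonempty := by
      obtain ⟨x, hx, hpx⟩ := Set.mem_iUnion₂.1 (hI (Set.mem_univ (p : S)))
      exact ⟨⟨x, hx⟩, by simpa using hpx⟩
    obtain ⟨i, hi, hmin⟩ := Finset.exists_min_image _ e hne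
    refine ⟨i, ⟨p, ?_, ?_⟩, rfl⟩
    · exact (Finset.mem_filter.1 hi).2
    · simp only [Set.mem_compl_iff, Set.mem_iUnion, not_exists]
      intro j hj hpj
      exact absurd (hmin j (Finset.mem_filter.2 ⟨Finset.mem_univ _, hpj⟩)) (not_le.2 hj)
  have : ∀ i : I, Mono (toTop (oo (C i))).left := fun i => inferInstanceAs (Mono (C i).ι)
  obtain ⟨s, hs⟩ := Groth.Agent.EtIntegral.exists_amalg_disjoint F (fun i : I => oo (C i))
    (fun i => toTop (oo (C i))) hd hc (fun i => F.obj.map (res (hC i)).op (y i))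
  refine ⟨s, Groth.Agent.EtIntegral.sect_ext G (fun i : I => oo (C i)) (fun i => toTop (oo (C i))) hc _ _
    fun i => ?_⟩
  rw [← NatTrans.naturality_apply, hs, NatTrans.naturality_apply, hy, ← ConcreteCategory.comp_apply,
    ← G.obj.map_comp, ← op_comp, hom_top_ext (res (hC i) ≫ toTop (oo (B i))) (toTop (oo (C i)))]

theorem subsingleton_H_of_closedPoints [IsAffine S] (h1 : ∀ s : S, IsClosed ({s} : Set S))
    (h2 : ∀ s : S, IsSepClosed (S.residueField s)) (F : EtCoh.Ab S) (i : ℕ) (hi : 1 ≤ i) :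
    Subsingleton (EtCoh.H S F i) := by
  obtain ⟨n, rfl⟩ := Nat.exists_eq_succ_of_ne_zero (Nat.one_le_iff_ne_zero.1 hi)
  haveI : Projective (EtCoh.const S ℤ) := ⟨fun {E G} f e he => by
    obtain ⟨x, hx⟩ := surjective_top h1 (strictlyHenselian_of_isClosed h1 h2) e (κ f)
    obtain ⟨φ, hφ⟩ := (κ_bijective E).2 x
    exact ⟨φ, (κ_bijective G).1 (by rw [κ_comp, hφ, hx])⟩⟩
  exact (toH S F (n + 1)).symm.toEquiv.subsingleton_congr.2 (subsingleton_of_forall_eq 0 Ext.eq_zero_of_projective)

end Groth.Agent.EtMV
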