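import Mathlib
import Groth.Prelude.Def_EtDepth
import Groth.Agent.EtMV.LocRestr

/-! Depth along a smaller closed subset. -/

universe u

open CategoryTheory CategoryTheory.Limits AlgebraicGeometry Opposite

set_option backward.isDefEq.respectTransparency false
set_option backward.isDefEq.respectTransparency.types false

noncomputable section

namespace Groth.Agent.EtMV

variable {X U V : Scheme.{u}} (j : U ⟶ X) [IsOpenImmersion j] [EtCoh.BCCont j] (k : V ⟶ X)
  [IsOpenImmersion k] [EtCoh.BCCont k]

theorem isZero_secSupp_of_le (hUV : Set.range j.base ⊆ Set.range k.base) (G : EtCoh.Ab X)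
    (h : IsZero ((EtDual.secSupp j).obj G)) : IsZero ((EtDual.secSupp k).obj G) := by
  have hz : (lcι k).app G ≫ EtDual.unitApp j G = 0 := by
    refine (comp_unit_eq_zero_iff j _).2 fun T s => ?_
    have hk := (comp_unit_eq_zero_iff k ((lcι k).app G)).1 (kernel.condition _) T s
    let l := IsOpenImmersion.lift k j hUV
    let g : (EtShriek.compEtale j).obj ((EtCoh.bc j).obj T) ⟶ (EtShriek.compEtale k).obj ((EtCoh.bc k).obj T) :=
      MorphismProperty.Over.homMk
        (pullback.lift (pullback.fst T.hom j) (pullback.snd T.hom j ≫ l) (by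
          rw [Category.assoc, IsOpenImmersion.lift_fac, pullback.condition]))
        (by
          show pullback.lift _ _ _ ≫ pullback.snd T.hom k ≫ k = pullback.snd T.hom j ≫ j
          erw [pullback.lift_snd_assoc]
          rw [Category.assoc, IsOpenImmersion.lift_fac])
    have hg : g ≫ (EtPushStalk.compBcAdj k).counit.app T = (EtPushStalk.compBcAdj j).counit.app T := by
      apply MorphismProperty.Over.Hom.ext
      simp [g, EtPushStalk.compBcAdj, MorphismProperty.Over.mapPullbackAdj, EtShriek.compEtale]
      exact pullback.lift_fst _ _ _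
    rw [← hg, op_comp, Functor.map_comp]
    refine (ConcreteCategory.comp_apply _ _ _).trans ?_
    erw [hk]
    exact map_zero _
  obtain ⟨l, hl⟩ := kernel.lift' _ _ hz
  rw [h.eq_of_tgt l 0, zero_comp] at hl
  haveI := mono_lcι k G
  rw [IsZero.iff_id_eq_zero, ← cancel_mono ((lcι k).app G), Category.id_comp, zero_comp]
  exact hl.symm

theorem depthGE_of_le (hUV : Set.range j.base ⊆ Set.range k.base) (n : ℕ) : ∀ F : EtCoh.Ab X,
    EtDepth.DepthGE j F n → EtDepth.DepthGE k F n := by
  haveI := preservesFiniteLimits_secSupp j
  haveI := preservesFiniteLimits_secSupp k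
  induction n with
  | zero => exact fun F _ p hp => absurd hp p.not_lt_zero
  | succ n ih =>
    intro F hF p hp
    have h0 : IsZero ((EtDual.secSupp j).obj F) :=
      (hF 0 n.succ_pos).of_iso ((EtDual.secSupp j).rightDerivedZeroIsoSelf.app F).symm
    cases p with
    | zero => exact (isZero_secSupp_of_le j k hUV F h0).of_iso ((EtDual.secSupp k).rightDerivedZeroIsoSelf.app F)
    | succ p =>
      haveI : Mono (EtDual.unitApp j F) := Preadditive.mono_of_kernel_zero (h0.eq_of_src _ _)
      let J := Injective.under ((EtCoh.pull j).obj F)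
      let I := (EtCoh.push j).obj J
      haveI : Injective I := EtPullExact.push_injective j J
      have hI : IsZero ((EtDual.secSupp j).obj I) := by
        haveI : Mono (EtDual.unitApp j I) :=
          mono_of_mono_fac ((EtCoh.pullPushAdj j).right_triangle_components J)
        exact isZero_kernel_of_mono (EtDual.unitApp j I)
      let f : F ⟶ I := EtDual.unitApp j F ≫ (EtCoh.push j).map (Injective.ι _)
      let S : ShortComplex (EtCoh.Ab X) := ShortComplex.mk f (cokernel.π f) (cokernel.condition f)
      have hS : S.ShortExact :=
        { exact := ShortComplex.exact_of_g_is_cokernel _ (cokernelIsCokernel f) }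
      haveI : Injective S.X₂ := ‹Injective I›
      have hQ : EtDepth.DepthGE j S.X₃ n := fun q hq => by
        obtain ⟨e⟩ := nonempty_shift_iso (EtDual.secSupp j) S hS hI q
        exact (hF (q + 1) (by omega)).of_iso e
      obtain ⟨e⟩ := nonempty_shift_iso (EtDual.secSupp k) S hS (isZero_secSupp_of_le j k hUV I hI) p
      exact (ih S.X₃ hQ p (by omega)).of_iso e.symm

end Groth.Agent.EtMV
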