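import Mathlib
import Groth.Agent.EtMV.Tate

/-! Cohomology with supports and removal of a closed subset of large depth. -/

universe u

open CategoryTheory CategoryTheory.Limits AlgebraicGeometry Opposite

set_option backward.isDefEq.respectTransparency false
set_option backward.isDefEq.respectTransparency.types false

noncomputable section

namespace Groth.Agent.EtMV

variable {X : Scheme.{u}}

/-- Sections killed by a restriction. -/
abbrev kerRes {o o' : X.Etale} (g : o' ⟶ o) : EtCoh.Ab X ⥤ AddCommGrpCat.{u + 1} where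
  obj G := AddCommGrpCat.of (G.obj.map g.op).hom.ker
  map {G G'} f := AddCommGrpCat.ofHom (AddMonoidHom.mk'
    (fun s => (⟨f.hom.app (op o) s.1, by
      show G'.obj.map g.op (f.hom.app (op o) s.1) = 0
      rw [← NatTrans.naturality_apply f.hom g.op]
      erw [show G.obj.map g.op s.1 = 0 from s.2]
      exact map_zero _⟩ : (G'.obj.map g.op).hom.ker))
    (fun s t => Subtype.ext (map_add _ _ _)))
  map_id G := by ext s; rfl
  map_comp f h := by ext s; rfl

instance {o o' : X.Etale} (g : o' ⟶ o) : (kerRes g).Additive where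
  map_add {G G' f h} := by ext s; rfl

variable {o o' o'' : X.Etale} (g : o' ⟶ o) (g' : o'' ⟶ o')

/-- Killed by the first restriction implies killed by the composite. -/
def krι : kerRes g ⟶ kerRes (g' ≫ g) where
  app G := AddCommGrpCat.ofHom (AddMonoidHom.mk'
    (fun s => (⟨s.1, by
      show G.obj.map (g' ≫ g).op s.1 = 0
      rw [op_comp, Functor.map_comp]
      refine (ConcreteCategory.comp_apply _ _ _).trans ?_
      erw [show G.obj.map g.op s.1 = 0 from s.2]
      exact map_zero _⟩ : (G.obj.map (g' ≫ g).op).hom.ker))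
    (fun s t => rfl))
  naturality G G' f := by ext s; rfl

/-- Restriction. -/
def krπ : kerRes (g' ≫ g) ⟶ kerRes g' where
  app G := AddCommGrpCat.ofHom (AddMonoidHom.mk'
    (fun s => (⟨G.obj.map g.op s.1, by
      show G.obj.map g'.op (G.obj.map g.op s.1) = 0
      have h1 : G.obj.map (g' ≫ g).op s.1 = 0 := s.2
      exact (ConcreteCategory.congr_hom (G.obj.map_comp g.op g'.op) s.1).symm.trans h1⟩ : (G.obj.map g'.op).hom.ker))
    (fun s t => Subtype.ext (map_add _ _ _)))
  naturality G G' f := by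
    refine AddCommGrpCat.hom_ext (AddMonoidHom.ext fun s => ?_)
    exact Subtype.ext (NatTrans.naturality_apply f.hom g.op (show (G.obj.map (g' ≫ g).op).hom.ker from s).1).symm

theorem krι_krπ : krι g g' ≫ krπ g g' = 0 := by
  refine NatTrans.ext (funext fun G => AddCommGrpCat.hom_ext (AddMonoidHom.ext fun s => ?_))
  exact Subtype.ext (show (G.obj.map g.op).hom.ker from s).2

theorem shortExact_kr (hg : IsOpenImmersion g.left) (I : EtCoh.Ab X) (hI : Injective I) :
    (ShortComplex.mk ((krι g g').app I) ((krπ g g').app I)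
      (by rw [← NatTrans.comp_app, krι_krπ]; rfl)).ShortExact := by
  haveI := hI
  refine { exact := ?_, mono_f := ?_, epi_g := ?_ }
  · rw [ShortComplex.ab_exact_iff]
    intro s hs
    exact ⟨⟨s.1, congrArg Subtype.val hs⟩, rfl⟩
  · rw [AddCommGrpCat.mono_iff_injective]
    exact fun a b h => Subtype.ext (congrArg Subtype.val h :)
  · rw [AddCommGrpCat.epi_iff_surjective]
    intro t
    obtain ⟨s, hs⟩ := zflq_injective I g hg t.1
    refine ⟨⟨s, ?_⟩, Subtype.ext hs⟩
    show I.obj.map (g' ≫ g).op s = 0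
    rw [op_comp, Functor.map_comp]
    refine (ConcreteCategory.comp_apply _ _ _).trans ?_
    erw [hs]
    exact t.2

theorem unit_app_eq_zero_iff {U : Scheme.{u}} (j : U ⟶ X) [IsOpenImmersion j] [EtCoh.BCCont j]
    (G : EtCoh.Ab X) (T : X.Etale) (s : EtCoh.sect G T) :
    (EtDual.unitApp j G).hom.app (op T) s = 0 ↔
      G.obj.map ((EtPushStalk.compBcAdj j).counit.app T).op s = 0 := by
  haveI := jcont_etale j
  let A := EtPushStalk.restrPushAdj j
  let i := EtPushStalk.restrPullIso j
  have hu : (EtCoh.pullPushAdj j).unit.app G = A.unit.app G ≫ (EtCoh.push j).map (i.hom.app G) :=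
    (Adjunction.unit_leftAdjointUniq_hom_app A (EtCoh.pullPushAdj j) G).symm
  have hA : (A.unit.app G).hom.app (op T) = G.obj.map ((EtPushStalk.compBcAdj j).counit.app T).op := by
    have := congr_app (Adjunction.map_restrictFullyFaithful_unit_app
      ((EtPushStalk.compBcAdj j).op.whiskerLeft AddCommGrpCat.{u + 1})
      (fullyFaithfulSheafToPresheaf X.smallEtaleTopology AddCommGrpCat.{u + 1})
      (fullyFaithfulSheafToPresheaf _ _)
      (L := EtShriek.restrAlong j) (R := EtCoh.push j) (Iso.refl _) (Iso.refl _) G) (op T)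
    simp at this
    exact this
  rw [show EtDual.unitApp j G = _ from hu]
  show (i.hom.app G).hom.app (op ((EtCoh.bc j).obj T)) ((A.unit.app G).hom.app (op T) s) = 0 ↔ _
  rw [hA]
  exact map_eq_zero_iff _ (ConcreteCategory.bijective_of_isIso ((i.hom.app G).hom.app _)).1

/-- Global sections with supports as sections killed by a restriction. -/
theorem nonempty_gammaSupp_iso {U : Scheme.{u}} (j : U ⟶ X) [IsOpenImmersion j] [EtCoh.BCCont j]
    (o : X.Etale) (a : o ⟶ EtCoh.top X) (b : o ⟶ Scheme.Etale.mk j) (b' : Scheme.Etale.mk j ⟶ o) :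
    Nonempty (EtDual.gammaSupp j ≅ kerRes a) := by
  let P := (EtShriek.compEtale j).obj ((EtCoh.bc j).obj (EtCoh.top X))
  let c : P ⟶ EtCoh.top X := (EtPushStalk.compBcAdj j).counit.app (EtCoh.top X)
  let p : P ⟶ Scheme.Etale.mk j := MorphismProperty.Over.homMk (pullback.snd (𝟙 X) j) rfl
  let p' : Scheme.Etale.mk j ⟶ P := MorphismProperty.Over.homMk
    (pullback.lift j (𝟙 U) ((Category.comp_id _).trans (Category.id_comp _).symm)) (by
      show pullback.lift _ _ _ ≫ pullback.snd (𝟙 X) j ≫ j = j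
      erw [pullback.lift_snd_assoc]
      exact Category.id_comp _)
  have hkill (G : EtCoh.Ab X) (s : EtCoh.sect G (EtCoh.top X)) :
      G.obj.map a.op s = 0 ↔ G.obj.map c.op s = 0 := by
    have e₁ : c = (p ≫ b') ≫ a := thin_top _ _ _
    have e₂ : a = (b ≫ p') ≫ c := thin_top _ _ _
    constructor
    · intro h
      rw [e₁, op_comp, Functor.map_comp]
      refine (ConcreteCategory.comp_apply _ _ _).trans ?_
      erw [h]
      exact map_zero _
    · intro h
      rw [e₂, op_comp, Functor.map_comp]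
      refine (ConcreteCategory.comp_apply _ _ _).trans ?_
      erw [h]
      exact map_zero _
  let φ : EtDual.gammaSupp j ⟶ kerRes a :=
    { app := fun G => AddCommGrpCat.ofHom (AddMonoidHom.mk'
        (fun s => (⟨((lcι j).app G).hom.app (op (EtCoh.top X)) s,
          (hkill G _).2 ((comp_unit_eq_zero_iff j ((lcι j).app G)).1 (kernel.condition _) _ s)⟩ :
            (G.obj.map a.op).hom.ker))
        (fun s t => Subtype.ext (map_add _ _ _)))
      naturality := fun G G' f => by
        refine AddCommGrpCat.hom_ext (AddMonoidHom.ext fun s => ?_)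
        exact Subtype.ext (ConcreteCategory.congr_hom
          (congr_app (congrArg (fun z => z.hom) ((lcι j).naturality f)) (op (EtCoh.top X))) s) }
  have : ∀ G, IsIso (φ.app G) := fun G => by
    rw [ConcreteCategory.isIso_iff_bijective]
    let S : ShortComplex (EtCoh.Ab X) := ShortComplex.mk (kernel.ι (EtDual.unitApp j G)) _ (kernel.condition _)
    have hS : S.Exact := ShortComplex.exact_of_f_is_kernel _ (kernelIsKernel _)
    haveI : Mono S.f := inferInstanceAs (Mono (kernel.ι _))
    haveI : PreservesFiniteLimits (Γ₀ X) := comp_preservesFiniteLimits _ _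
    haveI : (Γ₀ X).Additive := { map_add := rfl }
    have hm : Mono ((Γ₀ X).map S.f) := inferInstance
    have he := (ShortComplex.ab_exact_iff _).1
      (hS.map_of_mono_of_preservesKernel (Γ₀ X) inferInstance inferInstance)
    refine ⟨fun x y h => (AddCommGrpCat.mono_iff_injective _).1 hm (congrArg Subtype.val h), fun t => ?_⟩
    obtain ⟨s, hs⟩ := he t.1 ((unit_app_eq_zero_iff j G _ _).2 ((hkill G _).1 t.2))
    exact ⟨s, Subtype.ext hs⟩
  exact ⟨@asIso _ _ _ _ φ (NatIso.isIso_of_isIso_app φ)⟩

theorem nonempty_restr_tate' {X' : Scheme.{u}} (e : X' ⟶ X) [Etale e] [EtShriek.JCont e] (n : ℕ) :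
    ∀ d, Nonempty ((EtShriek.restrAlong e).obj (EtDual.tate X n d) ≅ EtDual.tate X' n d) := by
  intro d
  induction d with
  | zero => exact nonempty_restr_const e (ZMod n)
  | succ d ih =>
    obtain ⟨i⟩ := ih
    obtain ⟨r⟩ := nonempty_restr_mu e n
    obtain ⟨s⟩ := nonempty_restr_sheafify e (EtDual.tensorPre (EtDual.tate X n d) (EtCoh.mu X n))
    exact ⟨s ≪≫ (presheafToSheaf _ _).mapIso
      ((show _ ≅ EtDual.tensorPre ((EtShriek.restrAlong e).obj (EtDual.tate X n d))
        ((EtShriek.restrAlong e).obj (EtCoh.mu X n)) from NatIso.ofComponents (fun T => Iso.refl _)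
          (fun {T T'} g => (Category.comp_id _).trans (Category.id_comp _).symm)) ≪≫ tensorPreIso i r)⟩

theorem nonempty_excise {X' U : Scheme.{u}} (n : ℕ) (hn : IsUnit (n : Γ(X, ⊤))) (c : ℕ) (j : U ⟶ X)
    [IsOpenImmersion j] (k' : X' ⟶ X) [IsOpenImmersion k'] (j' : U ⟶ X') [IsOpenImmersion j']
    (hfac : j' ≫ k' = j) [EtCoh.BCCont j] [EtCoh.BCCont k'] [EtCoh.BCCont j']
    (hZ : ∀ p : ℕ, p ≤ 2 * c + 1 → IsZero ((EtDual.locCoh k' p).obj (EtCoh.const X (ZMod n)))) :
    Nonempty ((EtDual.HY j (2 * c)).obj (EtDual.tate X n c) ≅ (EtDual.HY j' (2 * c)).obj (EtDual.tate X' n c)) := by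
  haveI := jcont_etale k'
  subst hfac
  let C := EtShriek.compEtale k'
  let o₁ : X.Etale := C.obj (EtCoh.top X')
  let o₂ : X.Etale := C.obj (Scheme.Etale.mk j')
  let g' : o₂ ⟶ o₁ := C.map (MorphismProperty.Over.homMk j' (by exact Category.comp_id _))
  let g : o₁ ⟶ EtCoh.top X := toTop o₁
  obtain ⟨iA⟩ := nonempty_gammaSupp_iso k' o₁ g
    (MorphismProperty.Over.homMk (𝟙 X') (by rfl)) (MorphismProperty.Over.homMk (𝟙 X') (by exact congrArg (_ ≫ ·) (Category.id_comp k')))
  obtain ⟨iB⟩ := nonempty_gammaSupp_iso (j' ≫ k') o₂ (g' ≫ g)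
    (MorphismProperty.Over.homMk (𝟙 U) (Category.id_comp _)) (MorphismProperty.Over.homMk (𝟙 U) (Category.id_comp _))
  let a' : Scheme.Etale.mk j' ⟶ EtCoh.top X' := MorphismProperty.Over.homMk j' (by exact Category.comp_id _)
  obtain ⟨iE⟩ := nonempty_gammaSupp_iso j' (Scheme.Etale.mk j') a' (𝟙 _) (𝟙 _)
  let R := EtShriek.restrAlong k'
  haveI := restrAlong_preservesFiniteLimits k'
  haveI := restrAlong_preservesFiniteColimits k'
  haveI := restrAlong_preservesInjective k'
  haveI : R.Additive := Functor.additive_of_preserves_binary_products _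
  haveI := preservesFiniteLimits_gammaSupp j'
  let iE' : R ⋙ EtDual.gammaSupp j' ≅ kerRes g' :=
    Functor.isoWhiskerLeft R iE ≪≫ (Iso.refl _ : R ⋙ kerRes a' ≅ kerRes g')
  let G := EtDual.tate X n c
  obtain ⟨δ, hδ⟩ := exists_les₁ (krι g g') (krπ g g') (krι_krπ g g')
    (shortExact_kr g g' (by
      show IsOpenImmersion g.left
      have : g.left = k' := by
        show o₁.hom = k'
        exact Category.id_comp _
      rw [this]
      infer_instance)) G
  have hA (p : ℕ) (hp : p ≤ 2 * c + 1) : IsZero (((kerRes g).rightDerived p).obj G) := by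
    obtain ⟨e⟩ := nonempty_edge k' p G (fun q hq => isZero_locCoh_tate k' n hn c q (hZ q (by omega)))
    exact (((Γ₀ X).map_isZero (isZero_locCoh_tate k' n hn c p (hZ p hp))).of_iso e).of_iso
      ((GrothSS.rightDerivedMapIso iA p).app G).symm
  obtain ⟨e₁, e₂, -⟩ := hδ (2 * c)
  let γ := (NatTrans.rightDerived (krπ g g') (2 * c)).app G
  haveI : Mono γ := (e₁.exact 0).mono_g ((hA _ (by omega)).eq_of_src _ _)
  haveI : Epi γ := (e₂.exact 0).epi_f ((hA _ le_rfl).eq_of_tgt _ _)
  haveI : IsIso γ := isIso_of_mono_of_epi _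
  obtain ⟨eR⟩ := GrothSS.nonempty_rightDerived_comp_acyclic_nat R (EtDual.gammaSupp j')
    (fun Q hQ q => by
      haveI := hQ
      haveI : Injective (R.obj Q) := R.injective_obj Q
      exact Functor.isZero_rightDerived_obj_injective_succ _ q _) (2 * c)
  obtain ⟨t⟩ := nonempty_restr_tate' k' n c
  exact ⟨(GrothSS.rightDerivedMapIso iB (2 * c)).app G ≪≫ asIso γ ≪≫
    (GrothSS.rightDerivedMapIso iE' (2 * c)).symm.app G ≪≫ eR.app G ≪≫
    (EtDual.HY j' (2 * c)).mapIso t⟩

end Groth.Agent.EtMV
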