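import Mathlib
import Groth.Prelude.Def_EtDepth
import Groth.Agent.EtMV.LocExcise
import Groth.Agent.EtMV.Base

/-! Etale depth and restriction maps on cohomology. -/

universe u

open CategoryTheory CategoryTheory.Limits CategoryTheory.Abelian AlgebraicGeometry Opposite

set_option backward.isDefEq.respectTransparency false
set_option backward.isDefEq.respectTransparency.types false

noncomputable section

namespace Groth.Agent.EtMV

set_option linter.auxLemma false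
attribute [local instance 100000] EtCoh.H._proof_1 hext
attribute [local instance 200000] hextAb

variable {X U : Scheme.{u}} (f : U ⟶ X) [PreservesFiniteLimits (EtCoh.pull f)]

/-- Restriction on `Ext` out of the constant sheaf. -/
def γH (G : EtCoh.Ab X) (n : ℕ) :
    Ext (EtCoh.const X ℤ) G n →+ Ext (EtCoh.const U ℤ) ((EtCoh.pull f).obj G) n :=
  T (EtCoh.pull f) (EtCore.pullConst f ℤ).inv G n

theorem Hpull_eq_γH (G : EtCoh.Ab X) (n : ℕ) :
    ⇑(EtCore.Hpull f G n) = ⇑(toH _ _ n) ∘ ⇑(γH f G n) ∘ ⇑(toH X G n).symm := rfl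

theorem γH_comp {G G' : EtCoh.Ab X} {a b n : ℕ} (x : Ext (EtCoh.const X ℤ) G a) (e : Ext G G' b) (h : a + b = n) :
    γH f G' n (x.comp e h) = (γH f G a x).comp (e.mapExactFunctor (EtCoh.pull f)) h :=
  T_comp _ _ x e h

theorem γH_comp_mk₀ {G G' : EtCoh.Ab X} {n : ℕ} (x : Ext (EtCoh.const X ℤ) G n) (g : G ⟶ G') :
    γH f G' n (x.comp (Ext.mk₀ g) (add_zero n)) =
      (γH f G n x).comp (Ext.mk₀ ((EtCoh.pull f).map g)) (add_zero n) :=
  T_comp_mk₀ _ _ x g

theorem γH_bijective_iff_of_iso {G G' : EtCoh.Ab X} (e : G ≅ G') (n : ℕ) :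
    (Function.Injective (γH f G n) → Function.Injective (γH f G' n)) ∧
      (Function.Surjective (γH f G n) → Function.Surjective (γH f G' n)) := by
  constructor
  · intro h x y hxy
    have hx : γH f G n (x.comp (Ext.mk₀ e.inv) (add_zero n)) = γH f G n (y.comp (Ext.mk₀ e.inv) (add_zero n)) := by
      rw [γH_comp_mk₀, γH_comp_mk₀, hxy]
    have := congrArg (fun z => z.comp (Ext.mk₀ e.hom) (add_zero n)) (h hx)
    simpa using this
  · intro h y
    obtain ⟨x, hx⟩ := h (y.comp (Ext.mk₀ ((EtCoh.pull f).map e.inv)) (add_zero n))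
    refine ⟨x.comp (Ext.mk₀ e.hom) (add_zero n), ?_⟩
    rw [γH_comp_mk₀, hx]
    simp [← Functor.map_comp]

section ladder

variable {S : ShortComplex (EtCoh.Ab X)} (hS : S.ShortExact) (hI : ∀ p, Function.Bijective (γH f S.X₂ p))

include hS hI in
theorem ladder₁ (p : ℕ) (hQ : Function.Injective (γH f S.X₃ p)) : Function.Injective (γH f S.X₁ (p + 1)) := by
  refine (injective_iff_map_eq_zero _).2 fun x hx => ?_
  have h1 : x.comp (Ext.mk₀ S.f) (add_zero _) = 0 :=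
    (hI _).1 (by rw [γH_comp_mk₀, hx, map_zero, Ext.zero_comp])
  obtain ⟨w, rfl⟩ := Ext.covariant_sequence_exact₁ _ hS x h1 rfl
  rw [γH_comp, Ext.mapExactFunctor_extClass _ hS] at hx
  obtain ⟨v, hv⟩ := Ext.covariant_sequence_exact₃ _ (hS.map_of_exact (EtCoh.pull f)) _ rfl hx
  obtain ⟨v', rfl⟩ := (hI p).2 v
  have hw : v'.comp (Ext.mk₀ S.g) (add_zero p) = w := hQ ((γH_comp_mk₀ f v' S.g).trans hv)
  rw [← hw, Ext.comp_assoc (a₂₃ := 1) _ _ _ (add_zero p) (zero_add 1) (by lia), hS.comp_extClass, Ext.comp_zero]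

include hS hI in
theorem ladder₂ (p : ℕ) (h₀ : Function.Injective (γH f S.X₃ p))
    (h₁ : ∀ q, q + 1 = p → Function.Surjective (γH f S.X₃ q)) : Function.Surjective (γH f S.X₁ p) := by
  intro y
  obtain ⟨z, hz⟩ := (hI p).2 (y.comp (Ext.mk₀ ((EtCoh.pull f).map S.f)) (add_zero p))
  have h1 : z.comp (Ext.mk₀ S.g) (add_zero p) = 0 := by
    apply h₀
    rw [γH_comp_mk₀, hz, map_zero]
    simp [← Functor.map_comp]
  obtain ⟨x, rfl⟩ := Ext.covariant_sequence_exact₂ _ hS z h1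
  have h2 : (γH f S.X₁ p x - y).comp (Ext.mk₀ ((EtCoh.pull f).map S.f)) (add_zero p) = 0 := by
    have := (γH_comp_mk₀ f x S.f).symm.trans hz
    rw [sub_eq_add_neg, Ext.add_comp, Ext.neg_comp, this, add_neg_cancel]
  cases p with
  | zero =>
    haveI : Mono ((EtCoh.pull f).map S.f) := (hS.map_of_exact (EtCoh.pull f)).mono_f
    obtain ⟨φ, hφ⟩ := (Ext.mk₀_bijective _ _).2 (γH f S.X₁ 0 x - y)
    rw [← hφ, Ext.mk₀_comp_mk₀] at h2
    have h3 : φ ≫ (EtCoh.pull f).map S.f = 0 := (Ext.mk₀_bijective _ _).1 (h2.trans (Ext.mk₀_zero _ _).symm)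
    exact ⟨x, sub_eq_zero.1 (by rw [← hφ, (cancel_mono ((EtCoh.pull f).map S.f)).1 (h3.trans zero_comp.symm), Ext.mk₀_zero])⟩
  | succ q =>
    obtain ⟨w, hw⟩ := Ext.covariant_sequence_exact₁ _ (hS.map_of_exact (EtCoh.pull f)) _ h2 rfl
    obtain ⟨w', rfl⟩ := h₁ q rfl w
    refine ⟨x - w'.comp hS.extClass rfl, ?_⟩
    rw [map_sub, γH_comp, Ext.mapExactFunctor_extClass _ hS]
    exact sub_eq_iff_eq_add.2 ((sub_eq_iff_eq_add.1 hw.symm).trans (add_comm _ _))

include hS hI in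
theorem ladder₃ (p : ℕ) (h₁ : Function.Injective (γH f S.X₁ (p + 1))) (h₀ : Function.Surjective (γH f S.X₁ p)) :
    Function.Injective (γH f S.X₃ p) := by
  refine (injective_iff_map_eq_zero _).2 fun q hq => ?_
  have h2 : q.comp hS.extClass rfl = 0 := by
    apply h₁
    rw [γH_comp, hq, map_zero, Ext.zero_comp]
  obtain ⟨x, rfl⟩ := Ext.covariant_sequence_exact₃ _ hS q rfl h2
  rw [γH_comp_mk₀] at hq
  obtain ⟨y, hy⟩ := Ext.covariant_sequence_exact₂ _ (hS.map_of_exact (EtCoh.pull f)) (γH f S.X₂ p x) hq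
  obtain ⟨z, rfl⟩ := h₀ y
  have : z.comp (Ext.mk₀ S.f) (add_zero p) = x := (hI p).1 ((γH_comp_mk₀ f z S.f).trans hy)
  rw [← this]
  simp

include hS hI in
theorem ladder₄ (p : ℕ) (h₁ : Function.Surjective (γH f S.X₁ (p + 1))) :
    Function.Surjective (γH f S.X₃ p) := by
  intro y
  obtain ⟨x, hx⟩ := h₁ (y.comp (hS.map_of_exact (EtCoh.pull f)).extClass rfl)
  have h2 : x.comp (Ext.mk₀ S.f) (add_zero _) = 0 := by
    apply (hI _).1
    rw [γH_comp_mk₀, hx, map_zero, Ext.comp_assoc (a₂₃ := 1) _ _ _ rfl (add_zero 1) (by lia)]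
    erw [(hS.map_of_exact (EtCoh.pull f)).extClass_comp]
    simp
  obtain ⟨w, rfl⟩ := Ext.covariant_sequence_exact₁ _ hS x h2 rfl
  rw [γH_comp, Ext.mapExactFunctor_extClass _ hS] at hx
  have h3 : (y - γH f S.X₃ p w).comp (hS.map_of_exact (EtCoh.pull f)).extClass rfl = 0 := by
    rw [sub_eq_add_neg, Ext.add_comp, Ext.neg_comp, ← sub_eq_add_neg]
    exact sub_eq_zero.2 hx.symm
  obtain ⟨v, hv⟩ := Ext.covariant_sequence_exact₃ _ (hS.map_of_exact (EtCoh.pull f)) _ rfl h3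
  obtain ⟨v', rfl⟩ := (hI p).2 v
  refine ⟨w + v'.comp (Ext.mk₀ S.g) (add_zero p), ?_⟩
  rw [map_add, γH_comp_mk₀]
  erw [hv]
  abel

end ladder

theorem κ_γH₀ (G : EtCoh.Ab X) (φ : EtCoh.const X ℤ ⟶ G) :
    κ ((EtCore.pullConst f ℤ).inv ≫ (EtCoh.pull f).map φ) = r f (δtop f) G (κ φ) := by
  rw [κ_comp, κ_pullConst f (δtop f)]
  exact r_natural f (δtop f) φ (one X)

theorem γH_zero_apply (G : EtCoh.Ab X) (φ : EtCoh.const X ℤ ⟶ G) :
    γH f G 0 (Ext.mk₀ φ) = Ext.mk₀ ((EtCore.pullConst f ℤ).inv ≫ (EtCoh.pull f).map φ) :=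
  T_mk₀ _ _ φ

theorem γH_zero_injective_iff (G : EtCoh.Ab X) :
    Function.Injective (γH f G 0) ↔
      ∀ s : EtCoh.sect G (EtCoh.top X), (EtDual.unitApp f G).hom.app (op (EtCoh.top X)) s = 0 → s = 0 := by
  haveI : IsIso (δtop f) := by unfold δtop; infer_instance
  have hr (s : EtCoh.sect G (EtCoh.top X)) :
      r f (δtop f) G s = 0 ↔ (EtDual.unitApp f G).hom.app (op (EtCoh.top X)) s = 0 :=
    map_eq_zero_iff _ (ConcreteCategory.bijective_of_isIso (((EtCoh.pull f).obj G).obj.map (δtop f).op)).1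
  constructor
  · intro h s hs
    obtain ⟨φ, rfl⟩ := (κ_bijective G).2 s
    have : γH f G 0 (Ext.mk₀ φ) = γH f G 0 0 := by
      rw [map_zero, γH_zero_apply, ← Ext.mk₀_zero]
      congr 1
      apply (κ_bijective _).1
      rw [κ_γH₀, (hr _).2 hs]
      rfl
    have h2 : φ = 0 := (Ext.mk₀_bijective _ _).1 ((h this).trans (Ext.mk₀_zero _ _).symm)
    rw [h2]
    rfl
  · intro h
    refine (injective_iff_map_eq_zero _).2 fun x hx => ?_
    obtain ⟨φ, rfl⟩ := (Ext.mk₀_bijective _ _).2 x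
    rw [γH_zero_apply] at hx
    have h1 := (Ext.mk₀_bijective _ _).1 (hx.trans (Ext.mk₀_zero _ _).symm)
    have h2 : κ φ = 0 := h _ ((hr _).1 (by rw [← κ_γH₀, h1]; rfl))
    rw [show φ = 0 from (κ_bijective G).1 (h2.trans rfl), Ext.mk₀_zero]

theorem γH_bijective_injective [IsOpenImmersion f] (I : EtCoh.Ab X) [Injective I]
    (h0 : Function.Injective (γH f I 0)) : ∀ p, Function.Bijective (γH f I p)
  | 0 => by
    refine ⟨h0, fun y => ?_⟩
    obtain ⟨ψ, rfl⟩ := (Ext.mk₀_bijective _ _).2 y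
    haveI : IsIso (δtop f) := by unfold δtop; infer_instance
    obtain ⟨b, hb⟩ := (ConcreteCategory.bijective_of_isIso (((EtCoh.pull f).obj I).obj.map (δtop f).op)).2 (κ ψ)
    obtain ⟨s, hs⟩ := unit_surjective f I (EtCoh.top X) b
    obtain ⟨φ, rfl⟩ := (κ_bijective I).2 s
    refine ⟨Ext.mk₀ φ, ?_⟩
    rw [γH_zero_apply]
    congr 1
    apply (κ_bijective _).1
    rw [κ_γH₀, r]
    exact (congrArg _ hs).trans hb
  | p + 1 => by
    haveI := pull_etale_preservesInjective f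
    haveI : Injective ((EtCoh.pull f).obj I) := (EtCoh.pull f).injective_obj I
    exact ⟨fun a b _ => (Ext.eq_zero_of_injective a).trans (Ext.eq_zero_of_injective b).symm,
      fun y => ⟨0, (map_zero _).trans (Ext.eq_zero_of_injective y).symm⟩⟩

end Groth.Agent.EtMV
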