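import Mathlib
import Groth.Agent.EtMV.DepthH
import Groth.Agent.EtMV.LocRestr

/-! Etale depth via cohomology of etale schemes over the base. -/

universe u

open CategoryTheory CategoryTheory.Limits CategoryTheory.Abelian AlgebraicGeometry Opposite

set_option backward.isDefEq.respectTransparency false
set_option backward.isDefEq.respectTransparency.types false

noncomputable section

namespace Groth.Agent.EtMV

set_option linter.auxLemma false
attribute [local instance 100000] EtCoh.H._proof_1 hext
attribute [local instance 200000] hextAb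

variable {X U : Scheme.{u}} (j : U ⟶ X) [IsOpenImmersion j] [EtCoh.BCCont j]

/-- The restriction condition. -/
def HCond (F : EtCoh.Ab X) (n : ℕ) : Prop :=
  ∀ (X' : Scheme.{u}) (g : X' ⟶ X) [Etale g] [EtShriek.JCont g] [PreservesFiniteLimits (EtCoh.pull (jW j g))],
    (∀ p, p + 1 < n → Function.Bijective (γH (jW j g) ((EtShriek.restrAlong g).obj F) p)) ∧
      (∀ p, p + 1 = n → Function.Injective (γH (jW j g) ((EtShriek.restrAlong g).obj F) p))

theorem secSupp_zero_of_hcond (F : EtCoh.Ab X) (n : ℕ) (h : HCond j F (n + 1)) :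
    IsZero ((EtDual.secSupp j).obj F) := by
  rw [IsZero.iff_id_eq_zero]
  refine Sheaf.hom_ext (NatTrans.ext (funext fun T => ?_))
  ext s
  obtain ⟨T⟩ := T
  let g : T.left ⟶ X := T.hom
  haveI : Etale g := T.prop
  haveI := jcont_etale g
  haveI := EtPullExact.pull_preservesFiniteLimits (jW j g)
  have hinj : Function.Injective (γH (jW j g) ((EtShriek.restrAlong g).obj F) 0) := by
    rcases n with _ | n
    · exact (h T.left g).2 0 rfl
    · exact ((h T.left g).1 0 (by omega)).1
  let R := EtShriek.restrAlong g
  let T' : X.Etale := (EtShriek.compEtale g).obj (EtCoh.top T.left)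
  let i : T' ≅ T := MorphismProperty.Over.isoMk (Iso.refl _) rfl
  let s' : EtCoh.sect ((EtDual.secSupp j).obj F) T' := ((EtDual.secSupp j).obj F).obj.map i.hom.op s
  have h0 : ((lcι j).app F).hom.app (op T') s' = 0 :=
    (γH_zero_injective_iff (jW j g) _).1 hinj _
      (ConcreteCategory.congr_hom (congr_app (congrArg (fun k => k.hom) (restr_ι_unit j g F)) (op (EtCoh.top T.left))) s')
  haveI := mono_lcι j F
  have hs' : s' = 0 := EtFLC.app_injective ((lcι j).app F) T' (h0.trans (map_zero _).symm)
  exact (ConcreteCategory.bijective_of_isIso (((EtDual.secSupp j).obj F).obj.map i.hom.op)).1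
    (hs'.trans (map_zero _).symm)

theorem injective_γH_zero_of_secSupp_zero {X' : Scheme.{u}} (g : X' ⟶ X) [Etale g] [EtShriek.JCont g]
    [PreservesFiniteLimits (EtCoh.pull (jW j g))] (F : EtCoh.Ab X) (h : IsZero ((EtDual.secSupp j).obj F)) :
    Function.Injective (γH (jW j g) ((EtShriek.restrAlong g).obj F) 0) := by
  rw [γH_zero_injective_iff]
  intro s hs
  obtain ⟨t, ht⟩ := EtFLC.exists_kernel_sect (EtDual.unitApp (jW j g) _) s hs
  haveI := isIso_cmpSupp j g F
  have hz : IsZero ((EtDual.secSupp (jW j g)).obj ((EtShriek.restrAlong g).obj F)) :=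
    ((EtShriek.restrAlong g).map_isZero h).of_iso (asIso ((cmpSupp j g).app F)).symm
  haveI := AddCommGrpCat.subsingleton_of_isZero ((Γ₀ X').map_isZero hz)
  rw [← ht, Subsingleton.elim (α := (Γ₀ X').obj ((EtDual.secSupp (jW j g)).obj ((EtShriek.restrAlong g).obj F))) t 0]
  exact map_zero _

theorem depthGE_iff_hcond (n : ℕ) : ∀ F : EtCoh.Ab X, EtDepth.DepthGE j F n ↔ HCond j F n := by
  haveI := preservesFiniteLimits_secSupp j
  induction n with
  | zero => exact fun F => ⟨fun _ X' g _ _ _ => ⟨fun p hp => absurd hp (by omega), fun p hp => absurd hp (by omega)⟩,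
      fun _ p hp => absurd hp p.not_lt_zero⟩
  | succ n ih =>
    intro F
    suffices H : IsZero ((EtDual.secSupp j).obj F) → (EtDepth.DepthGE j F (n + 1) ↔ HCond j F (n + 1)) by
      constructor
      · intro h
        exact (H ((h 0 n.succ_pos).of_iso ((EtDual.secSupp j).rightDerivedZeroIsoSelf.app F).symm)).1 h
      · intro h
        exact (H (secSupp_zero_of_hcond j F n h)).2 h
    intro h0
    haveI : Mono (EtDual.unitApp j F) := Preadditive.mono_of_kernel_zero (h0.eq_of_src _ _)
    let J := Injective.under ((EtCoh.pull j).obj F)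
    let I := (EtCoh.push j).obj J
    haveI : Injective I := EtPullExact.push_injective j J
    have hI0 : IsZero ((EtDual.secSupp j).obj I) := by
      haveI : Mono (EtDual.unitApp j I) :=
        mono_of_mono_fac ((EtCoh.pullPushAdj j).right_triangle_components J)
      exact isZero_kernel_of_mono (EtDual.unitApp j I)
    let f : F ⟶ I := EtDual.unitApp j F ≫ (EtCoh.push j).map (Injective.ι _)
    let S : ShortComplex (EtCoh.Ab X) := ShortComplex.mk f (cokernel.π f) (cokernel.condition f)
    have hS : S.ShortExact :=
      { exact := ShortComplex.exact_of_g_is_cokernel _ (cokernelIsCokernel f) }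
    haveI : Injective S.X₂ := ‹Injective I›
    have hdep : EtDepth.DepthGE j F (n + 1) ↔ EtDepth.DepthGE j S.X₃ n := by
      constructor
      · intro h q hq
        obtain ⟨e⟩ := nonempty_shift_iso (EtDual.secSupp j) S hS hI0 q
        exact (h (q + 1) (by omega)).of_iso e
      · intro h p hp
        cases p with
        | zero => exact h0.of_iso ((EtDual.secSupp j).rightDerivedZeroIsoSelf.app F)
        | succ q =>
          obtain ⟨e⟩ := nonempty_shift_iso (EtDual.secSupp j) S hS hI0 q
          exact (h q (by omega)).of_iso e.symm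
    rw [hdep, ih]
    constructor
    · intro h X' g _ _ _
      haveI := restrAlong_preservesFiniteLimits g
      haveI := restrAlong_preservesFiniteColimits g
      haveI := restrAlong_preservesInjective g
      haveI : (EtShriek.restrAlong g).Additive := Functor.additive_of_preserves_binary_products _
      have hSg : (S.map (EtShriek.restrAlong g)).ShortExact := hS.map_of_exact _
      haveI : Injective (S.map (EtShriek.restrAlong g)).X₂ := (EtShriek.restrAlong g).injective_obj I
      have hb := γH_bijective_injective (jW j g) (S.map (EtShriek.restrAlong g)).X₂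
        (injective_γH_zero_of_secSupp_zero j g I hI0)
      have hinj : ∀ p, p + 1 ≤ n → Function.Injective (γH (jW j g) (S.map (EtShriek.restrAlong g)).X₃ p) :=
        fun p hp => (Nat.lt_or_ge (p + 1) n).elim (fun hlt => ((h X' g).1 p hlt).1)
          (fun hge => (h X' g).2 p (by omega))
      have hF : ∀ p, p ≤ n → Function.Injective (γH (jW j g) (S.map (EtShriek.restrAlong g)).X₁ p) := by
        rintro (_ | p) hp
        · exact injective_γH_zero_of_secSupp_zero j g F h0
        · exact ladder₁ _ hSg hb p (hinj p hp)
      exact ⟨fun p hp => ⟨hF p (by omega), ladder₂ _ hSg hb p (hinj p (by omega))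
        (fun q hq => ((h X' g).1 q (by omega)).2)⟩, fun p hp => hF p (by omega)⟩
    · intro h X' g _ _ _
      haveI := restrAlong_preservesFiniteLimits g
      haveI := restrAlong_preservesFiniteColimits g
      haveI := restrAlong_preservesInjective g
      haveI : (EtShriek.restrAlong g).Additive := Functor.additive_of_preserves_binary_products _
      have hSg : (S.map (EtShriek.restrAlong g)).ShortExact := hS.map_of_exact _
      haveI : Injective (S.map (EtShriek.restrAlong g)).X₂ := (EtShriek.restrAlong g).injective_obj I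
      have hb := γH_bijective_injective (jW j g) (S.map (EtShriek.restrAlong g)).X₂
        (injective_γH_zero_of_secSupp_zero j g I hI0)
      have hinj : ∀ p, p ≤ n → Function.Injective (γH (jW j g) ((EtShriek.restrAlong g).obj F) p) :=
        fun p hp => (Nat.lt_or_ge p n).elim (fun hlt => ((h X' g).1 p (by omega)).1)
          (fun hge => (h X' g).2 p (by omega))
      have hQ : ∀ p, p + 1 ≤ n → Function.Injective (γH (jW j g) (S.map (EtShriek.restrAlong g)).X₃ p) :=
        fun p hp => ladder₃ _ hSg hb p (hinj (p + 1) hp) ((h X' g).1 p (by omega)).2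
      exact ⟨fun p hp => ⟨hQ p (by omega), ladder₄ _ hSg hb p ((h X' g).1 (p + 1) (by omega)).2⟩,
        fun p hp => hQ p (by omega)⟩

theorem depthGE_iff_Hpull (F : EtCoh.Ab X) (n : ℕ) :
    EtDepth.DepthGE j F n ↔ ∀ (X' : Scheme.{u}) (g : X' ⟶ X) [Etale g]
      [PreservesFiniteLimits (EtCoh.pull (pullback.snd j g))],
      (∀ p : ℕ, p + 1 < n → Function.Bijective (EtCore.Hpull (pullback.snd j g) ((EtCoh.pull g).obj F) p)) ∧
        (∀ p : ℕ, p + 1 = n → Function.Injective (EtCore.Hpull (pullback.snd j g) ((EtCoh.pull g).obj F) p)) := by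
  rw [depthGE_iff_hcond]
  constructor
  · intro h X' g _ _
    haveI := jcont_etale g
    let e := (EtPushStalk.restrPullIso g).app F
    obtain ⟨h1, h2⟩ := h X' g
    refine ⟨fun p hp => ?_, fun p hp => ?_⟩
    · rw [Hpull_eq_γH]
      exact (toH _ _ _).bijective.comp (Function.Bijective.comp
        ⟨(γH_bijective_iff_of_iso _ e p).1 (h1 p hp).1, (γH_bijective_iff_of_iso _ e p).2 (h1 p hp).2⟩
        (toH _ _ _).symm.bijective)
    · rw [Hpull_eq_γH]
      exact (toH _ _ _).injective.comp (((γH_bijective_iff_of_iso _ e p).1 (h2 p hp)).comp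
        (toH _ _ _).symm.injective)
  · intro h X' g _ _ _
    let e := ((EtPushStalk.restrPullIso g).app F).symm
    obtain ⟨h1, h2⟩ := h X' g
    refine ⟨fun p hp => ?_, fun p hp => ?_⟩
    · have := h1 p hp
      rw [Hpull_eq_γH] at this
      have hb : Function.Bijective (γH (jW j g) ((EtCoh.pull g).obj F) p) :=
        (Function.Bijective.of_comp_iff _ (toH _ _ _).symm.bijective).1
          ((Function.Bijective.of_comp_iff' (toH _ _ _).bijective _).1 this)
      exact ⟨(γH_bijective_iff_of_iso _ e p).1 hb.1, (γH_bijective_iff_of_iso _ e p).2 hb.2⟩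
    · have := h2 p hp
      rw [Hpull_eq_γH] at this
      have hi : Function.Injective (γH (jW j g) ((EtCoh.pull g).obj F) p) :=
        (Function.Injective.of_comp_iff' _ (toH _ _ _).symm.bijective).1 this.of_comp
      exact (γH_bijective_iff_of_iso _ e p).1 hi

end Groth.Agent.EtMV
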