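import Mathlib
import Groth.Prelude.Def_EtDepth
import Groth.Agent.W7Cech.EdgeOut

/-! The comparison `H^q (Ψ K) → Ψ (H^q K)` when terms and homology are acyclic below degree `q`. -/

set_option autoImplicit false
set_option backward.isDefEq.respectTransparency false
set_option linter.style.haveILetI false

universe v₂ v₃ u₂ u₃

open CategoryTheory CategoryTheory.Limits

noncomputable section

namespace Groth.Agent.EtMV

open Groth.Agent.W7Cech (seqBd seqBd_shortExact seqCyc_shortExact isIso_cyclesComparison)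

variable {B : Type u₂} [Category.{v₂} B] [Abelian B] {C : Type u₃} [Category.{v₃} C] [Abelian C]
  {Ψ : B ⥤ C} [Ψ.Additive] [PreservesFiniteLimits Ψ] {P : B → Prop} (K : CochainComplex B ℕ)

lemma cycles_of_lt (h : W7Cech.AcycClass Ψ P) (q : ℕ) (hX : ∀ n < q, P (K.X n))
    (hH : ∀ n < q, P (K.homology n)) : ∀ n < q, P (K.cycles n)
  | 0, h0 =>
    haveI := K.isIso_homologyπ _ 0 rfl (K.shape _ _ (by simp))
    h.of_iso (asIso (K.homologyπ 0)).symm (hH 0 h0)
  | n + 1, hn => h.middle (seqBd_shortExact K n)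
      (h.right (seqCyc_shortExact K n) (cycles_of_lt h q hX hH n (by omega)) (hX n (by omega))) (hH (n + 1) hn)

/-- Terms and homology acyclic: `Ψ` commutes with homology. -/
theorem isIso_homologyComparison_of_lt (h : W7Cech.AcycClass Ψ P) (q : ℕ) (hX : ∀ n < q, P (K.X n))
    (hH : ∀ n < q, P (K.homology n)) : IsIso (RDer.homologyComparison Ψ K q) := by
  haveI := isIso_cyclesComparison (Ψ := Ψ) K q
  let L := (Ψ.mapHomologicalComplex _).obj K
  rcases q with _ | n
  · haveI := K.isIso_homologyπ _ 0 rfl (K.shape _ _ (by simp))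
    haveI := L.isIso_homologyπ _ 0 rfl (L.shape _ _ (by simp))
    have : RDer.homologyComparison Ψ K 0 =
        inv (L.homologyπ 0) ≫ RDer.cyclesComparison Ψ K 0 ≫ Ψ.map (K.homologyπ 0) := by
      rw [IsIso.eq_inv_comp, RDer.homologyπ_homologyComparison]
    rw [this]
    infer_instance
  · let S := seqBd K n
    have hS := seqBd_shortExact K n
    have hbd : P S.X₁ := h.right (seqCyc_shortExact K n) (cycles_of_lt K h (n + 1) hX hH n n.lt_succ_self) (hX n n.lt_succ_self)
    haveI : Epi (Ψ.map S.g) := h.epi hS hbd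
    haveI : Epi (Ψ.map (cokernel.π (K.iCycles n))) := h.epi (seqCyc_shortExact K n) (cycles_of_lt K h (n + 1) hX hH n n.lt_succ_self)
    haveI := hS.mono_f
    have hex : (S.map Ψ).Exact := hS.exact.map_of_mono_of_preservesKernel Ψ ‹_› inferInstance
    haveI : Mono (RDer.homologyComparison Ψ K (n + 1)) := by
      rw [Preadditive.mono_iff_cancel_zero]
      intro W a ha
      obtain ⟨W', π, hπ, z, hz⟩ := surjective_up_to_refinements_of_epi (L.homologyπ (n + 1)) a
      have h1 : (z ≫ RDer.cyclesComparison Ψ K (n + 1)) ≫ Ψ.map (K.homologyπ (n + 1)) = 0 := by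
        rw [Category.assoc, ← RDer.homologyπ_homologyComparison, ← Category.assoc, ← hz, Category.assoc, ha, comp_zero]
      obtain ⟨W₁, π₁, hπ₁, b, hb⟩ := hex.exact_up_to_refinements (z ≫ RDer.cyclesComparison Ψ K (n + 1)) h1
      obtain ⟨W₂, π₂, hπ₂, c, hc⟩ := surjective_up_to_refinements_of_epi (Ψ.map (cokernel.π (K.iCycles n))) b
      have h2 : (π₂ ≫ π₁ ≫ z) = c ≫ L.toCycles n (n + 1) := by
        rw [← cancel_mono (RDer.cyclesComparison Ψ K (n + 1)), Category.assoc, Category.assoc, Category.assoc, hb,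
          reassoc_of% hc]
        have ht := RDer.toCycles_cyclesComparison Ψ K (n + 1)
        rw [show (ComplexShape.up ℕ).prev (n + 1) = n from CochainComplex.prev_nat_succ n] at ht
        rw [ht]
        change c ≫ Ψ.map (cokernel.π (K.iCycles n)) ≫ Ψ.map _ = c ≫ _
        rw [← Ψ.map_comp, cokernel.π_desc]
      haveI := hπ; haveI := hπ₁; haveI := hπ₂
      rw [← cancel_epi (π₂ ≫ π₁ ≫ π), comp_zero, Category.assoc, Category.assoc, hz, ← Category.assoc π₁,
        ← Category.assoc π₂, h2, Category.assoc, HomologicalComplex.toCycles_comp_homologyπ, comp_zero]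
    haveI : Epi (RDer.homologyComparison Ψ K (n + 1)) := by
      haveI : Epi (Ψ.map (K.homologyπ (n + 1))) := ‹Epi (Ψ.map S.g)›
      haveI : Epi (L.homologyπ (n + 1) ≫ RDer.homologyComparison Ψ K (n + 1)) := by
        rw [RDer.homologyπ_homologyComparison]
        infer_instance
      exact epi_of_epi (L.homologyπ (n + 1)) _
    exact isIso_of_mono_of_epi _

end Groth.Agent.EtMV
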