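import Mathlib
import Groth.Prelude.Def_EtDepth
import Groth.Agent.EtMV.HomCmp
import Groth.Agent.EtMV.LocEdge

/-! The edge map `H^n_Y(X, F) ⟶ Γ(H^n_Y F)` is an isomorphism under depth `≥ n`. -/

universe u

open CategoryTheory CategoryTheory.Limits AlgebraicGeometry Opposite

set_option backward.isDefEq.respectTransparency false
set_option backward.isDefEq.respectTransparency.types false

noncomputable section

namespace Groth.Agent.EtMV

variable {X U : Scheme.{u}} (j : U ⟶ X) [IsOpenImmersion j] [EtCoh.BCCont j]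

theorem acycClass_Γ₀ (X : Scheme.{u}) [(Γ₀ X).Additive] [PreservesFiniteLimits (Γ₀ X)] :
    W7Cech.AcycClass (Γ₀ X) (fun N => ∀ q : ℕ, IsZero (((Γ₀ X).rightDerived (q + 1)).obj N)) where
  of_iso e h q := (h q).of_iso (((Γ₀ X).rightDerived (q + 1)).mapIso e).symm
  right {S} hS h₁ h₂ q :=
    ((RDerLib.exact₃ (Γ₀ X) (RDerLib.res hS) (q + 1) (q + 2) rfl)).isZero_X₂
      ((h₂ q).eq_of_src _ _) ((h₁ (q + 1)).eq_of_tgt _ _)
  middle {S} hS h₁ h₃ q :=
    ((RDerLib.exact₂ (Γ₀ X) (RDerLib.res hS) (q + 1))).isZero_X₂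
      ((h₁ q).eq_of_src _ _) ((h₃ q).eq_of_tgt _ _)
  epi {S} hS h₁ := by
    have he : Epi (((Γ₀ X).rightDerived 0).map S.g) :=
      (RDerLib.exact₃ (Γ₀ X) (RDerLib.res hS) 0 1 rfl).epi_f ((h₁ 0).eq_of_tgt _ _)
    exact ((MorphismProperty.epimorphisms _).arrow_mk_iso_iff
      (((Functor.mapArrowFunctor _ _).mapIso (Γ₀ X).rightDerivedZeroIsoSelf).app (Arrow.mk S.g))).1 he

theorem acyc_secSupp_injective [(Γ₀ X).Additive] [PreservesFiniteLimits (Γ₀ X)] (I : EtCoh.Ab X) [Injective I]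
    (q : ℕ) : IsZero (((Γ₀ X).rightDerived (q + 1)).obj ((EtDual.secSupp j).obj I)) := by
  haveI := pull_etale_preservesInjective j
  haveI : Injective ((EtCoh.pull j).obj I) := (EtCoh.pull j).injective_obj I
  haveI : Injective ((pp j).obj I) := EtPullExact.push_injective j _
  let S := ShortComplex.mk ((lcι j).app I) ((lcη j).app I) (by rw [← NatTrans.comp_app, lcι_lcη]; rfl)
  have hS : S.ShortExact := shortExact_lc j I ‹_›
  haveI : Injective S.X₂ := ‹Injective I›
  haveI : Injective S.X₃ := ‹Injective ((pp j).obj I)›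
  refine (RDerLib.exact₁ (Γ₀ X) (RDerLib.res hS) q (q + 1) rfl).isZero_X₂ ?_
    (((Γ₀ X).isZero_rightDerived_obj_injective_succ q S.X₂).eq_of_tgt _ _)
  cases q with
  | succ k => exact ((Γ₀ X).isZero_rightDerived_obj_injective_succ k S.X₃).eq_of_src _ _
  | zero =>
    have h' : Epi ((Γ₀ X).map S.g) :=
      (AddCommGrpCat.epi_iff_surjective _).2 (unit_surjective j I (EtCoh.top X))
    haveI : Epi (((Γ₀ X).rightDerived 0).map S.g) := ((MorphismProperty.epimorphisms _).arrow_mk_iso_iff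
      (((Functor.mapArrowFunctor _ _).mapIso (Γ₀ X).rightDerivedZeroIsoSelf).app (Arrow.mk S.g))).2 h'
    rw [← cancel_epi (((Γ₀ X).rightDerived 0).map S.g), comp_zero]
    exact RDerLib.g_delta (Γ₀ X) (RDerLib.res hS) 0 1 rfl

theorem isIso_edgeOut_secSupp [(Γ₀ X).Additive] [PreservesFiniteLimits (Γ₀ X)] (F : EtCoh.Ab X) (n : ℕ)
    (h : EtDepth.DepthGE j F n) : IsIso (RDer.edgeOut (EtDual.secSupp j) (Γ₀ X) n F) := by
  let R := injectiveResolution F
  let K := ((EtDual.secSupp j).mapHomologicalComplex (ComplexShape.up ℕ)).obj R.cocomplex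
  haveI := isIso_homologyComparison_of_lt K (acycClass_Γ₀ X) n
    (fun m _ q => acyc_secSupp_injective j (R.cocomplex.X m) q)
    (fun m hm q => Functor.map_isZero _ ((h m hm).of_iso (R.isoRightDerivedObj (EtDual.secSupp j) m).symm))
  unfold RDer.edgeOut
  infer_instance

end Groth.Agent.EtMV
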